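import Cfsg.Agent.Lib.AltEight.SixOnSixteen
import Cfsg.Agent.Lib.RankFour.Sectional

/-!
Groups with a normal 2-subgroup and simple quotient of order 168: orbits on small sets and sections.
-/

set_option autoImplicit false
set_option linter.style.haveILetI false
set_option linter.unusedSectionVars false

namespace CfsgLib.RankFour.LThree

universe u v

variable {X : Type u} [Group X] [Finite X] {L : Type v} [Group L]

/-- The standing hypotheses: the quotient by a normal 2-subgroup is simple of order 168. -/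
structure Base (π : X →* L) : Prop where
  surj : Function.Surjective π
  two : IsPGroup 2 ↥π.ker
  rank : Cfsg.SectionalPRankLE 2 4 X
  simple : IsSimpleGroup L
  card : Nat.card L = 168

variable {π : X →* L}

theorem Base.finite (h : Base π) : Finite L := Nat.finite_of_card_ne_zero (by rw [h.card]; norm_num)

theorem Base.not_comm (h : Base π) : ¬ ∀ a b : L, a * b = b * a := by
  intro hc
  haveI := h.simple
  letI : CommGroup L := { (inferInstance : Group L) with mul_comm := hc }
  haveI : IsSimpleGroup L := h.simple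
  have hp := IsSimpleGroup.prime_card (α := L)
  rw [h.card] at hp
  norm_num at hp

theorem Base.exists_order_seven (h : Base π) : ∃ x : X, x ^ 7 = 1 ∧ π x ^ 7 = 1 ∧ π x ≠ 1 := by
  haveI := h.finite
  haveI : Fact (Nat.Prime 7) := ⟨by norm_num⟩
  obtain ⟨l, hl⟩ := exists_prime_orderOf_dvd_card' (G := L) 7 (by rw [h.card]; norm_num)
  obtain ⟨y, rfl⟩ := h.surj l
  have h7 : π y ^ 7 = 1 := hl ▸ pow_orderOf_eq_one _
  obtain ⟨k, hk⟩ := h.two ⟨y ^ 7, by rw [MonoidHom.mem_ker, map_pow, h7]⟩
  have hk' : (y ^ 7) ^ 2 ^ k = 1 := congrArg Subtype.val hk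
  refine ⟨y ^ 2 ^ k, by rw [← pow_mul, mul_comm, pow_mul, hk'], ?_, ?_⟩
  · rw [map_pow, ← pow_mul, mul_comm, pow_mul, h7, one_pow]
  · rw [map_pow, Ne, ← orderOf_dvd_iff_pow_eq_one, hl]
    intro hd
    exact absurd (Nat.Prime.dvd_of_dvd_pow (by norm_num) hd) (by norm_num)

/-- A normal subgroup not inside the kernel covers the quotient. -/
theorem Base.cover (h : Base π) (N : Subgroup X) [N.Normal] {a : X} (ha : a ∈ N) (ha1 : π a ≠ 1) (x : X) :
    ∃ n ∈ N, π n = π x := by
  haveI := h.simple
  rcases Subgroup.Normal.eq_bot_or_eq_top (Subgroup.Normal.map (inferInstance : N.Normal) π h.surj) with e | e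
  · exact absurd (Subgroup.mem_bot.mp (e ▸ Subgroup.mem_map_of_mem π ha)) ha1
  · obtain ⟨n, hn, hne⟩ := (e.symm ▸ Subgroup.mem_top (π x) : π x ∈ N.map π)
    exact ⟨n, hn, hne⟩

theorem Base.eq_top (h : Base π) (N : Subgroup X) [N.Normal] (hN : π.ker ≤ N) {a : X} (ha : a ∈ N)
    (ha1 : π a ≠ 1) : N = ⊤ := by
  refine eq_top_iff.mpr fun x _ => ?_
  obtain ⟨n, hn, hne⟩ := h.cover N ha ha1 x
  have : n⁻¹ * x ∈ N := hN (by rw [MonoidHom.mem_ker, map_mul, map_inv, hne, inv_mul_cancel])
  simpa using mul_mem hn this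

/-- A homomorphism to a commutative group that is trivial on the kernel is trivial. -/
theorem Base.hom_trivial (h : Base π) {A : Type*} [CommGroup A] (χ : X →* A) (hχ : π.ker ≤ χ.ker) (x : X) :
    χ x = 1 := by
  by_contra hx
  by_cases hN : ∃ a ∈ χ.ker, π a ≠ 1
  · obtain ⟨a, ha, ha1⟩ := hN
    exact hx (MonoidHom.mem_ker.mp (h.eq_top χ.ker hχ ha ha1 ▸ Subgroup.mem_top x))
  · push Not at hN
    refine h.not_comm fun a b => ?_
    obtain ⟨c, rfl⟩ := h.surj a
    obtain ⟨d, rfl⟩ := h.surj b
    have e := hN (c * d * c⁻¹ * d⁻¹) (by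
      rw [MonoidHom.mem_ker, map_mul, map_mul, map_mul, map_inv, map_inv, mul_comm (χ c) (χ d)]
      group)
    rw [map_mul, map_mul, map_mul, map_inv, map_inv] at e
    exact mul_inv_eq_iff_eq_mul.mp (mul_inv_eq_one.mp e)

theorem Base.index_eq_map (h : Base π) {S : Subgroup X} (hS : π.ker ≤ S) : (S.map π).index = S.index :=
  Subgroup.index_map_eq S h.surj hS

/-- There are no proper subgroups of index at most six above the kernel. -/
theorem Base.index_small (h : Base π) {S : Subgroup X} (hS : π.ker ≤ S) (hi : S.index ≤ 6) : S = ⊤ := by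
  by_contra hne
  haveI := h.simple
  haveI := h.finite
  set H := S.map π with hH
  have hidx : H.index = S.index := h.index_eq_map hS
  have hne' : H.index ≠ 1 := fun e => hne (Subgroup.index_eq_one.mp (hidx ▸ e))
  set f := MulAction.toPermHom L (L ⧸ H) with hf
  haveI : Fintype (L ⧸ H) := Fintype.ofFinite _
  rcases Subgroup.Normal.eq_bot_or_eq_top f.normal_ker with e | e
  · have hd := Subgroup.card_dvd_of_injective f ((MonoidHom.ker_eq_bot_iff f).mp e)
    rw [h.card, Nat.card_perm, ← Subgroup.index_eq_card, hidx] at hd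
    have h6 : Nat.factorial S.index ∣ Nat.factorial 6 := Nat.factorial_dvd_factorial hi
    have := hd.trans h6
    norm_num [Nat.factorial] at this
  · refine hne' (Subgroup.index_eq_one.mpr (eq_top_iff.mpr fun l _ => ?_))
    have h1 : l ∈ f.ker := e ▸ Subgroup.mem_top l
    have h2 := Equiv.ext_iff.mp (MonoidHom.mem_ker.mp h1) ((1 : L) : L ⧸ H)
    have h3 : ((l * 1 : L) : L ⧸ H) = ((1 : L) : L ⧸ H) := h2
    rw [mul_one, QuotientGroup.eq, mul_one] at h3
    exact inv_mem_iff.mp h3

/-- An element of 2-power order moving nothing on a point of an eight-point set leaves a point fixed by all. -/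
theorem Base.exists_fixed (h : Base π) (Ω : Type*) [MulAction X Ω] [Finite Ω] (h8 : Nat.card Ω = 8)
    (htriv : ∀ p ∈ π.ker, ∀ o : Ω, p • o = o) {x : X} (hx : π x ≠ 1) {k : ℕ} (h2 : π x ^ 2 ^ k = 1)
    {o : Ω} (hxo : x • o = o) : ∃ o' : Ω, ∀ g : X, g • o' = o' := by
  by_contra hno
  push Not at hno
  have horb : ∀ a : Ω, 7 ≤ Nat.card (MulAction.orbit X a) := by
    intro a
    by_contra hlt
    have hi : (MulAction.stabilizer X a).index ≤ 6 := by
      rw [MulAction.index_stabilizer, ← Nat.card_coe_set_eq]; omega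
    obtain ⟨g, hg⟩ := hno a
    exact hg (MulAction.mem_stabilizer_iff.mp
      (h.index_small (fun p hp => MulAction.mem_stabilizer_iff.mpr (htriv p hp a)) hi ▸ Subgroup.mem_top g))
  have hle : Nat.card (MulAction.orbit X o) ≤ 8 := h8 ▸ Finite.card_subtype_le _
  rcases (by have := horb o; omega : Nat.card (MulAction.orbit X o) = 7 ∨ Nat.card (MulAction.orbit X o) = 8)
    with e | e
  · obtain ⟨a, ha⟩ : ∃ a, a ∉ MulAction.orbit X o := by
      by_contra hall
      push Not at hall
      rw [Set.eq_univ_of_forall hall, Nat.card_coe_set_eq, Set.ncard_univ, h8] at e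
      omega
    have hd : Disjoint (MulAction.orbit X o) (MulAction.orbit X a) := by
      rw [Set.disjoint_left]
      intro b hb hb'
      exact ha (MulAction.orbit_eq_iff.mpr hb ▸ MulAction.orbit_eq_iff.mpr hb' ▸ MulAction.mem_orbit_self a)
    have h1 := Set.ncard_union_eq hd (Set.toFinite _) (Set.toFinite _)
    have h2' : (MulAction.orbit X o ∪ MulAction.orbit X a).ncard ≤ 8 := by
      rw [← h8, ← Set.ncard_univ Ω]
      exact Set.ncard_le_ncard (Set.subset_univ _) (Set.toFinite _)
    have h3 := horb a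
    rw [Nat.card_coe_set_eq] at e h3
    omega
  · have hker : π.ker ≤ MulAction.stabilizer X o := fun p hp => MulAction.mem_stabilizer_iff.mpr (htriv p hp o)
    have hidx : ((MulAction.stabilizer X o).map π).index = 8 := by
      rw [h.index_eq_map hker, MulAction.index_stabilizer, ← Nat.card_coe_set_eq, e]
    haveI := h.finite
    have hc := Subgroup.card_mul_index ((MulAction.stabilizer X o).map π)
    rw [hidx, h.card] at hc
    have hd := Subgroup.orderOf_dvd_natCard _ (Subgroup.mem_map_of_mem π (MulAction.mem_stabilizer_iff.mpr hxo))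
    rw [show Nat.card ((MulAction.stabilizer X o).map π) = 21 by omega] at hd
    have hd2 : orderOf (π x) ∣ 2 ^ k := orderOf_dvd_of_pow_eq_one h2
    have hcop : Nat.Coprime 21 (2 ^ k) := Nat.Coprime.pow_right k (by norm_num)
    exact hx (orderOf_eq_one_iff.mp (Nat.eq_one_of_dvd_coprimes hcop hd hd2))

/-- The version for conjugation on a set of eight elements centralised by the kernel. -/
theorem Base.exists_central_mem (h : Base π) (T : Set X) (hinv : ∀ g : X, ∀ t ∈ T, g * t * g⁻¹ ∈ T)
    (h8 : T.ncard = 8) (htriv : ∀ p ∈ π.ker, ∀ t ∈ T, p * t = t * p) {x : X} (hx : π x ≠ 1)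
    {k : ℕ} (h2 : π x ^ 2 ^ k = 1) {t : X} (ht : t ∈ T) (hxt : x * t = t * x) :
    ∃ t' ∈ T, ∀ g : X, g * t' = t' * g := by
  letI : MulAction X T :=
    { smul := fun g t => ⟨g * t * g⁻¹, hinv g _ t.2⟩
      one_smul := fun t => Subtype.ext (show (1 : X) * t * (1 : X)⁻¹ = t by group)
      mul_smul := fun a b t => Subtype.ext (show a * b * t * (a * b)⁻¹ = a * (b * t * b⁻¹) * a⁻¹ by group) }
  obtain ⟨o, ho⟩ := h.exists_fixed T (by rw [Nat.card_coe_set_eq, h8])
    (fun p hp t => Subtype.ext (show p * t * p⁻¹ = t by rw [htriv p hp _ t.2]; group)) hx h2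
    (o := ⟨t, ht⟩) (Subtype.ext (show x * t * x⁻¹ = t by rw [hxt]; group))
  refine ⟨o, o.2, fun g => ?_⟩
  exact mul_inv_eq_iff_eq_mul.mp (congrArg Subtype.val (ho g) : g * (o : X) * g⁻¹ = o)

/-- A section of exponent two centralised by the kernel. -/
structure Sec (π : X →* L) (A B : Subgroup X) : Prop where
  le : A ≤ B
  normA : A.Normal
  normB : B.Normal
  sub : B ≤ π.ker
  sq : ∀ b ∈ B, b * b ∈ A
  triv : ∀ p ∈ π.ker, ∀ b ∈ B, p * b * p⁻¹ * b⁻¹ ∈ A

/-- The action on a section. -/
structure Model (π : X →* L) (A B : Subgroup X) where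
  Q : Type u
  grp : CommGroup Q
  fin : Finite Q
  f : X → Q
  α : X →* MulAut Q
  mul : ∀ a ∈ B, ∀ b ∈ B, f (a * b) = f a * f b
  one_iff : ∀ b ∈ B, f b = 1 ↔ b ∈ A
  surj : ∀ w : Q, ∃ b ∈ B, f b = w
  conj : ∀ x : X, ∀ b ∈ B, f (x * b * x⁻¹) = α x (f b)
  two : ∀ w : Q, w * w = 1
  ker : π.ker ≤ α.ker
  card : Nat.card Q = A.relIndex B

open scoped Classical in
theorem Sec.exists_model {A B : Subgroup X} (h : Sec π A B) : Nonempty (Model π A B) := by
  haveI := h.normA
  haveI := h.normB
  let N : Subgroup B := A.subgroupOf B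
  have hone : ∀ {b : B}, ((b : B ⧸ N) = 1) ↔ (b : X) ∈ A := fun {b} => by
    rw [QuotientGroup.eq_one_iff]; exact Subgroup.mem_subgroupOf
  have h2 : ∀ v : B ⧸ N, v * v = 1 := by
    intro v
    induction v using QuotientGroup.induction_on with
    | H b => rw [← QuotientGroup.mk_mul, hone]; exact h.sq b b.2
  have hinv : ∀ v : B ⧸ N, v⁻¹ = v := fun v => inv_eq_of_mul_eq_one_left (h2 v)
  have hcomm : ∀ v w : B ⧸ N, v * w = w * v := fun v w => by
    rw [← hinv (v * w), mul_inv_rev, hinv, hinv]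
  have hcmap : ∀ x : X, N.map (MulAut.conjNormal x : B ≃* B).toMonoidHom = N := by
    intro x
    ext b
    simp only [Subgroup.mem_map, MulEquiv.coe_toMonoidHom]
    constructor
    · rintro ⟨c, hc, rfl⟩
      rw [Subgroup.mem_subgroupOf] at hc ⊢
      rw [MulAut.conjNormal_apply]
      exact h.normA.conj_mem _ hc x
    · intro hb
      refine ⟨(MulAut.conjNormal x : B ≃* B).symm b, ?_, MulEquiv.apply_symm_apply _ _⟩
      rw [Subgroup.mem_subgroupOf] at hb ⊢
      rw [MulAut.conjNormal_symm_apply]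
      simpa using h.normA.conj_mem _ hb x⁻¹
  let α : X →* MulAut (B ⧸ N) :=
    { toFun := fun x => QuotientGroup.congr N N (MulAut.conjNormal x) (hcmap x)
      map_one' := by
        ext v; induction v using QuotientGroup.induction_on with
        | H y => simp
      map_mul' := fun a b => by
        ext v; induction v using QuotientGroup.induction_on with
        | H y => simp only [map_mul, MulAut.mul_apply]; rfl }
  let f : X → B ⧸ N := fun x => if hx : x ∈ B then ((⟨x, hx⟩ : B) : B ⧸ N) else 1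
  have hf : ∀ {x : X} (hx : x ∈ B), f x = ((⟨x, hx⟩ : B) : B ⧸ N) := fun {x} hx => dif_pos hx
  refine ⟨{ Q := B ⧸ N, grp := { (inferInstance : Group (B ⧸ N)) with mul_comm := hcomm },
            fin := inferInstance, f := f, α := α, mul := ?_, one_iff := ?_, surj := ?_, conj := ?_,
            two := h2, ker := ?_, card := ?_ }⟩
  · intro a ha b hb
    rw [hf ha, hf hb, hf (mul_mem ha hb)]
    rfl
  · intro b hb
    rw [hf hb]
    exact hone
  · intro w
    induction w using QuotientGroup.induction_on with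
    | H b => exact ⟨b, b.2, hf b.2⟩
  · intro x b hb
    rw [hf hb, hf (h.normB.conj_mem b hb x)]
    show _ = ((MulAut.conjNormal x (⟨b, hb⟩ : B) : B) : B ⧸ N)
    congr 1
  · intro p hp
    refine MonoidHom.mem_ker.mpr (MulEquiv.ext fun v => ?_)
    induction v using QuotientGroup.induction_on with
    | H b =>
      show ((MulAut.conjNormal p b : B) : B ⧸ N) = (b : B ⧸ N)
      rw [← mul_inv_eq_one, ← QuotientGroup.mk_inv, ← QuotientGroup.mk_mul, hone]
      simpa using h.triv p hp b b.2
  · exact (Subgroup.index_eq_card _).symm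

theorem Sec.relIndex_le (h : Base π) {A B : Subgroup X} (hs : Sec π A B) : A.relIndex B ≤ 16 :=
  CfsgLib.RankFour.relIndex_le_of_sq_mem h.rank (fun x _ n hn => hs.normA.conj_mem n hn x) hs.sq

/-- A section of order eight with non-trivial action. -/
structure Layer (π : X →* L) (A B : Subgroup X) : Prop where
  sec : Sec π A B
  card : A.relIndex B = 8
  nontriv : ∃ x : X, ∃ b ∈ B, x * b * x⁻¹ * b⁻¹ ∉ A

theorem Model.alpha_eq {A B : Subgroup X} (hs : Sec π A B) (m : Model π A B) {x b : X} (hb : b ∈ B) :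
    m.α x (m.f b) = m.f b ↔ x * b * x⁻¹ * b⁻¹ ∈ A := by
  letI := m.grp
  have hc : x * b * x⁻¹ ∈ B := hs.normB.conj_mem b hb x
  rw [← m.one_iff _ (mul_mem hc (inv_mem hb))]
  have h1 : m.f (x * b * x⁻¹ * b⁻¹) * m.f b = m.f (x * b * x⁻¹) := by
    rw [← m.mul _ (mul_mem hc (inv_mem hb)) _ hb, inv_mul_cancel_right]
  rw [m.conj x b hb] at h1
  constructor
  · intro e; rw [e] at h1; exact mul_eq_right.mp h1
  · intro e; rw [e, one_mul] at h1; exact h1.symm

/-- An element of order seven moves a section with non-trivial action. -/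
theorem Model.alpha_ne (h : Base π) {A B : Subgroup X} (hs : Sec π A B) (m : Model π A B)
    (hnt : ∃ x : X, ∃ b ∈ B, x * b * x⁻¹ * b⁻¹ ∉ A) {a : X} (ha : π a ≠ 1) : m.α a ≠ 1 := by
  intro e
  obtain ⟨x, b, hb, hne⟩ := hnt
  have htop := h.eq_top m.α.ker m.ker (MonoidHom.mem_ker.mpr e) ha
  refine hne ((m.alpha_eq hs hb).mp ?_)
  rw [MonoidHom.mem_ker.mp (htop ▸ Subgroup.mem_top x : x ∈ m.α.ker)]
  rfl

open CfsgLib.AltEight.Sixteen in
/-- A section with non-trivial action has order eight, or order sixteen with an invariant part of order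
eight or two. -/
theorem Base.section_cases (h : Base π) {A B : Subgroup X} (hs : Sec π A B)
    (hnt : ∃ x : X, ∃ b ∈ B, x * b * x⁻¹ * b⁻¹ ∉ A) :
    Layer π A B ∨ (A.relIndex B = 16 ∧ ((∃ B' : Subgroup X, B' ≤ B ∧ Layer π A B') ∨
      ∃ Z : Subgroup X, A ≤ Z ∧ Z ≤ B ∧ A.relIndex Z = 2 ∧ Layer π Z B ∧
        ∀ x : X, ∀ z ∈ Z, x * z * x⁻¹ * z⁻¹ ∈ A)) := by
  classical
  obtain ⟨m⟩ := hs.exists_model
  letI := m.grp
  haveI := m.fin
  haveI : Fact (Nat.Prime 7) := ⟨by norm_num⟩
  haveI : Fact (Nat.Prime 2) := ⟨Nat.prime_two⟩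
  obtain ⟨σ, hσ7, hπ7, hπ1⟩ := h.exists_order_seven
  set φ := m.α σ with hφdef
  have hφ : φ ^ 7 = 1 := by rw [hφdef, ← map_pow, hσ7, map_one]
  have hφ1 : φ ≠ 1 := m.alpha_ne h hs hnt hπ1
  have hQ : IsPGroup 2 m.Q := fun w => ⟨1, by rw [pow_one, sq]; exact m.two w⟩
  obtain ⟨k, hk⟩ := IsPGroup.iff_card.mp hQ
  obtain ⟨l, hl⟩ := IsPGroup.iff_card.mp (hQ.to_subgroup (fx φ))
  have hk4 : k ≤ 4 := by
    have := Sec.relIndex_le h hs
    rw [← m.card, hk] at this
    exact (Nat.pow_le_pow_iff_right (by norm_num)).mp (this.trans_eq (by norm_num : 16 = 2 ^ 4))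
  have hlk : l ≤ k := by
    have := (fx φ).card_subgroup_dvd_card
    rw [hl, hk] at this
    exact (Nat.pow_dvd_pow_iff_le_right (by norm_num)).mp this
  have hlne : l ≠ k := fun e => hφ1 (MulEquiv.ext fun w => mem_fx.mp
    ((fx φ).eq_top_of_card_eq (by rw [hl, hk, e]) ▸ Subgroup.mem_top w))
  have hmod : 2 ^ k % 7 = 2 ^ l % 7 := by
    have hp : IsPGroup 7 (Subgroup.zpowers φ) :=
      IsPGroup.of_card (n := 1) (by rw [Nat.card_zpowers, pow_one]; exact orderOf_eq_prime hφ hφ1)
    have hm := hp.card_modEq_card_fixedPoints m.Q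
    have he : MulAction.fixedPoints (Subgroup.zpowers φ) m.Q = (fx φ : Set m.Q) := by
      ext w
      rw [MulAction.mem_fixedPoints]
      constructor
      · intro hw; exact hw ⟨φ, Subgroup.mem_zpowers φ⟩
      · rintro hw ⟨g, i, rfl⟩
        exact Subgroup.zpow_mem (MulAction.stabilizer (MulAut m.Q) w) hw i
    rw [he, hk] at hm
    rw [← hl]
    exact hm
  rcases (by interval_cases k <;> interval_cases l <;> omega : k = 3 ∨ (k = 4 ∧ l = 1)) with hk3 | ⟨hk', hl'⟩
  · left
    exact ⟨hs, by rw [← m.card, hk, hk3]; norm_num, hnt⟩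
  right
  subst hk' hl'
  refine ⟨by rw [← m.card, hk]; norm_num, ?_⟩
  rw [pow_one] at hl
  haveI : Nontrivial ↥(fx φ) := Finite.one_lt_card_iff_nontrivial.mp (by omega)
  obtain ⟨⟨z, hz⟩, hz1⟩ := exists_ne (1 : ↥(fx φ))
  have hz1' : z ≠ 1 := fun e => hz1 (Subtype.ext e)
  have hfx : ∀ w : m.Q, φ w = w → w = 1 ∨ w = z := by
    intro w hw
    by_contra hcon
    push Not at hcon
    have h3 : ({1, z, w} : Set m.Q) ⊆ (fx φ : Set m.Q) := by
      rintro a (rfl | rfl | rfl)
      · exact one_mem _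
      · exact hz
      · exact hw
    have := Set.ncard_le_ncard h3 (Set.toFinite _)
    rw [Set.ncard_insert_of_notMem (by simp [Ne.symm hz1', Ne.symm hcon.1]) (Set.toFinite _),
      Set.ncard_pair (Ne.symm hcon.2), ← Nat.card_coe_set_eq] at this
    rw [show Nat.card (fx φ : Set m.Q) = 2 from hl] at this
    omega
  -- preimages
  let pre : Subgroup m.Q → Subgroup X := fun U =>
    { carrier := {b | b ∈ B ∧ m.f b ∈ U}
      one_mem' := ⟨one_mem _, by rw [(m.one_iff 1 (one_mem _)).mpr (one_mem _)]; exact one_mem _⟩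
      mul_mem' := fun {a b} ha hb => ⟨mul_mem ha.1 hb.1, by rw [m.mul a ha.1 b hb.1]; exact mul_mem ha.2 hb.2⟩
      inv_mem' := fun {a} ha => ⟨inv_mem ha.1, by
        have e := m.mul a⁻¹ (inv_mem ha.1) a ha.1
        rw [inv_mul_cancel, (m.one_iff 1 (one_mem _)).mpr (one_mem _)] at e
        rw [eq_inv_of_mul_eq_one_left e.symm]
        exact inv_mem ha.2⟩ }
  have hpreA : ∀ U, A ≤ pre U := fun U a ha => ⟨hs.le ha, by rw [(m.one_iff a (hs.le ha)).mpr ha]; exact one_mem _⟩
  have hpreN : ∀ U : Subgroup m.Q, (∀ x : X, ∀ w ∈ U, m.α x w ∈ U) → (pre U).Normal := fun U hU =>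
    ⟨fun b hb g => ⟨hs.normB.conj_mem b hb.1 g, by rw [m.conj g b hb.1]; exact hU g _ hb.2⟩⟩
  have hprec : ∀ U : Subgroup m.Q, A.relIndex (pre U) = Nat.card U := fun U => by
    let g : ↥(pre U) →* U :=
      MonoidHom.mk' (fun b => ⟨m.f b, b.2.2⟩) fun a b => Subtype.ext (m.mul a a.2.1 b b.2.1)
    have hg : Function.Surjective g := fun w => by
      obtain ⟨b, hb, hbw⟩ := m.surj w
      exact ⟨⟨b, hb, by rw [hbw]; exact w.2⟩, Subtype.ext hbw⟩
    have hk : g.ker = A.subgroupOf (pre U) := by
      ext b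
      rw [MonoidHom.mem_ker, Subgroup.mem_subgroupOf, ← m.one_iff b b.2.1]
      exact Subtype.ext_iff
    show (A.subgroupOf (pre U)).index = _
    rw [← hk, Subgroup.index_ker, MonoidHom.range_eq_top.mpr hg, Subgroup.card_top]
  by_cases hfix : ∀ x : X, m.α x z = z
  · right
    have hZ : ∀ w ∈ Subgroup.zpowers z, w = 1 ∨ w = z := fun w hw =>
      hfx w (mem_fx.mp ((Subgroup.zpowers_le.mpr hz) hw))
    have hmove : ∀ x : X, ∀ w ∈ Subgroup.zpowers z, m.α x w = w := fun x w hw => by
      rcases hZ w hw with rfl | rfl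
      · exact map_one _
      · exact hfix x
    let Z := pre (Subgroup.zpowers z)
    haveI hZn : Z.Normal := hpreN _ fun x w hw => by rw [hmove x w hw]; exact hw
    have hZ2 : A.relIndex Z = 2 := by
      rw [hprec, Nat.card_zpowers]
      exact orderOf_eq_prime (by rw [sq]; exact m.two z) hz1'
    refine ⟨Z, hpreA _, fun b hb => hb.1, hZ2, ⟨⟨fun b hb => hb.1, hZn, hs.normB, hs.sub,
      fun b hb => hpreA _ (hs.sq b hb), fun p hp b hb => hpreA _ (hs.triv p hp b hb)⟩, ?_, ?_⟩, fun x b hb => ?_⟩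
    · have h1 := Subgroup.relIndex_mul_relIndex A Z B (hpreA _) (fun b hb => hb.1)
      rw [hZ2, ← m.card, hk] at h1
      norm_num at h1
      omega
    · by_contra hcon
      push Not at hcon
      refine hφ1 (MulEquiv.ext fun w => ?_)
      obtain ⟨b, hb, rfl⟩ := m.surj w
      obtain ⟨hb', hbz⟩ := hcon σ b hb
      have e : φ (m.f b) = m.f (σ * b * σ⁻¹ * b⁻¹) * m.f b := by
        rw [← m.mul _ hb' _ hb, inv_mul_cancel_right, ← m.conj σ b hb]
      have e2 : φ (φ (m.f b)) = m.f b := by
        conv_lhs => rw [e]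
        rw [map_mul, hmove σ _ hbz, e, ← mul_assoc, m.two, one_mul]
      have e3 : ∀ n : ℕ, (φ ^ (2 * n)) (m.f b) = m.f b := by
        intro n
        induction n with
        | zero => rfl
        | succ n ih => rw [mul_add, pow_add, MulAut.mul_apply, pow_two, MulAut.mul_apply, e2, ih]
      have e4 := e3 4
      rw [show 2 * 4 = 7 + 1 from rfl, pow_succ, hφ, one_mul] at e4
      exact e4
    · exact (m.alpha_eq hs hb.1).mp (hmove x _ hb.2)
  · left
    push Not at hfix
    -- the orbit of the fixed point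
    letI : MulAction X m.Q :=
      { smul := fun x w => m.α x w
        one_smul := fun w => by show m.α 1 w = w; rw [map_one]; rfl
        mul_smul := fun a b w => by show m.α (a * b) w = m.α a (m.α b w); rw [map_mul]; rfl }
    set O := MulAction.orbit X z with hO
    have hOinv : ∀ x : X, ∀ w : m.Q, w ∈ O → m.α x w ∈ O := fun x w hw =>
      (MulAction.smul_orbit x z).subset ⟨w, hw, rfl⟩
    have hOinv' : ∀ x : X, ∀ w : m.Q, w ∉ O → m.α x w ∉ O := fun x w hw hh => hw (by
      have h1 := hOinv x⁻¹ _ hh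
      rwa [← MulAut.mul_apply, ← map_mul, inv_mul_cancel, map_one] at h1)
    have h1O : (1 : m.Q) ∉ O := by
      rintro ⟨x, hx⟩
      exact hz1' ((m.α x).injective (hx.trans (map_one _).symm))
    have hOge : 7 ≤ O.ncard := by
      by_contra hlt
      have hi : (MulAction.stabilizer X z).index ≤ 6 := by
        rw [MulAction.index_stabilizer]
        show O.ncard ≤ 6
        omega
      obtain ⟨x, hx⟩ := hfix
      have hker : π.ker ≤ MulAction.stabilizer X z := fun p hp =>
        MulAction.mem_stabilizer_iff.mpr (by show m.α p z = z; rw [MonoidHom.mem_ker.mp (m.ker hp)]; rfl)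
      exact hx (MulAction.mem_stabilizer_iff.mp (h.index_small hker hi ▸ Subgroup.mem_top x))
    obtain ⟨r, hr1, hrO⟩ : ∃ r : m.Q, r ≠ 1 ∧ r ∉ O := by
      by_contra hall
      push Not at hall
      have hset : O = {1}ᶜ := Set.ext fun w => ⟨fun hw e => h1O (by rw [Set.mem_singleton_iff] at e; rwa [e] at hw),
        fun hw => hall w hw⟩
      have hidx := MulAction.index_stabilizer X z
      rw [← hO, hset, Set.ncard_compl, Set.ncard_singleton, hk] at hidx
      have hker : π.ker ≤ MulAction.stabilizer X z := fun p hp =>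
        MulAction.mem_stabilizer_iff.mpr (by show m.α p z = z; rw [MonoidHom.mem_ker.mp (m.ker hp)]; rfl)
      haveI := h.finite
      have h15 := Subgroup.index_dvd_card ((MulAction.stabilizer X z).map π) (G := L)
      rw [h.index_eq_map hker, hidx, h.card] at h15
      norm_num at h15
    let R : Set m.Q := (insert 1 O)ᶜ
    have hRinv : ∀ x : X, ∀ w ∈ R, m.α x w ∈ R := by
      intro x w hw hh
      rcases hh with hh | hh
      · exact hw (Or.inl ((m.α x).injective (hh.trans (map_one _).symm)))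
      · exact hOinv' x w (fun hO' => hw (Or.inr hO')) hh
    have hrR : r ∈ R := by rintro (hh | hh); exacts [hr1 hh, hrO hh]
    have hR8 : R.ncard ≤ 8 := by
      have h1 := Set.ncard_add_ncard_compl (insert 1 O)
      rw [Set.ncard_insert_of_notMem h1O (Set.toFinite _), hk] at h1
      show (insert 1 O)ᶜ.ncard ≤ 8
      omega
    -- the orbit of the element of order seven
    have hpow : ∀ i : ℕ, (φ ^ i) r ∈ R := fun i => by
      rw [hφdef, ← map_pow]; exact hRinv _ r hrR
    have hrfix : φ r ≠ r := fun e => (hfx r e).elim hr1 (fun e' => hrO (e' ▸ MulAction.mem_orbit_self z))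
    have hinj : Set.InjOn (fun i : ℕ => (φ ^ i) r) (Set.Iio 7) := by
      intro i hi j hj hij
      by_contra hne
      wlog hlt : i < j generalizing i j
      · exact this hj hi hij.symm (Ne.symm hne) (by omega)
      have e : (φ ^ (j - i)) r = r := by
        have e1 : (φ ^ i) ((φ ^ (j - i)) r) = (φ ^ i) r := by
          rw [← MulAut.mul_apply, ← pow_add, Nat.add_sub_cancel' hlt.le]; exact hij.symm
        exact (φ ^ i).injective e1
      have hcop : Nat.Coprime (j - i) 7 := by
        rw [Nat.coprime_comm, Nat.Prime.coprime_iff_not_dvd (by norm_num)]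
        intro hd
        have := Nat.le_of_dvd (by omega) hd
        simp only [Set.mem_Iio] at hi hj
        omega
      obtain ⟨n, hn⟩ := exists_pow_eq_self_of_coprime (x := φ) (n := j - i)
        (by rwa [orderOf_eq_prime hφ hφ1])
      refine hrfix ?_
      have : ∀ n : ℕ, ((φ ^ (j - i)) ^ n) r = r := by
        intro n
        induction n with
        | zero => rfl
        | succ n ih => rw [pow_succ, MulAut.mul_apply, e, ih]
      rw [← hn]
      exact this n
    -- the hyperplane
    let V0 := (δ φ).range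
    have hV0 : Nat.card V0 = 8 := by
      have h1 := card_fx_mul_range m.two (by rw [hk]; norm_num) φ
      rw [hl] at h1
      show Nat.card (δ φ).range = 8
      omega
    let S : Set m.Q := {w | ∃ a ∈ R, ∃ b ∈ R, w = a * b}
    have hcoset : ∀ i : ℕ, r * (φ ^ i) r ∈ V0 := by
      intro i
      induction i with
      | zero => show r * r ∈ V0; rw [m.two]; exact one_mem _
      | succ i ih =>
        have hd : (φ ^ i) r * φ ((φ ^ i) r) ∈ V0 := ⟨_, rfl⟩
        have := mul_mem ih hd
        rwa [show r * (φ ^ i) r * ((φ ^ i) r * φ ((φ ^ i) r)) = r * φ ((φ ^ i) r) by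
          rw [mul_assoc, ← mul_assoc ((φ ^ i) r), m.two, one_mul],
          ← MulAut.mul_apply, ← pow_succ'] at this
    have himg : (fun i : ℕ => (φ ^ i) r) '' Set.Iio 7 ⊆ R := by
      rintro _ ⟨i, -, rfl⟩; exact hpow i
    have h7R : ((fun i : ℕ => (φ ^ i) r) '' Set.Iio 7).ncard = 7 := by
      rw [hinj.ncard_image]
      rw [← Finset.coe_Iio, Set.ncard_coe_finset]; simp
    have hOz : O.ncard = 8 := by
      have h1 := Set.ncard_le_ncard himg (Set.toFinite _)
      have h2 := Set.ncard_add_ncard_compl (insert 1 O)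
      rw [Set.ncard_insert_of_notMem h1O (Set.toFinite _), hk] at h2
      have hidx := MulAction.index_stabilizer X z
      have hker : π.ker ≤ MulAction.stabilizer X z := fun p hp =>
        MulAction.mem_stabilizer_iff.mpr (by show m.α p z = z; rw [MonoidHom.mem_ker.mp (m.ker hp)]; rfl)
      haveI := h.finite
      have hdvd : O.ncard ∣ 24 := by
        have hσS : σ ∈ MulAction.stabilizer X z := MulAction.mem_stabilizer_iff.mpr hz
        have hc := Subgroup.card_mul_index ((MulAction.stabilizer X z).map π) (G := L)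
        rw [h.index_eq_map hker, hidx, h.card] at hc
        have h7 : 7 ∣ Nat.card ((MulAction.stabilizer X z).map π) := by
          rw [← orderOf_eq_prime hπ7 hπ1]
          exact Subgroup.orderOf_dvd_natCard _ (Subgroup.mem_map_of_mem π hσS)
        obtain ⟨e, he⟩ := h7
        rw [he, ← hO] at hc
        exact ⟨e, by nlinarith⟩
      have h3 : (insert 1 O)ᶜ.ncard = R.ncard := rfl
      have : O.ncard ≤ 8 := by omega
      interval_cases hn : O.ncard
      · norm_num at hdvd
      · rfl
    have hReq : (fun i : ℕ => (φ ^ i) r) '' Set.Iio 7 = R := by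
      refine Set.eq_of_subset_of_ncard_le himg ?_ (Set.toFinite _)
      have h2 := Set.ncard_add_ncard_compl (insert 1 O)
      rw [Set.ncard_insert_of_notMem h1O (Set.toFinite _), hk] at h2
      have h3 : (insert 1 O)ᶜ.ncard = R.ncard := rfl
      omega
    let V1 := Subgroup.closure S
    have hV1le : V1 ≤ V0 := by
      rw [Subgroup.closure_le]
      rintro _ ⟨a, ha, b, hb, rfl⟩
      obtain ⟨i, -, rfl⟩ := hReq.symm ▸ ha
      obtain ⟨j, -, rfl⟩ := hReq.symm ▸ hb
      have := mul_mem (hcoset i) (hcoset j)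
      rwa [mul_mul_mul_comm, m.two, one_mul] at this
    have hV1 : Nat.card V1 = 8 := by
      have h1 : (fun a => r * a) '' R ⊆ (V1 : Set m.Q) := by
        rintro _ ⟨a, ha, rfl⟩
        exact Subgroup.subset_closure ⟨r, hrR, a, ha, rfl⟩
      have h2 := Set.ncard_le_ncard h1 (Set.toFinite _)
      rw [Set.ncard_image_of_injective _ (mul_right_injective r), ← hReq, h7R, ← Nat.card_coe_set_eq] at h2
      have h3 := Subgroup.card_dvd_of_le hV1le
      rw [hV0] at h3
      have h4 := Nat.le_of_dvd (by norm_num) h3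
      have h2' : 7 ≤ Nat.card V1 := h2
      interval_cases hn : Nat.card V1
      · norm_num at h3
      · rfl
    have hV1inv : ∀ x : X, ∀ w ∈ V1, m.α x w ∈ V1 := by
      intro x
      have : V1 ≤ V1.comap (m.α x).toMonoidHom := by
        rw [Subgroup.closure_le]
        rintro _ ⟨a, ha, b, hb, rfl⟩
        show m.α x (a * b) ∈ V1
        rw [map_mul]
        exact Subgroup.subset_closure ⟨_, hRinv x a ha, _, hRinv x b hb, rfl⟩
      exact fun w hw => this hw
    refine ⟨pre V1, fun b hb => hb.1, ⟨hpreA _, hs.normA, hpreN _ hV1inv, (fun b hb => hs.sub hb.1),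
      fun b hb => hs.sq b hb.1, fun p hp b hb => hs.triv p hp b hb.1⟩, by rw [hprec, hV1], ?_⟩
    by_contra hcon
    push Not at hcon
    have hsub : (V1 : Set m.Q) ⊆ (fx φ : Set m.Q) := by
      intro w hw
      obtain ⟨b, hb, rfl⟩ := m.surj w
      exact (m.alpha_eq hs hb).mpr (hcon σ b ⟨hb, hw⟩)
    have := Set.ncard_le_ncard hsub (Set.toFinite _)
    rw [← Nat.card_coe_set_eq, ← Nat.card_coe_set_eq, show Nat.card (V1 : Set m.Q) = 8 from hV1,
      show Nat.card (fx φ : Set m.Q) = 2 from hl] at this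
    omega

end CfsgLib.RankFour.LThree
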