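import Cfsg.Agent.Lib.RankFour.LThree.CaseB

/-!
The case without a central involution in the kernel, and the conclusion.
-/

set_option autoImplicit false
set_option linter.style.haveILetI false
set_option linter.unusedSectionVars false

namespace CfsgLib.RankFour.LThree

open Matrix

universe u v

variable {X : Type u} [Group X] [Finite X] {L : Type v} [Group L] {π : X →* L}

/-- No involution of the kernel is central. -/
def NoFix (π : X →* L) : Prop := ∀ z ∈ π.ker, z * z = 1 → (∀ g : X, g * z = z * g) → z = 1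

theorem Base.eight_false (h : Base π) (hnf : NoFix π) (T : Set X) (hinv : ∀ g : X, ∀ t ∈ T, g * t * g⁻¹ ∈ T)
    (h8 : T.ncard = 8) (htriv : ∀ p ∈ π.ker, ∀ t ∈ T, p * t = t * p)
    (hT : ∀ t ∈ T, t ∈ π.ker ∧ t ≠ 1 ∧ t * t = 1) {x : X} (hx : π x ≠ 1) {k : ℕ} (h2 : π x ^ 2 ^ k = 1) {t : X}
    (ht : t ∈ T) (hxt : x * t = t * x) : False := by
  obtain ⟨t', ht', hfix⟩ := h.exists_central_mem T hinv h8 htriv hx h2 ht hxt
  exact (hT t' ht').2.1 (hnf t' (hT t' ht').1 (hT t' ht').2.2 hfix)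

theorem ncard_coset {Y : Subgroup X} (h8 : Nat.card Y = 8) (r : X) (T : Set X)
    (hT : ∀ t, t ∈ T ↔ r⁻¹ * t ∈ Y) : T.ncard = 8 := by
  have e : T = (fun y => r * y) '' (Y : Set X) := by
    ext t
    rw [hT]
    exact ⟨fun hh => ⟨_, hh, mul_inv_cancel_left r t⟩, by rintro ⟨y, hy, rfl⟩; simpa using hy⟩
  rw [e, Set.ncard_image_of_injective _ (mul_right_injective r), ← Nat.card_coe_set_eq]
  exact h8

theorem M_J_pow {A B : Subgroup X} (C : Coord π A B) {u : X} (hu : C.M u = J) :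
    π u ≠ 1 ∧ π u ^ 2 ^ 2 = 1 ∧ u ^ 4 ∈ π.ker := by
  have h4 : C.M (u ^ 4) = 1 := by rw [map_pow, hu]; decide +kernel
  refine ⟨fun e => ?_, ?_, MonoidHom.mem_ker.mpr ((C.ker _).mp h4)⟩
  · have := (C.ker u).mpr e
    rw [hu] at this
    exact absurd this (by decide +kernel)
  · rw [← map_pow]
    exact (C.ker _).mp h4

/-- A layer of index two above a natural bottom layer is impossible. -/
theorem Base.sub_false (h : Base π) (hF : Faith π) (IH : Smaller X L) (hnf : NoFix π) {Y B : Subgroup X}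
    (CY : Coord π ⊥ Y) (hexp : ∀ y ∈ Y, y * y = 1) (hYc : ∀ y ∈ Y, ∀ p ∈ π.ker, y * p = p * y)
    (hsq : ∀ p ∈ π.ker, p * p ∈ Y) (hcm : ∀ a ∈ π.ker, ∀ b ∈ π.ker, a * b * a⁻¹ * b⁻¹ ∈ Y)
    (hl : Layer π Y B) (h2 : B.relIndex π.ker = 2) : False := by
  obtain ⟨C⟩ := h.exists_coord hl
  haveI := hl.sec.normB
  have hBP : B ≤ π.ker := hl.sec.sub
  obtain ⟨hBc, hΩ, hsurj⟩ := Coord.square_map h CY C le_rfl hexp (fun y hy b hb => hYc y hy b (hBP hb))
    (fun b hb => hsq b (hBP hb))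
  have hY8 : Nat.card Y = 8 := by rw [← Subgroup.relIndex_bot_left, CY.layer.card]
  have hY : Y ≤ π.ker := CY.layer.sec.sub
  obtain ⟨u, hu⟩ := C.real J (Matrix.det_ne_zero_of_right_inverse (B := J * J * J) (by decide +kernel))
  obtain ⟨hu1, hu4, hpP⟩ := M_J_pow C hu
  by_cases hpB : u ^ 4 ∈ B
  · have := h.card_le_of_two hF IH C B hBP h2 hu hpB
    have h1 := Subgroup.relIndex_mul_relIndex ⊥ Y B bot_le C.le
    rw [Subgroup.relIndex_bot_left, Subgroup.relIndex_bot_left, C.layer.card, hY8] at h1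
    omega
  set p := u ^ 4 with hpd
  obtain ⟨l⟩ := C.exists_lift hBc hY8 hexp (fun b hb => hsq b (hBP hb)) hsurj hu
  have hout : ∀ q ∈ π.ker, q ∉ B → p⁻¹ * q ∈ B := fun q hq hqB => mem_of_relIndex_two h2 hpP hq hpB hqB
  set φ : X → X := fun b => p * b * p⁻¹ * b⁻¹ with hφd
  have hφY : ∀ b ∈ B, φ b ∈ Y := fun b hb => hcm p hpP b (hBP hb)
  have hφmul : ∀ a ∈ B, ∀ b ∈ B, φ (a * b) = φ a * φ b := fun a ha b hb => by
    show p * (a * b) * p⁻¹ * (a * b)⁻¹ = _
    rw [show p * (a * b) * p⁻¹ * (a * b)⁻¹ = p * a * p⁻¹ * (φ b * a⁻¹) by simp only [hφd]; group,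
      hYc _ (hφY b hb) a⁻¹ (inv_mem (hBP ha))]
    simp only [hφd]; group
  have hφ0 : ∀ y ∈ Y, φ y = 1 := fun y hy => by
    show p * y * p⁻¹ * y⁻¹ = 1
    rw [← hYc y hy p hpP]; group
  have hφconj : ∀ x : X, ∀ b ∈ B, φ (x * b * x⁻¹) = x * φ b * x⁻¹ := by
    intro x b hb
    have hxb := C.layer.sec.normB.conj_mem b hb x
    have hp' := (MonoidHom.normal_ker π).conj_mem p hpP x
    obtain ⟨n, hn, hne⟩ : ∃ n ∈ B, x * p * x⁻¹ = p * n :=
      ⟨_, hout _ hp' (fun hh => hpB (by simpa [mul_assoc] using hl.sec.normB.conj_mem _ hh x⁻¹)), by group⟩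
    rw [show x * φ b * x⁻¹ = x * p * x⁻¹ * (x * b * x⁻¹) * (x * p * x⁻¹)⁻¹ * (x * b * x⁻¹)⁻¹ by
      simp only [hφd]; group, hne,
      show p * n * (x * b * x⁻¹) * (p * n)⁻¹ = p * (n * (x * b * x⁻¹) * n⁻¹) * p⁻¹ by group, hBc n hn _ hxb,
      mul_inv_cancel_right]
  by_cases hzero : ∀ b ∈ B, φ b = 1
  · -- a commutative kernel
    have hpc : ∀ b ∈ B, p * b = b * p := fun b hb => mul_inv_eq_iff_eq_mul.mp (mul_inv_eq_one.mp (hzero b hb))
    obtain ⟨b, hb, hb2⟩ := hsurj _ (hsq p hpP)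
    set z := p * b⁻¹ with hz
    have hz2 : z * z = 1 := by
      rw [hz, (show Commute b⁻¹ p from (hpc _ (inv_mem hb)).symm).mul_mul_mul_comm, ← _root_.mul_inv_rev, hb2,
        mul_inv_cancel]
    have hzB : z ∉ B := fun hh => hpB (by simpa [hz] using mul_mem hh hb)
    have hcomm : ∀ a ∈ π.ker, ∀ c ∈ π.ker, a * c = c * a := by
      intro a ha c hc
      have hB : ∀ q ∈ B, ∀ c ∈ π.ker, q * c = c * q := by
        intro q hq c hc
        by_cases hcB : c ∈ B
        · exact hBc q hq c hcB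
        · obtain ⟨n, hn, rfl⟩ : ∃ n ∈ B, c = p * n := ⟨_, hout c hc hcB, by group⟩
          rw [← mul_assoc, ← hpc q hq, mul_assoc, hBc q hq n hn, ← mul_assoc]
      by_cases haB : a ∈ B
      · exact hB a haB c hc
      by_cases hcB : c ∈ B
      · exact (hB c hcB a ha).symm
      obtain ⟨n, hn, rfl⟩ : ∃ n ∈ B, c = p * n := ⟨_, hout c hc hcB, by group⟩
      obtain ⟨m, hm, rfl⟩ : ∃ m ∈ B, a = p * m := ⟨_, hout a ha haB, by group⟩
      calc p * m * (p * n) = p * (m * p) * n := by group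
        _ = p * (p * m) * n := by rw [hpc m hm]
        _ = p * p * (m * n) := by group
        _ = p * p * (n * m) := by rw [hBc m hm n hn]
        _ = p * (p * n) * m := by group
        _ = p * (n * p) * m := by rw [hpc n hn]
        _ = p * n * (p * m) := by group
    have hzP : z ∈ π.ker := mul_mem hpP (inv_mem (hBP hb))
    let T : Set X := {t | t ∈ π.ker ∧ t ∉ B ∧ t * t = 1}
    have hT : ∀ t, t ∈ T ↔ z⁻¹ * t ∈ Y := by
      intro t
      constructor
      · rintro ⟨ht, htB, ht2⟩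
        refine hΩ _ (mem_of_relIndex_two h2 hzP ht hzB htB) ?_
        rw [(show Commute t z⁻¹ from hcomm t ht _ (inv_mem hzP)).mul_mul_mul_comm, ← _root_.mul_inv_rev, hz2, ht2,
          inv_one, one_mul]
      · intro hy
        have e : t = z * (z⁻¹ * t) := (mul_inv_cancel_left _ _).symm
        rw [e]
        refine ⟨mul_mem hzP (hY hy), fun hh => hzB ?_, ?_⟩
        · have := mul_mem hh (inv_mem (C.le hy))
          rwa [mul_inv_cancel_right] at this
        · rw [(show Commute (z⁻¹ * t) z from hYc _ hy z hzP).mul_mul_mul_comm, hz2, hexp _ hy, one_mul]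
    have hconjT : ∀ g : X, ∀ t ∈ T, g * t * g⁻¹ ∈ T := fun g t ht =>
      ⟨(MonoidHom.normal_ker π).conj_mem t ht.1 g,
        fun hh => ht.2.1 (by simpa [mul_assoc] using hl.sec.normB.conj_mem _ hh g⁻¹),
        by rw [show g * t * g⁻¹ * (g * t * g⁻¹) = g * (t * t) * g⁻¹ by group, ht.2.2]; group⟩
    have hzT : z ∈ T := ⟨hzP, hzB, hz2⟩
    set y := z⁻¹ * (u * z * u⁻¹) with hyd
    have hyY : y ∈ Y := (hT _).mp (hconjT u z hzT)
    have hyz : u * z * u⁻¹ = z * y := by rw [hyd]; group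
    have hyinv : y⁻¹ = y := inv_eq_of_mul_eq_one_left (hexp y hyY)
    have hub : u * b * u⁻¹ = y * b := by
      have e1 : b = z⁻¹ * p := by
        refine eq_inv_mul_iff_mul_eq.mpr ?_
        rw [hz, mul_assoc, mul_eq_left]
        exact inv_mul_cancel b
      rw [e1, show u * (z⁻¹ * p) * u⁻¹ = (u * z * u⁻¹)⁻¹ * (u * p * u⁻¹) by group, hyz,
        show u * p * u⁻¹ = p by rw [hpd]; group, _root_.mul_inv_rev z y, hyinv, mul_assoc]
    obtain ⟨v, hv⟩ := l.surj b hb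
    have hyv : y = l.ψ ((l.Mat u).mulVec v - v) := by rw [← l.comm, hv, hub, mul_inv_cancel_right]
    obtain ⟨a, b', c, hab⟩ := l.shape
    obtain ⟨w, hw⟩ := comp_diff a b' c (by rw [← hab, ← map_pow]; exact l.Mat_eq_one hpc) v (by
      rw [← hab, ← l.c, ← hyv]
      exact (C.zero_iff y (C.le hyY)).mpr hyY)
    set y' := l.ψ (w + w) with hy'd
    have hy'Y : y' ∈ Y := by
      rw [hy'd, l.add]
      exact hsq _ (hBP (l.mem w))
    have hfix : u * y' * u⁻¹ = y * y' := by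
      rw [hy'd, l.conj, hyv, ← l.add, hab, hw, Matrix.mulVec_add, two_nsmul]
      congr 1
      abel
    refine h.eight_false hnf T hconjT (ncard_coset hY8 z T hT) (fun q hq t ht => hcomm q hq t ht.1)
      (fun t ht => ⟨ht.1, fun e => ht.2.1 (e ▸ one_mem _), ht.2.2⟩) hu1 hu4
      ((hT (z * y')).mpr (by rwa [inv_mul_cancel_left])) ?_
    refine mul_inv_eq_iff_eq_mul.mp ?_
    rw [show u * (z * y') * u⁻¹ = u * z * u⁻¹ * (u * y' * u⁻¹) by group, hyz, hfix, mul_assoc z, ← mul_assoc y,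
      hexp y hyY, one_mul]
  · -- inversion
    push Not at hzero
    obtain ⟨b0, hb0, hb01⟩ := hzero
    have hc0 : C.c b0 ≠ 0 := fun e => hb01 (hφ0 _ ((C.zero_iff b0 hb0).mp e))
    have hsame : ∀ a ∈ B, ∀ b ∈ B, C.c a = C.c b → φ a = φ b := fun a ha b hb e => by
      have hm := (C.c_eq_iff ha hb).mp e
      rw [show φ b = φ (a * (a⁻¹ * b)) by rw [mul_inv_cancel_left], hφmul a ha _ (C.le hm), hφ0 _ hm, mul_one]
    have hfi : ∀ a ∈ B, ∀ b ∈ B, (φ a = φ b ↔ C.c a = C.c b) := by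
      intro a ha b hb
      refine ⟨fun e => ?_, hsame a ha b hb⟩
      by_contra hne
      have hd : a⁻¹ * b ∈ B := mul_mem (inv_mem ha) hb
      have hd0 : C.c (a⁻¹ * b) ≠ 0 := fun e' => hne ((C.c_eq_iff ha hb).mpr ((C.zero_iff _ hd).mp e'))
      have hd1 : φ (a⁻¹ * b) = 1 := by
        have := hφmul a ha _ hd
        rw [mul_inv_cancel_left, ← e] at this
        exact left_eq_mul.mp this
      obtain ⟨x, hx⟩ := C.exists_one hd0 hc0
      refine hb01 ?_
      rw [← hsame _ (hl.sec.normB.conj_mem _ hd x) b0 hb0 (by rw [C.conj x _ hd, hx]), hφconj x _ hd, hd1]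
      group
    have hgi : ∀ a ∈ B, ∀ b ∈ B, ((fun b => b * b) a = (fun b => b * b) b ↔ C.c a = C.c b) := by
      intro a ha b hb
      constructor
      · intro e
        refine (C.c_eq_iff ha hb).mpr (hΩ _ (mul_mem (inv_mem ha) hb) ?_)
        rw [(show Commute b a⁻¹ from hBc b hb _ (inv_mem ha)).mul_mul_mul_comm, ← _root_.mul_inv_rev,
          show a * a = b * b from e, inv_mul_cancel]
      · intro e
        show a * a = b * b
        have hm := (C.c_eq_iff ha hb).mp e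
        rw [show b = a * (a⁻¹ * b) by group, (show Commute (a⁻¹ * b) a from hYc _ hm a (hBP ha)).mul_mul_mul_comm,
          hexp _ hm, mul_one]
    have heq := Coord.eq_of_equivariant C CY φ (fun b => b * b) hφY (fun b hb => hsq b (hBP hb)) hφconj
      (fun x b _ => by group) hfi hgi (hφ0 1 (one_mem _)) (mul_one 1)
    have hneg : l.Mat p = -1 := by
      refine Matrix.ext fun i j => ?_
      have e : (l.Mat p).mulVec (Pi.single j 1) = -Pi.single j 1 := l.inj (by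
        set v : W := Pi.single j 1
        have hh : p * l.ψ v * p⁻¹ * (l.ψ v)⁻¹ = l.ψ v * l.ψ v := heq _ (l.mem v)
        rw [l.conj, mul_inv_eq_iff_eq_mul, ← l.add, ← l.add] at hh
        rw [hh]
        congr 1
        funext k
        simp only [Pi.add_apply, Pi.neg_apply]
        generalize v k = a
        revert a
        decide)
      have := congrFun e i
      rw [Matrix.mulVec_single_one] at this
      simpa [Matrix.one_apply, Pi.single_apply] using this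
    obtain ⟨a, b, c, hab⟩ := l.shape
    exact comp_pow_four_ne a b c (by rw [← hab, ← map_pow, ← hpd, hneg])

/-- The quotient by the natural layer is not elementary abelian of order sixteen. -/
theorem Base.sixteen_false (h : Base π) (hF : Faith π) (IH : Smaller X L) (hnf : NoFix π) {Y : Subgroup X}
    (CY : Coord π ⊥ Y) (hexp : ∀ y ∈ Y, y * y = 1) (hYc : ∀ y ∈ Y, ∀ p ∈ π.ker, y * p = p * y)
    (hsq : ∀ p ∈ π.ker, p * p ∈ Y) (h16 : Y.relIndex π.ker = 16)
    (hmove : ∀ s : X, s ^ 7 = 1 → π s ≠ 1 → ∃ p ∈ π.ker, s * p * s⁻¹ * p⁻¹ ∉ Y) : False := by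
  have hYP : Y ≤ π.ker := CY.layer.sec.sub
  have hY8 : Nat.card Y = 8 := by rw [← Subgroup.relIndex_bot_left, CY.layer.card]
  have hcm : ∀ a ∈ π.ker, ∀ b ∈ π.ker, a * b * a⁻¹ * b⁻¹ ∈ Y := fun a ha b hb => by
    have e : a * b * a⁻¹ * b⁻¹ = a * a * (a⁻¹ * b * (a⁻¹ * b)) * (b⁻¹ * b⁻¹) := by group
    rw [e]
    exact mul_mem (mul_mem (hsq a ha) (hsq _ (mul_mem (inv_mem ha) hb))) (hsq _ (inv_mem hb))
  haveI := CY.layer.sec.normB
  have hs : Sec π Y π.ker := ⟨hYP, inferInstance, inferInstance, le_rfl, hsq, hcm⟩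
  obtain ⟨σ, hσ7, -, hσ1⟩ := h.exists_order_seven
  obtain ⟨p0, hp0, hne⟩ := hmove σ hσ7 hσ1
  have hsub : ∀ B : Subgroup X, B ≤ π.ker → Layer π Y B → False := fun B hBle hl => by
    have h1 := Subgroup.relIndex_mul_relIndex Y B π.ker hl.sec.le hBle
    rw [hl.card, h16] at h1
    exact h.sub_false hF IH hnf CY hexp hYc hsq hcm hl (by omega)
  rcases h.section_cases hs ⟨σ, p0, hp0, hne⟩ with hl | ⟨-, ⟨B, hBle, hl⟩ | ⟨F, hYF, hFle, hF2, hl, hfix⟩⟩
  · have := hl.card; omega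
  · exact hsub B hBle hl
  obtain ⟨C⟩ := h.exists_coord hl
  haveI := hl.sec.normA
  obtain ⟨r, hr, hrY⟩ := exists_outside (A := Y) (B := F) (by omega)
  have hrP := hFle hr
  have hFmem : ∀ f ∈ F, f ∈ Y ∨ ∃ y ∈ Y, f = r * y := fun f hf => by
    by_cases hfY : f ∈ Y
    · exact Or.inl hfY
    · exact Or.inr ⟨_, mem_of_relIndex_two hF2 hr hf hrY hfY, by group⟩
  have hrconj : ∀ x : X, ∃ n ∈ Y, x * r * x⁻¹ = n * r := fun x => ⟨_, hfix x r hr, by group⟩
  have hr2 : r * r = 1 := by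
    refine hnf _ (mul_mem hrP hrP) (hexp _ (hsq r hrP)) fun g => mul_inv_eq_iff_eq_mul.mp ?_
    obtain ⟨n, hn, hne'⟩ := hrconj g
    rw [show g * (r * r) * g⁻¹ = g * r * g⁻¹ * (g * r * g⁻¹) by group, hne',
      (show Commute r n from (hYc n hn r hrP).symm).mul_mul_mul_comm, hexp n hn, one_mul]
  have hFexp : ∀ f ∈ F, f * f = 1 := fun f hf => by
    rcases hFmem f hf with hfY | ⟨y, hy, rfl⟩
    · exact hexp f hfY
    · rw [(show Commute y r from hYc y hy r hrP).mul_mul_mul_comm, hr2, hexp y hy, one_mul]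
  have hrrinv : r⁻¹ = r := inv_eq_of_mul_eq_one_left hr2
  set φ : X → X := fun v => r * v * r⁻¹ * v⁻¹ with hφd
  have hφY : ∀ v ∈ π.ker, φ v ∈ Y := fun v hv => hcm r hrP v hv
  have hφmul : ∀ a ∈ π.ker, ∀ b ∈ π.ker, φ (a * b) = φ a * φ b := fun a ha b hb => by
    show r * (a * b) * r⁻¹ * (a * b)⁻¹ = _
    rw [show r * (a * b) * r⁻¹ * (a * b)⁻¹ = r * a * r⁻¹ * (φ b * a⁻¹) by simp only [hφd]; group,
      hYc _ (hφY b hb) a⁻¹ (inv_mem ha)]
    simp only [hφd]; group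
  have hφF : ∀ f ∈ F, φ f = 1 := fun f hf => by
    rcases hFmem f hf with hfY | ⟨y, hy, rfl⟩
    · show r * f * r⁻¹ * f⁻¹ = 1
      rw [← hYc f hfY r hrP]; group
    · show r * (r * y) * r⁻¹ * (r * y)⁻¹ = 1
      rw [← hYc y hy r hrP, ← mul_assoc r, ← hYc y hy r hrP]; group
  have hφconj : ∀ x : X, ∀ v ∈ π.ker, φ (x * v * x⁻¹) = x * φ v * x⁻¹ := by
    intro x v hv
    obtain ⟨n, hn, hne'⟩ := hrconj x
    have hm : r * (x * v * x⁻¹) * r⁻¹ ∈ π.ker :=
      (MonoidHom.normal_ker π).conj_mem _ ((MonoidHom.normal_ker π).conj_mem v hv x) r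
    rw [show x * φ v * x⁻¹ = x * r * x⁻¹ * (x * v * x⁻¹) * (x * r * x⁻¹)⁻¹ * (x * v * x⁻¹)⁻¹ by
      simp only [hφd]; group, hne',
      show n * r * (x * v * x⁻¹) * (n * r)⁻¹ = n * (r * (x * v * x⁻¹) * r⁻¹) * n⁻¹ by group, hYc n hn _ hm,
      mul_inv_cancel_right]
  by_cases hzero : ∀ v ∈ π.ker, φ v = 1
  · -- the fixed part is central
    have hrc : ∀ v ∈ π.ker, r * v = v * r := fun v hv => mul_inv_eq_iff_eq_mul.mp (mul_inv_eq_one.mp (hzero v hv))
    have hFc : ∀ f ∈ F, ∀ v ∈ π.ker, f * v = v * f := fun f hf v hv => by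
      rcases hFmem f hf with hfY | ⟨y, hy, rfl⟩
      · exact hYc f hfY v hv
      · rw [mul_assoc, hYc y hy v hv, ← mul_assoc, hrc v hv, mul_assoc]
    let T : Set X := {t | t ∈ F ∧ t ∉ Y}
    have hT : ∀ t, t ∈ T ↔ r⁻¹ * t ∈ Y := fun t =>
      ⟨fun ht => mem_of_relIndex_two hF2 hr ht.1 hrY ht.2, fun hy => by
        have e : t = r * (r⁻¹ * t) := (mul_inv_cancel_left _ _).symm
        rw [e]
        refine ⟨mul_mem hr (hYF hy), fun hh => hrY ?_⟩
        have := mul_mem hh (inv_mem hy)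
        rwa [mul_inv_cancel_right] at this⟩
    have hnofix : ∀ (g : X) (k : ℕ), π g ≠ 1 → π g ^ 2 ^ k = 1 → ∀ t ∈ T, g * t ≠ t * g := fun g k hg hk t ht e =>
      h.eight_false hnf T (fun x t ht => ⟨hl.sec.normA.conj_mem t ht.1 x,
          fun hh => ht.2 (by simpa [mul_assoc] using (inferInstance : Y.Normal).conj_mem _ hh x⁻¹)⟩)
        (ncard_coset hY8 r T hT) (fun q hq t ht => (hFc t ht.1 q hq).symm)
        (fun t ht => ⟨hFle ht.1, fun e => ht.2 (e ▸ one_mem _), hFexp t ht.1⟩) hg hk ht e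
    obtain ⟨hcomm, -, -⟩ := Coord.square_map h CY C hYF hFexp hFc hsq
    have hinvo : ∀ g : X, C.M g * C.M g = 1 → ∀ b ∈ π.ker, (C.M g).mulVec (C.c b) = C.c b →
        g * b * g⁻¹ * b⁻¹ ∈ Y := by
      intro g hg b hb hgb
      by_cases hg1 : π g = 1
      · rw [hcomm g hg1 b hb]; simp
      have hgg : g * g ∈ π.ker := MonoidHom.mem_ker.mpr ((C.ker _).mp (by rw [map_mul, hg]))
      have hgb' := (MonoidHom.normal_ker π).conj_mem b hb g
      have hyF : g * b * g⁻¹ * b⁻¹ ∈ F := by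
        have := (C.c_eq_iff hb hgb').mp (by rw [C.conj g b hb, hgb])
        rwa [hcomm _ (inv_mem hb) _ hgb'] at this
      by_contra hyY
      refine hnofix g 1 hg1 (by rw [pow_one, sq, ← map_mul]; exact hgg) _ ⟨hyF, hyY⟩ ?_
      refine mul_inv_eq_iff_eq_mul.mp ?_
      calc g * (g * b * g⁻¹ * b⁻¹) * g⁻¹ = g * g * b * (g * g)⁻¹ * (g * b * g⁻¹)⁻¹ := by group
        _ = b * (g * b * g⁻¹)⁻¹ := by rw [hcomm _ hgg b hb, mul_inv_cancel_right]
        _ = (g * b * g⁻¹ * b⁻¹)⁻¹ := by group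
        _ = g * b * g⁻¹ * b⁻¹ := inv_eq_of_mul_eq_one_left (hFexp _ hyF)
    obtain ⟨B, hBle, hlB⟩ := C.exists_sub_of_fixed hs hYF hfix hinvo
    exact hsub B hBle hlB
  · -- the fixed part acts
    push Not at hzero
    obtain ⟨v0, hv0, hv01⟩ := hzero
    have hc0 : C.c v0 ≠ 0 := fun e => hv01 (hφF _ ((C.zero_iff v0 hv0).mp e))
    have hsame : ∀ a ∈ π.ker, ∀ b ∈ π.ker, C.c a = C.c b → φ a = φ b := fun a ha b hb e => by
      have hm := (C.c_eq_iff ha hb).mp e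
      rw [show φ b = φ (a * (a⁻¹ * b)) by rw [mul_inv_cancel_left], hφmul a ha _ (hFle hm), hφF _ hm, mul_one]
    have hnz : ∀ v ∈ π.ker, φ v = 1 → C.c v = 0 := by
      intro v hv e
      by_contra hne
      obtain ⟨x, hx⟩ := C.exists_one hne hc0
      refine hv01 ?_
      rw [← hsame _ ((MonoidHom.normal_ker π).conj_mem v hv x) v0 hv0 (by rw [C.conj x v hv, hx]), hφconj x v hv, e]
      group
    have hmulr : ∀ v ∈ π.ker, ∀ y ∈ Y, v * (r * y) * (v * (r * y)) = v * v * φ v := by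
      intro v hv y hy
      rw [show v * (r * y) * (v * (r * y)) = v * r * y * (v * r) * y by group,
        mul_assoc (v * r) y, hYc y hy _ (mul_mem hv hrP), ← mul_assoc, mul_assoc _ y y, hexp y hy, mul_one,
        show v * r * (v * r) = v * (φ v * v) * (r * r) by simp only [hφd]; group, hr2, mul_one,
        hYc _ (hφY v hv) v hv, ← mul_assoc]
    have hsq1 : ∀ v ∈ π.ker, v * v = 1 ∨ v * v = φ v := by
      intro v hv
      by_cases hcv : C.c v = 0
      · exact Or.inl (hFexp v ((C.zero_iff v hv).mp hcv))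
      have hcY : ∀ y ∈ Y, ∀ y' ∈ Y, CY.c y = CY.c y' → y = y' := fun y hy y' hy' e =>
        inv_mul_eq_one.mp (Subgroup.mem_bot.mp ((CY.c_eq_iff hy hy').mp e))
      set a := CY.c (v * v) with had
      set d := CY.c (φ v) with hdd
      have hd0 : d ≠ 0 := fun e => hcv (hnz v hv (hcY _ (hφY v hv) 1 (one_mem _) (by rw [CY.c_one]; exact e)))
      by_contra hcon
      push Not at hcon
      have ha0 : a ≠ 0 := fun e => hcon.1 (hcY _ (hsq v hv) 1 (one_mem _) (by rw [CY.c_one]; exact e))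
      have had' : a ≠ d := fun e => hcon.2 (hcY _ (hsq v hv) _ (hφY v hv) e)
      obtain ⟨y', hy0, hyd, hya, hyad⟩ := exists_other d a
      obtain ⟨x, hxd, hxa⟩ := CY.exists_pair hd0 ha0 (Ne.symm had') hd0 hy0 (Ne.symm hyd)
      have hxv := (MonoidHom.normal_ker π).conj_mem v hv x
      have hφx : φ (x * v * x⁻¹) = φ v := hcY _ (hφY _ hxv) _ (hφY v hv) (by
        rw [hφconj x v hv, CY.conj x _ (hφY v hv), hxd])
      have hcx : C.c (x * v * x⁻¹) = C.c v := by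
        refine ((C.c_eq_iff hv hxv).mpr ((C.zero_iff _ (mul_mem (inv_mem hv) hxv)).mp (hnz _ (mul_mem (inv_mem hv) hxv) ?_))).symm
        have := hφmul v hv _ (mul_mem (inv_mem hv) hxv)
        rw [mul_inv_cancel_left, hφx] at this
        exact left_eq_mul.mp this
      have hm := (C.c_eq_iff hv hxv).mp hcx.symm
      have e : CY.c (x * v * x⁻¹ * (x * v * x⁻¹)) = y' := by
        rw [show x * v * x⁻¹ * (x * v * x⁻¹) = x * (v * v) * x⁻¹ by group, CY.conj x _ (hsq v hv), ← had, hxa]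
      rcases hFmem _ hm with hy | ⟨y, hy, hye⟩
      · refine hya (e.symm.trans ?_)
        rw [had]
        congr 1
        rw [show x * v * x⁻¹ = v * (v⁻¹ * (x * v * x⁻¹)) by group,
          (show Commute (v⁻¹ * (x * v * x⁻¹)) v from hYc _ hy v hv).mul_mul_mul_comm, hexp _ hy, mul_one]
      · refine hyad (e.symm.trans ?_)
        rw [show x * v * x⁻¹ = v * (r * y) by rw [← hye]; group, hmulr v hv y hy,
          CY.add _ (hsq v hv) _ (hφY v hv)]
    obtain ⟨B, hBle, hlB⟩ := C.exists_sub_of_lifts hs hYF hfix {v | v ∈ π.ker ∧ C.c v ≠ 0 ∧ v * v = 1}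
      (fun b hb => hb.1)
      (fun g b hb => ⟨(MonoidHom.normal_ker π).conj_mem b hb.1 g, fun e => hb.2.1 (by
          rw [C.conj g b hb.1] at e
          have := congrArg (C.M g⁻¹).mulVec e
          rwa [Matrix.mulVec_mulVec, ← map_mul, inv_mul_cancel, map_one, Matrix.one_mulVec, Matrix.mulVec_zero] at this),
        by rw [show g * b * g⁻¹ * (g * b * g⁻¹) = g * (b * b) * g⁻¹ by group, hb.2.2]; group⟩)
      (fun b hb a ha => ⟨mul_mem hb.1 (hYP ha), by rw [C.c_mul_right hb.1 (hYF ha)]; exact hb.2.1, by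
        rw [(show Commute a b from hYc a ha b hb.1).mul_mul_mul_comm, hb.2.2, hexp a ha, one_mul]⟩)
      (fun b hb => hb.2.1)
      (fun w hw => by
        obtain ⟨v, hv, hvw⟩ := C.surj w
        rcases hsq1 v hv with e | e
        · exact ⟨v, ⟨hv, hvw ▸ hw, e⟩, hvw⟩
        · refine ⟨v * (r * 1), ⟨mul_mem hv (by simpa using hrP), ?_, ?_⟩, ?_⟩
          · rw [mul_one, C.c_mul_right hv hr]; exact hvw ▸ hw
          · rw [hmulr v hv 1 (one_mem _), e, hexp _ (hφY v hv)]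
          · rw [mul_one, C.c_mul_right hv hr]; exact hvw)
      (fun a ha b hb e => by
        rcases hFmem _ ((C.c_eq_iff ha.1 hb.1).mp e) with hy | ⟨y, hy, hye⟩
        · exact hy
        · refine absurd (hnz a ha.1 ?_) ha.2.1
          have := hmulr a ha.1 y hy
          rw [← hye, mul_inv_cancel_left, hb.2.2, ha.2.2, one_mul] at this
          exact this.symm)
    exact hsub B hBle hlB

/-- The quotient by the natural layer is not of the shape of order thirty-two. -/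
theorem Base.thirty_two_false (h : Base π) (hF : Faith π) (IH : Smaller X L) (hnf : NoFix π) {Y : Subgroup X}
    (CY : Coord π ⊥ Y) (hexp : ∀ y ∈ Y, y * y = 1) (hYc : ∀ y ∈ Y, ∀ p ∈ π.ker, y * p = p * y)
    (hcard : Y.relIndex π.ker = 32) (hcm : ∀ a ∈ π.ker, ∀ b ∈ π.ker, a * b * a⁻¹ * b⁻¹ ∈ Y) {f : X}
    (hfY : f ∉ Y) (hff : f * f ∈ Y) (hfc : f ∈ π.ker) (hsq : ∀ p ∈ π.ker, p * p ∈ Y ∨ f⁻¹ * (p * p) ∈ Y)
    {p : X} (hp : p ∈ π.ker) (hpf : f⁻¹ * (p * p) ∈ Y) : False := by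
  haveI hYn := CY.layer.sec.normB
  have hYP : Y ≤ π.ker := CY.layer.sec.sub
  have hY8 : Nat.card Y = 8 := by rw [← Subgroup.relIndex_bot_left, CY.layer.card]
  set r := p * p with hrd
  have hrP : r ∈ π.ker := mul_mem hp hp
  have hrY : r ∉ Y := fun hh => hfY (by simpa using mul_mem hh (inv_mem hpf))
  have hsqr : ∀ q ∈ π.ker, q * q ∈ Y ∨ r⁻¹ * (q * q) ∈ Y := fun q hq => (hsq q hq).imp id fun e => by
    have := mul_mem (inv_mem hpf) e
    rwa [show (f⁻¹ * r)⁻¹ * (f⁻¹ * (q * q)) = r⁻¹ * (q * q) by group] at this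
  have hrr : r * r ∈ Y := by
    have e : r * r = f * (f⁻¹ * r) * (f * (f⁻¹ * r)) := by group
    rw [e, (show Commute (f⁻¹ * r) f from hYc _ hpf f hfc).mul_mul_mul_comm]
    exact mul_mem hff (mul_mem hpf hpf)
  have hrc : ∀ q ∈ π.ker, q * r = r * q := by
    intro q hq
    refine mul_inv_eq_iff_eq_mul.mp ?_
    obtain ⟨c, hc, he⟩ : ∃ c ∈ Y, q * p * q⁻¹ = c * p := ⟨_, hcm q hq p hp, by group⟩
    rw [hrd, show q * (p * p) * q⁻¹ = q * p * q⁻¹ * (q * p * q⁻¹) by group, he,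
      (show Commute p c from (hYc c hc p hp).symm).mul_mul_mul_comm, hexp c hc, one_mul]
  have hrconj : ∀ x : X, r⁻¹ * (x * r * x⁻¹) ∈ Y := by
    intro x
    have e : x * r * x⁻¹ = x * p * x⁻¹ * (x * p * x⁻¹) := by rw [hrd]; group
    rw [e]
    refine (hsqr _ ((MonoidHom.normal_ker π).conj_mem p hp x)).resolve_left fun hh => hrY ?_
    rw [← e] at hh
    simpa [mul_assoc] using hYn.conj_mem _ hh x⁻¹
  have hr2 : r * r = 1 := by
    refine hnf _ (mul_mem hrP hrP) (hexp _ hrr) fun g => mul_inv_eq_iff_eq_mul.mp ?_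
    set n := r⁻¹ * (g * r * g⁻¹) with hn
    have he : g * r * g⁻¹ = r * n := by rw [hn]; group
    rw [show g * (r * r) * g⁻¹ = g * r * g⁻¹ * (g * r * g⁻¹) by group, he,
      (show Commute n r from hYc n (hrconj g) r hrP).mul_mul_mul_comm, hexp n (hrconj g), mul_one]
  let T : Set X := {t | r⁻¹ * t ∈ Y}
  have hTmem : ∀ t ∈ T, t ∈ π.ker ∧ t ≠ 1 ∧ t * t = 1 ∧ ∀ q ∈ π.ker, q * t = t * q := by
    intro t ht
    have e : t = r * (r⁻¹ * t) := (mul_inv_cancel_left _ _).symm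
    refine ⟨e ▸ mul_mem hrP (hYP ht), ?_, ?_, fun q hq => ?_⟩
    · rintro rfl
      exact hrY (inv_mem_iff.mp (by simpa [T] using ht))
    · rw [e, (show Commute (r⁻¹ * t) r from hYc _ ht r hrP).mul_mul_mul_comm, hr2, hexp _ ht, one_mul]
    · rw [e, ← mul_assoc, hrc q hq, mul_assoc, ← hYc _ ht q hq, ← mul_assoc]
  have hnofix : ∀ (g : X) (k : ℕ), π g ≠ 1 → π g ^ 2 ^ k = 1 → ∀ t ∈ T, g * t ≠ t * g := fun g k hg hk t ht e =>
    h.eight_false hnf T (fun x t ht => by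
        show r⁻¹ * (x * t * x⁻¹) ∈ Y
        rw [show r⁻¹ * (x * t * x⁻¹) = r⁻¹ * (x * r * x⁻¹) * (x * (r⁻¹ * t) * x⁻¹) by group]
        exact mul_mem (hrconj x) (hYn.conj_mem _ ht x))
      (ncard_coset hY8 r T fun t => Iff.rfl) (fun q hq t ht => (hTmem t ht).2.2.2 q hq)
      (fun t ht => ⟨(hTmem t ht).1, (hTmem t ht).2.1, (hTmem t ht).2.2.1⟩) hg hk ht e
  obtain ⟨u, hu⟩ := CY.real J (Matrix.det_ne_zero_of_right_inverse (B := J * J * J) (by decide +kernel))
  obtain ⟨hu1, hu4, huP⟩ := M_J_pow CY hu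
  have hu8 : u ^ 4 * u ^ 4 ∈ Y := (hsqr _ huP).resolve_right fun hh =>
    hnofix u 2 hu1 hu4 _ hh (by rw [← pow_add, (Commute.self_pow u (4 + 4)).eq])
  let B2 : Subgroup X :=
    { carrier := {q | q ∈ π.ker ∧ q * q ∈ Y}
      one_mem' := ⟨one_mem _, by simp⟩
      mul_mem' := fun {a b} ha hb => ⟨mul_mem ha.1 hb.1, by
        rw [show a * b * (a * b) = a * a * (a⁻¹ * b * a * b⁻¹) * (b * b) by group]
        refine mul_mem (mul_mem ha.2 ?_) hb.2
        have := hcm a⁻¹ (inv_mem ha.1) b hb.1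
        rwa [inv_inv] at this⟩
      inv_mem' := fun {a} ha => ⟨inv_mem ha.1, by rw [← _root_.mul_inv_rev]; exact inv_mem ha.2⟩ }
  haveI : B2.Normal := ⟨fun q hq g => ⟨(MonoidHom.normal_ker π).conj_mem q hq.1 g, by
    rw [show g * q * g⁻¹ * (g * q * g⁻¹) = g * (q * q) * g⁻¹ by group]
    exact hYn.conj_mem _ hq.2 g⟩⟩
  have hidx : B2.relIndex π.ker = 2 := by
    refine Subgroup.index_eq_two_iff.mpr ⟨⟨p, hp⟩, fun b => ?_⟩
    simp only [Subgroup.mem_subgroupOf, Subgroup.coe_mul]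
    have hpB : p ∉ B2 := fun hh => hrY hh.2
    by_cases hb : (b : X) ∈ B2
    · exact Or.inr ⟨hb, fun hh => hpB (by simpa using mul_mem (inv_mem hb) hh)⟩
    · refine Or.inl ⟨⟨mul_mem b.2 hp, ?_⟩, hb⟩
      have hb' : r⁻¹ * ((b : X) * b) ∈ Y := (hsqr _ b.2).resolve_left fun hh => hb ⟨b.2, hh⟩
      have hm := hcm (b : X)⁻¹ (inv_mem b.2) p hp
      rw [inv_inv] at hm
      rw [show (b : X) * p * (b * p) = (b : X) * b * ((b : X)⁻¹ * p * b * p⁻¹) * (p * p) by group, ← hrd,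
        show (b : X) * b = r * (r⁻¹ * ((b : X) * b)) by group, mul_assoc, mul_assoc,
        hYc _ hm r hrP, ← mul_assoc (r⁻¹ * ((b : X) * b)), hYc _ hb' r hrP, mul_assoc r, ← mul_assoc, hr2, one_mul]
      exact mul_mem hb' hm
  have hB2 : Nat.card B2 = 128 := by
    have h1 := Subgroup.relIndex_mul_relIndex ⊥ Y π.ker bot_le hYP
    have h2 := Subgroup.relIndex_mul_relIndex ⊥ B2 π.ker bot_le (fun q hq => hq.1)
    rw [Subgroup.relIndex_bot_left, Subgroup.relIndex_bot_left, hcard, hY8] at h1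
    rw [Subgroup.relIndex_bot_left, Subgroup.relIndex_bot_left, hidx] at h2
    omega
  have := h.card_le_of_two hF IH CY B2 (fun q hq => hq.1) hidx hu ⟨huP, hu8⟩
  omega

/-- One step of the induction. -/
theorem Base.concl_step (h : Base π) (hF : Faith π) (IH : Smaller X L) : Concl π.ker := by
  classical
  by_cases hnf : NoFix π
  swap
  · simp only [NoFix, not_forall] at hnf
    obtain ⟨z, hz, hz2, hzc, hz1⟩ := hnf
    exact h.central_case hF IH hz hz1 hz2 hzc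
  haveI : Fact (Nat.Prime 2) := ⟨Nat.prime_two⟩
  obtain ⟨σ, hσ7, -, hσ1⟩ := h.exists_order_seven
  haveI : Nontrivial π.ker := by
    obtain ⟨q, hq, hne⟩ := hF.moves hσ1
    exact ⟨⟨q, hq⟩, 1, fun e => hne (by rw [show q = 1 from congrArg Subtype.val e]; simp)⟩
  let Y0 : Subgroup X :=
    { carrier := {q | q ∈ π.ker ∧ q * q = 1 ∧ ∀ w ∈ π.ker, q * w = w * q}
      one_mem' := ⟨one_mem _, one_mul 1, fun w _ => by simp⟩
      mul_mem' := fun {a b} ha hb => ⟨mul_mem ha.1 hb.1, by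
          rw [(show Commute b a from (ha.2.2 b hb.1).symm).mul_mul_mul_comm, ha.2.1, hb.2.1, one_mul],
        fun w hw => ((show Commute a w from ha.2.2 w hw).mul_left (hb.2.2 w hw)).eq⟩
      inv_mem' := fun {a} ha => ⟨inv_mem ha.1, by rw [← _root_.mul_inv_rev, ha.2.1, inv_one],
        fun w hw => (show Commute a w from ha.2.2 w hw).inv_left.eq⟩ }
  haveI : Y0.Normal := ⟨fun q hq g => ⟨(MonoidHom.normal_ker π).conj_mem q hq.1 g, by
      rw [show g * q * g⁻¹ * (g * q * g⁻¹) = g * (q * q) * g⁻¹ by group, hq.2.1]; group, fun w hw => by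
      have hw' := hq.2.2 _ ((MonoidHom.normal_ker π).conj_mem w hw g⁻¹)
      rw [inv_inv] at hw'
      calc g * q * g⁻¹ * w = g * (q * (g⁻¹ * w * g)) * g⁻¹ := by group
        _ = g * (g⁻¹ * w * g * q) * g⁻¹ := by rw [hw']
        _ = w * (g * q * g⁻¹) := by group⟩⟩
  have hY0le : Y0 ≤ π.ker := fun q hq => hq.1
  obtain ⟨y0, hy0, hy01⟩ : ∃ y ∈ Y0, y ≠ 1 := by
    haveI := h.two.center_nontrivial
    obtain ⟨n, hn⟩ := IsPGroup.iff_card.mp (h.two.to_subgroup (Subgroup.center π.ker))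
    have h1 : 1 < Nat.card (Subgroup.center π.ker) := Finite.one_lt_card
    have hdvd : 2 ∣ Nat.card (Subgroup.center π.ker) := by
      rw [hn]
      exact dvd_pow_self 2 (by rintro rfl; rw [pow_zero] at hn; omega)
    obtain ⟨z, hz⟩ := exists_prime_orderOf_dvd_card' 2 hdvd
    refine ⟨((z : π.ker) : X), ⟨(z : π.ker).2, ?_, fun w hw => ?_⟩, fun e => ?_⟩
    · have := pow_orderOf_eq_one z
      rw [hz, sq] at this
      exact congrArg (fun a : Subgroup.center π.ker => ((a : π.ker) : X)) this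
    · exact (congrArg Subtype.val (Subgroup.mem_center_iff.mp z.2 ⟨w, hw⟩)).symm
    · have : z = 1 := Subtype.ext (Subtype.ext e)
      rw [this, orderOf_one] at hz
      omega
  have hs0 : Sec π ⊥ Y0 := ⟨bot_le, inferInstance, inferInstance, hY0le,
    fun b hb => Subgroup.mem_bot.mpr hb.2.1, fun q hq b hb => Subgroup.mem_bot.mpr (by rw [← hb.2.2 q hq]; group)⟩
  have hnt : ∃ x : X, ∃ b ∈ Y0, x * b * x⁻¹ * b⁻¹ ∉ (⊥ : Subgroup X) := by
    by_contra hcon
    push Not at hcon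
    exact hy01 (hnf y0 hy0.1 hy0.2.1 fun g =>
      mul_inv_eq_iff_eq_mul.mp (mul_inv_eq_one.mp (Subgroup.mem_bot.mp (hcon g y0 hy0))))
  obtain ⟨Y, hl⟩ : ∃ Y : Subgroup X, Layer π ⊥ Y := by
    rcases h.section_cases hs0 hnt with hl | ⟨-, ⟨B, -, hl⟩ | ⟨Z, -, hZle, hZ2, -, hfix⟩⟩
    · exact ⟨Y0, hl⟩
    · exact ⟨B, hl⟩
    · exfalso
      obtain ⟨z, hz, hz1⟩ := exists_outside (A := (⊥ : Subgroup X)) (B := Z) (by omega)
      exact hz1 (Subgroup.mem_bot.mpr (hnf z (hZle hz).1 (hZle hz).2.1 fun g =>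
        mul_inv_eq_iff_eq_mul.mp (mul_inv_eq_one.mp (Subgroup.mem_bot.mp (hfix g z hz)))))
  obtain ⟨CY⟩ := h.exists_coord hl
  haveI := hl.sec.normB
  have hYP := hl.sec.sub
  have hexp : ∀ y ∈ Y, y * y = 1 := fun y hy => Subgroup.mem_bot.mp (hl.sec.sq y hy)
  have hYc : ∀ y ∈ Y, ∀ q ∈ π.ker, y * q = q * y := fun y hy q hq =>
    (mul_inv_eq_iff_eq_mul.mp (mul_inv_eq_one.mp (Subgroup.mem_bot.mp (hl.sec.triv q hq y hy)))).symm
  have hY8 : Nat.card Y = 8 := by rw [← Subgroup.relIndex_bot_left, hl.card]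
  by_cases hmove : ∀ s : X, s ^ 7 = 1 → π s ≠ 1 → ∃ q ∈ π.ker, s * q * s⁻¹ * q⁻¹ ∉ Y
  · exfalso
    have hYne : Y ≠ ⊥ := by rintro rfl; rw [Subgroup.card_bot] at hY8; omega
    rcases h.quot IH Y hYP hYne hmove with ⟨hc | hc, hsq⟩ | ⟨hc, hcm, f, hf, hfY, hff, hsq, p, hp, hpf⟩
    · obtain ⟨q0, hq0, hne0⟩ := hmove σ hσ7 hσ1
      have hl' : Layer π Y π.ker := ⟨⟨hYP, inferInstance, inferInstance, le_rfl, hsq, fun a ha b hb => by
        rw [show a * b * a⁻¹ * b⁻¹ = a * a * (a⁻¹ * b * (a⁻¹ * b)) * (b⁻¹ * b⁻¹) by group]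
        exact mul_mem (mul_mem (hsq a ha) (hsq _ (mul_mem (inv_mem ha) hb))) (hsq _ (inv_mem hb))⟩, hc,
        σ, q0, hq0, hne0⟩
      obtain ⟨C⟩ := h.exists_coord hl'
      exact h.homocyclic_false CY C hexp hYc hsq
    · exact h.sixteen_false hF IH hnf CY hexp hYc hsq hc hmove
    · exact h.thirty_two_false hF IH hnf CY hexp hYc hc hcm hfY hff hf hsq hp hpf
  push Not at hmove
  obtain ⟨s, -, hs1, hsY⟩ := hmove
  by_cases hall : ∀ q ∈ π.ker, q * q = 1
  · refine Or.inl ⟨?_, hall⟩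
    have hle := CfsgLib.RankFour.relIndex_le_of_sq_mem h.rank (X := π.ker) (N := ⊥)
      (fun x _ n hn => by rw [Subgroup.mem_bot] at hn ⊢; rw [hn]; group)
      (fun q hq => Subgroup.mem_bot.mpr (hall q hq))
    rw [Subgroup.relIndex_bot_left] at hle
    obtain ⟨m, hm⟩ := Subgroup.card_dvd_of_le hYP
    rw [hY8] at hm
    have hpos : 0 < Nat.card π.ker := Nat.card_pos
    have hm2 : m = 1 ∨ m = 2 := by omega
    rcases hm2 with rfl | rfl <;> omega
  exfalso
  push Not at hall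
  obtain ⟨q0, hq0, hq01⟩ := hall
  let Sq : Set X := (fun q => q * q) '' (π.ker : Set X)
  let C : Subgroup X := Subgroup.centralizer Sq
  haveI : C.Normal := ⟨fun c hc g => by
    rw [Subgroup.mem_centralizer_iff] at hc ⊢
    rintro _ ⟨q, hq, rfl⟩
    have := hc _ ⟨g⁻¹ * q * g⁻¹⁻¹, (MonoidHom.normal_ker π).conj_mem q hq g⁻¹, rfl⟩
    rw [inv_inv] at this
    calc q * q * (g * c * g⁻¹) = g * (g⁻¹ * q * g * (g⁻¹ * q * g) * c) * g⁻¹ := by group
      _ = g * (c * (g⁻¹ * q * g * (g⁻¹ * q * g))) * g⁻¹ := by rw [this]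
      _ = g * c * g⁻¹ * (q * q) := by group⟩
  have hsC : s ∈ C := by
    rw [Subgroup.mem_centralizer_iff]
    rintro _ ⟨q, hq, rfl⟩
    obtain ⟨n, hn, hne⟩ : ∃ n ∈ Y, s * q * s⁻¹ = n * q := ⟨_, hsY q hq, by group⟩
    refine (mul_inv_eq_iff_eq_mul.mp ?_).symm
    show s * (q * q) * s⁻¹ = q * q
    rw [show s * (q * q) * s⁻¹ = s * q * s⁻¹ * (s * q * s⁻¹) by group, hne,
      (show Commute q n from (hYc n hn q hq).symm).mul_mul_mul_comm, hexp n hn, one_mul]
  let N : Subgroup X := Subgroup.closure Sq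
  have hNle : N ≤ π.ker := (Subgroup.closure_le _).mpr (by rintro _ ⟨q, hq, rfl⟩; exact mul_mem hq hq)
  have hNinv : ∀ g : X, ∀ n ∈ N, g * n * g⁻¹ ∈ N := fun g => by
    have hh : N ≤ N.comap (MulAut.conj g).toMonoidHom := (Subgroup.closure_le _).mpr (by
      rintro _ ⟨q, hq, rfl⟩
      refine Subgroup.subset_closure ⟨g * q * g⁻¹, (MonoidHom.normal_ker π).conj_mem q hq g, ?_⟩
      show g * q * g⁻¹ * (g * q * g⁻¹) = g * (q * q) * g⁻¹
      group)
    exact fun n hn => hh hn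
  letI : MulAction π.ker N :=
    { smul := fun q n => ⟨(q : X) * n * (q : X)⁻¹, hNinv q n n.2⟩
      one_smul := fun n => Subtype.ext (show (1 : X) * n * (1 : X)⁻¹ = n by group)
      mul_smul := fun a b n => Subtype.ext (show (a : X) * b * n * ((a : X) * b)⁻¹ = a * (b * n * (b : X)⁻¹) * (a : X)⁻¹ by group) }
  have hN1 : (q0 * q0) ∈ N := Subgroup.subset_closure ⟨q0, hq0, rfl⟩
  have hdvd : 2 ∣ Nat.card N := by
    obtain ⟨n, hn⟩ := IsPGroup.iff_card.mp (h.two.to_le hNle)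
    rw [hn]
    refine dvd_pow_self 2 ?_
    rintro rfl
    rw [pow_zero] at hn
    exact hq01 (Subgroup.mem_bot.mp (Subgroup.eq_bot_of_card_eq N hn ▸ hN1))
  obtain ⟨z, hz, hz1⟩ := h.two.exists_fixed_point_of_prime_dvd_card_of_fixed_point N hdvd (a := 1)
    (fun q => Subtype.ext (show (q : X) * 1 * (q : X)⁻¹ = 1 by group))
  have hzc : ∀ q ∈ π.ker, q * (z : X) = z * q := fun q hq =>
    mul_inv_eq_iff_eq_mul.mp (congrArg Subtype.val (hz ⟨q, hq⟩))
  have hzC : ∀ c ∈ C, c * (z : X) = z * c := by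
    intro c hc
    have hh : N ≤ Subgroup.centralizer {c} := (Subgroup.closure_le _).mpr fun t ht => by
      rw [SetLike.mem_coe, Subgroup.mem_centralizer_iff]
      rintro _ rfl
      exact (Subgroup.mem_centralizer_iff.mp hc t ht).symm
    exact Subgroup.mem_centralizer_iff.mp (hh z.2) c rfl
  have hzX : ∀ g : X, g * (z : X) = z * g := fun g => by
    obtain ⟨n, hn, hne⟩ := h.cover C hsC hs1 g
    have hm : n⁻¹ * g ∈ π.ker := by rw [MonoidHom.mem_ker, map_mul, map_inv, hne, inv_mul_cancel]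
    calc g * (z : X) = n * (n⁻¹ * g * z) := by group
      _ = n * z * (n⁻¹ * g) := by rw [hzc _ hm, mul_assoc]
      _ = z * g := by rw [hzC n hn]; group
  have hz1' : (z : X) ≠ 1 := fun e => hz1 (Subtype.ext e.symm)
  obtain ⟨m, hm⟩ := IsPGroup.iff_orderOf.mp h.two ⟨(z : X), hNle z.2⟩
  rw [Subgroup.orderOf_mk] at hm
  obtain ⟨j, rfl⟩ := Nat.exists_eq_succ_of_ne_zero (n := m) (by
    rintro rfl; rw [pow_zero, orderOf_eq_one_iff] at hm; exact hz1' hm)
  refine (pow_ne_one_of_lt_orderOf (by positivity) (by rw [hm]; exact Nat.pow_lt_pow_succ (by norm_num)) :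
    (z : X) ^ 2 ^ j ≠ 1) (hnf _ (pow_mem (hNle z.2) _) ?_ fun g => ((show Commute g (z : X) from hzX g).pow_right _).eq)
  rw [← pow_add, ← two_mul, ← pow_succ', ← hm, pow_orderOf_eq_one]

/-- The induction. -/
theorem Base.concl : ∀ (n : ℕ) (X' : Type u) [Group X'] [Finite X'] (π' : X' →* L),
    Nat.card X' = n → Base π' → Faith π' → Concl π'.ker := by
  intro n
  induction n using Nat.strong_induction_on with
  | _ n ih =>
    intro X' _ _ π' hn hb hf
    refine hb.concl_step hf ?_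
    intro X'' _ _ π'' hlt hb' hf'
    exact ih _ (hn ▸ hlt) X'' π'' rfl hb' hf'

end CfsgLib.RankFour.LThree
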