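import Cfsg.Agent.Lib.RankFour.LThree.Four

/-!
The case of a central involution in the kernel.
-/

set_option autoImplicit false
set_option linter.style.haveILetI false
set_option linter.unusedSectionVars false

namespace CfsgLib.RankFour.LThree

open Matrix

universe u v

variable {X : Type u} [Group X] [Finite X] {L : Type v} [Group L] {π : X →* L}

/-- A central subgroup of index sixteen with exponent two above it leaves a commutative kernel. -/
theorem Base.comm_sixteen (h : Base π) (hF : Faith π) {R : Subgroup X} [R.Normal] (hR : R ≤ π.ker)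
    (hRc : ∀ g : X, ∀ r ∈ R, g * r = r * g) (hsq : ∀ p ∈ π.ker, p * p ∈ R)
    (hcm : ∀ a ∈ π.ker, ∀ b ∈ π.ker, a * b * a⁻¹ * b⁻¹ ∈ R) (h16 : R.relIndex π.ker = 16) :
    ∀ a ∈ π.ker, ∀ b ∈ π.ker, a * b = b * a := by
  obtain ⟨σ, hσ7, -, hσ1⟩ := h.exists_order_seven
  obtain ⟨p0, hp0, hne⟩ := hF.moves_mod h hσ7 hσ1 hR fun a ha => hRc σ a ha
  have hs : Sec π R π.ker := ⟨hR, inferInstance, inferInstance, le_rfl, hsq, hcm⟩
  have hcen : ∀ a ∈ π.ker, ∀ b ∈ π.ker, ∀ g : X, g * (a * b * a⁻¹ * b⁻¹) = a * b * a⁻¹ * b⁻¹ * g :=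
    fun a ha b hb g => hRc g _ (hcm a ha b hb)
  rcases h.section_cases hs ⟨σ, p0, hp0, hne⟩ with hl | ⟨-, ⟨B, hBle, hl⟩ | ⟨Z, hRZ, hZle, hZ2, hl, hfix⟩⟩
  · have := hl.card
    omega
  · obtain ⟨C⟩ := h.exists_coord hl
    haveI := hl.sec.normB
    have hBc := C.commute_of_central (fun a ha b hb => hcen a (hBle ha) b (hBle hb))
      (fun a ha b _ => (hRc b a ha).symm)
    have h2 : B.relIndex π.ker = 2 := by
      have h1 := Subgroup.relIndex_mul_relIndex R B π.ker C.le hBle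
      rw [hl.card, h16] at h1
      omega
    obtain ⟨p, hp, hpB⟩ := exists_outside (A := B) (B := π.ker) (by omega)
    have hpc := C.commute_extra hBc (p := p) (fun b hb => C.le (hcm p hp b (hBle hb)))
      (fun a ha => hRc p a ha) (fun g => by
        have hg := (MonoidHom.normal_ker π).conj_mem p hp g
        refine ⟨p⁻¹ * (g * p * g⁻¹), mem_of_relIndex_two h2 hp hg hpB fun hh => hpB ?_, by group⟩
        simpa [mul_assoc] using (inferInstance : B.Normal).conj_mem _ hh g⁻¹)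
      (fun b hb => hcen p hp b (hBle hb))
    intro a ha b hb
    by_cases haB : a ∈ B <;> by_cases hbB : b ∈ B
    · exact hBc a haB b hbB
    · obtain ⟨n, hn, rfl⟩ : ∃ n ∈ B, b = p * n := ⟨_, mem_of_relIndex_two h2 hp hb hpB hbB, by group⟩
      rw [← mul_assoc, ← hpc a haB, mul_assoc, hBc a haB n hn, ← mul_assoc]
    · obtain ⟨n, hn, rfl⟩ : ∃ n ∈ B, a = p * n := ⟨_, mem_of_relIndex_two h2 hp ha hpB haB, by group⟩
      rw [mul_assoc, hBc n hn b hbB, ← mul_assoc, hpc b hbB, mul_assoc]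
    · obtain ⟨n, hn, rfl⟩ : ∃ n ∈ B, a = p * n := ⟨_, mem_of_relIndex_two h2 hp ha hpB haB, by group⟩
      obtain ⟨n', hn', rfl⟩ : ∃ n ∈ B, b = p * n := ⟨_, mem_of_relIndex_two h2 hp hb hpB hbB, by group⟩
      calc p * n * (p * n') = p * (n * p) * n' := by group
        _ = p * (p * n) * n' := by rw [hpc n hn]
        _ = p * p * (n * n') := by group
        _ = p * p * (n' * n) := by rw [hBc n hn n' hn']
        _ = p * (p * n') * n := by group
        _ = p * (n' * p) * n := by rw [hpc n' hn']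
        _ = p * n' * (p * n) := by group
  · obtain ⟨C⟩ := h.exists_coord hl
    obtain ⟨z, hz, hzR⟩ := exists_outside (A := R) (B := Z) (by omega)
    have hmul : ∀ a ∈ π.ker, ∀ b ∈ π.ker,
        z * (a * b) * z⁻¹ * (a * b)⁻¹ = z * a * z⁻¹ * a⁻¹ * (z * b * z⁻¹ * b⁻¹) := fun a ha b hb => by
      rw [show z * (a * b) * z⁻¹ * (a * b)⁻¹ = z * a * z⁻¹ * ((z * b * z⁻¹ * b⁻¹) * a⁻¹) by group,
        ← hcen z (hZle hz) b hb a⁻¹]
      group
    have hZc : ∀ a ∈ Z, z * a * z⁻¹ * a⁻¹ = 1 := by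
      intro a ha
      by_cases haR : a ∈ R
      · rw [hRc z a haR]; group
      · obtain ⟨r, hr, rfl⟩ : ∃ r ∈ R, a = z * r := ⟨_, mem_of_relIndex_two hZ2 hz ha hzR haR, by group⟩
        rw [show z * (z * r) * z⁻¹ * (z * r)⁻¹ = z * (z * r * z⁻¹ * r⁻¹) * z⁻¹ by group, hRc z r hr]
        group
    have hzc := C.zero_of_invariant (fun b => z * b * z⁻¹ * b⁻¹) hmul hZc (fun x b hb => by
      show z * (x * b * x⁻¹) * z⁻¹ * (x * b * x⁻¹)⁻¹ = z * b * z⁻¹ * b⁻¹
      have hr := hfix x⁻¹ z hz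
      rw [inv_inv] at hr
      have e : x⁻¹ * z * x = (x⁻¹ * z * x * z⁻¹) * z := by group
      calc z * (x * b * x⁻¹) * z⁻¹ * (x * b * x⁻¹)⁻¹
          = x * ((x⁻¹ * z * x) * b * (x⁻¹ * z * x)⁻¹ * b⁻¹) * x⁻¹ := by group
        _ = x * ((x⁻¹ * z * x * z⁻¹) * (z * b * z⁻¹) * (x⁻¹ * z * x * z⁻¹)⁻¹ * b⁻¹) * x⁻¹ := by group
        _ = x * (z * b * z⁻¹ * b⁻¹) * x⁻¹ := by rw [← hRc (z * b * z⁻¹) _ hr]; group
        _ = z * b * z⁻¹ * b⁻¹ := by rw [hcen z (hZle hz) b hb x]; group)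
    have hzc' : ∀ b ∈ π.ker, z * b = b * z := fun b hb =>
      mul_inv_eq_iff_eq_mul.mp (mul_inv_eq_one.mp (hzc b hb))
    refine C.commute_of_central hcen fun a ha b hb => ?_
    by_cases haR : a ∈ R
    · exact (hRc b a haR).symm
    · obtain ⟨r, hr, rfl⟩ : ∃ r ∈ R, a = z * r := ⟨_, mem_of_relIndex_two hZ2 hz ha hzR haR, by group⟩
      rw [mul_assoc, ← hRc b r hr, ← mul_assoc, hzc' b hb, mul_assoc]

theorem eight_facts : (∀ v : V, v = 0 ∨ v = e1 → T1.mulVec v + v = 0 ∧ J.mulVec v = v) ∧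
    (∀ v : V, T1.mulVec v + v = 0 ∨ T1.mulVec v + v = e1) ∧ J * J * (J * J) = 1 := by
  decide +kernel

/-- The kernel is not cyclic of order eight times elementary abelian of order eight. -/
theorem Base.cyclic_eight_false (h : Base π) {y r x : X} (hy1 : y ≠ 1) (hr : r * r = y) (hy2 : y * y = 1)
    (hx : x ∈ π.ker) (hxr : x * x = r) (hcard : Nat.card π.ker = 64)
    (hc : ∀ a ∈ π.ker, ∀ b ∈ π.ker, a * b = b * a) (hrc : ∀ g : X, g * r = r * g)
    (hsqv : ∀ p ∈ π.ker, p * p = 1 ∨ p * p = y ∨ p * p = r ∨ p * p = r * y)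
    {Ω : Subgroup X} (hΩ : ∀ p, p ∈ Ω ↔ p ∈ π.ker ∧ p * p = 1) (hΩ16 : Nat.card Ω = 16)
    (C : Coord π (Subgroup.zpowers y) Ω) : False := by
  have hyc : ∀ g : X, g * y = y * g := fun g => by rw [← hr, ← mul_assoc, hrc g, mul_assoc, hrc g, ← mul_assoc]
  have hrP : r ∈ π.ker := hxr ▸ mul_mem hx hx
  have hyP : y ∈ π.ker := hr ▸ mul_mem hrP hrP
  have hyZ : ∀ g ∈ Subgroup.zpowers y, g = 1 ∨ g = y := by
    intro g hg
    obtain ⟨m, rfl⟩ := Subgroup.mem_zpowers_iff.mp hg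
    obtain ⟨k, rfl⟩ | ⟨k, rfl⟩ := Int.even_or_odd m
    · left; rw [_root_.zpow_add, ← (Commute.refl y).mul_zpow, hy2, _root_.one_zpow]
    · right; rw [_root_.zpow_add, _root_.zpow_mul, zpow_two, hy2, _root_.one_zpow, one_mul, zpow_one]
  have hry : r ≠ 1 ∧ r ≠ y ∧ r * y ≠ 1 ∧ r * y ≠ y := by
    have h1 : r ≠ 1 := fun e => hy1 (by rw [← hr, e, mul_one])
    refine ⟨h1, fun e => hy1 ?_, fun e => h1 ?_, fun e => h1 (mul_eq_right.mp e)⟩
    · rw [e] at hr
      exact mul_eq_right.mp hr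
    · have hry' : r = y := by rw [← mul_one r, ← hy2, ← mul_assoc, e, one_mul]
      have : y * y = y := by
        conv_lhs => rw [← hry']
        exact hr
      rw [hry', ← mul_eq_left.mp this]
  have hsq2 : ∀ a ∈ π.ker, ∀ b ∈ π.ker, a * b * (a * b) = a * a * (b * b) := fun a ha b hb =>
    (show Commute b a from hc b hb a ha).mul_mul_mul_comm a b
  have hsinv : ∀ p : X, p * p = 1 → p⁻¹ = p := fun p hp => inv_eq_of_mul_eq_one_left hp
  let B2 : Subgroup X :=
    { carrier := {p | p ∈ π.ker ∧ p * p ∈ Subgroup.zpowers y}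
      one_mem' := ⟨one_mem _, by simp⟩
      mul_mem' := fun {a b} ha hb => ⟨mul_mem ha.1 hb.1, by rw [hsq2 a ha.1 b hb.1]; exact mul_mem ha.2 hb.2⟩
      inv_mem' := fun {a} ha => ⟨inv_mem ha.1, by rw [← _root_.mul_inv_rev]; exact inv_mem ha.2⟩ }
  have hB2P : B2 ≤ π.ker := fun p hp => hp.1
  haveI : B2.Normal := ⟨fun p hp g => ⟨(MonoidHom.normal_ker π).conj_mem p hp.1 g, by
    rw [show g * p * g⁻¹ * (g * p * g⁻¹) = g * (p * p) * g⁻¹ by group]
    rcases hyZ _ hp.2 with e | e <;> rw [e]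
    · simp
    · rw [hyc g, mul_inv_cancel_right]; exact Subgroup.mem_zpowers y⟩⟩
  have hΩB : ∀ p ∈ Ω, p ∈ B2 := fun p hp => ⟨((hΩ p).mp hp).1, by rw [((hΩ p).mp hp).2]; exact one_mem _⟩
  have hxB : x ∉ B2 := fun hh => by
    rcases hyZ _ hh.2 with e | e <;> rw [hxr] at e
    exacts [hry.1 e, hry.2.1 e]
  have hout : ∀ p ∈ π.ker, p ∉ B2 → x * p ∈ B2 := by
    intro p hp hpB
    refine ⟨mul_mem hx hp, ?_⟩
    rw [hsq2 x hx p hp, hxr]
    rcases hsqv p hp with e | e | e | e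
    · exact absurd ⟨hp, by rw [e]; exact one_mem _⟩ hpB
    · exact absurd ⟨hp, by rw [e]; exact Subgroup.mem_zpowers y⟩ hpB
    · rw [e, hr]; exact Subgroup.mem_zpowers y
    · rw [e, ← mul_assoc, hr, hy2]; exact one_mem _
  have hidx : B2.relIndex π.ker = 2 := by
    refine Subgroup.index_eq_two_iff.mpr ⟨⟨x, hx⟩, fun b => ?_⟩
    simp only [Subgroup.mem_subgroupOf, Subgroup.coe_mul]
    rw [hc (b : X) b.2 x hx]
    by_cases hb : (b : X) ∈ B2
    · exact Or.inr ⟨hb, fun hh => hxB (by simpa using mul_mem hh (inv_mem hb))⟩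
    · exact Or.inl ⟨hout _ b.2 hb, hb⟩
  have hB32 : Nat.card B2 = 32 := by
    have h1 := Subgroup.relIndex_mul_relIndex ⊥ B2 π.ker bot_le hB2P
    rw [Subgroup.relIndex_bot_left, Subgroup.relIndex_bot_left, hidx, hcard] at h1
    omega
  -- squares
  let S : X → X := fun p => p * p
  have hSmul : ∀ a ∈ π.ker, ∀ b ∈ π.ker, S (a * b) = S a * S b := hsq2
  have hScen : ∀ p ∈ π.ker, ∀ g : X, g * S p = S p * g := fun p hp g => by
    rcases hsqv p hp with e | e | e | e <;> simp only [S, e]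
    · simp
    · exact hyc g
    · exact hrc g
    · rw [← mul_assoc, hrc g, mul_assoc, hyc g, ← mul_assoc]
  have hSconj : ∀ p ∈ π.ker, ∀ g : X, S (g * p * g⁻¹) = S p := fun p hp g => by
    show g * p * g⁻¹ * (g * p * g⁻¹) = p * p
    rw [show g * p * g⁻¹ * (g * p * g⁻¹) = g * (p * p) * g⁻¹ by group, hScen p hp g, mul_inv_cancel_right]
  have hS4 : ∀ p ∈ π.ker, S p * S p * (S p * S p) = 1 := fun p hp => by
    rcases hsqv p hp with e | e | e | e <;> simp only [S, e]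
    · simp
    · simp [hy2]
    · simp [hr, hy2]
    · rw [show r * y * (r * y) = r * r * (y * y) from (show Commute y r from (hyc r).symm).mul_mul_mul_comm r y,
        hr, hy2, mul_one, hy2]
  have hmem : ∀ z : X, C.M z = 1 → z ∈ π.ker := fun z hz => MonoidHom.mem_ker.mpr ((C.ker z).mp hz)
  obtain ⟨g0, hg0⟩ := C.real G (Matrix.det_ne_zero_of_right_inverse G_inv)
  obtain ⟨Hm, hH0, hHT, -⟩ := T12_conj
  obtain ⟨Hi, hHi⟩ := inv_of_det hH0
  obtain ⟨h0, hh0⟩ := C.real Hm hH0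
  -- an element over the regular unipotent matrix
  have hrel : ∀ u g k : X, C.M u = J → C.M g = G → C.M k = Hm →
      u * u * (u * u) ∈ B2 ∧
        ∀ s, s = u * u * (g * (u * u) * g⁻¹) * (k * (u * u) * k⁻¹)⁻¹ → s ∈ π.ker ∧
        S (u * u * (g * (u * u) * g⁻¹) * (u * u)⁻¹ * (g * (u * u) * g⁻¹)⁻¹) * S (u * u * (u * u)) = S s * S s := by
    intro u g k hu hg hk
    set t1 := u * u with ht1
    set t2 := g * t1 * g⁻¹ with ht2
    set t3 := k * t1 * k⁻¹ with ht3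
    have hM1 : C.M t1 = T1 := by rw [ht1, map_mul, hu, J_sq]
    have hM2 : C.M t2 = T2 := by rw [ht2, map_mul, map_mul, hg, hM1, C.M_inv hg G_inv, T2_eq]
    have hM3 : C.M t3 = T1 * T2 := by
      have hki : Hm * C.M k⁻¹ = 1 := by rw [← hk, ← map_mul, mul_inv_cancel, map_one]
      rw [ht3, map_mul, map_mul, hM1, hk, hHT, mul_assoc, hki, mul_one]
    have ha : t1 * t1 ∈ π.ker := hmem _ (by rw [map_mul, hM1, T1_inv])
    have hq : t1 * t2 * t1⁻¹ * t2⁻¹ ∈ π.ker := hmem _ (by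
      rw [map_mul, map_mul, map_mul, C.M_inv hM1 T1_inv, C.M_inv hM2 T2_inv, hM1, hM2, mul_assoc (T1 * T2),
        T12_inv])
    have hs : t1 * t2 * t3⁻¹ ∈ π.ker := hmem _ (by
      rw [map_mul, map_mul, C.M_inv hM3 T12_inv, hM1, hM2, T12_inv])
    have ha2 : t2 * t2 = g * (t1 * t1) * g⁻¹ := by rw [ht2]; group
    have ha3 : t3 * t3 = k * (t1 * t1) * k⁻¹ := by rw [ht3]; group
    set q := t1 * t2 * t1⁻¹ * t2⁻¹ with hqd
    set s := t1 * t2 * t3⁻¹ with hsd
    have hq2 : S q * S q = 1 := by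
      have e : S (t1 * q * t1⁻¹ * q) = 1 := by
        rw [show t1 * q * t1⁻¹ * q = t1 * t1 * (t2 * (t1 * t1)⁻¹ * t2⁻¹) by rw [hqd]; group,
          hSmul _ ha _ ((MonoidHom.normal_ker π).conj_mem _ (inv_mem ha) t2), hSconj _ (inv_mem ha),
          ← hSmul _ ha _ (inv_mem ha), mul_inv_cancel]
        exact mul_one 1
      rwa [hSmul _ ((MonoidHom.normal_ker π).conj_mem q hq t1) _ hq, hSconj q hq] at e
    have hrel1 : S (t1 * t2 * (t1 * t2)) = S q * (S (t1 * t1) * S (t1 * t1)) := by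
      have e : t1 * t2 * (t1 * t2) = q * (t2 * (t1 * t1) * t2⁻¹) * (t2 * t2) := by rw [hqd]; group
      have h2 : t2 * t2 ∈ π.ker := ha2 ▸ (MonoidHom.normal_ker π).conj_mem _ ha g
      have h2' := (MonoidHom.normal_ker π).conj_mem _ ha t2
      rw [e, hSmul _ (mul_mem hq h2') _ h2, hSmul q hq _ h2', hSconj _ ha, ha2, hSconj _ ha, mul_assoc]
    have hrel2 : S (t1 * t2 * (t1 * t2)) = S s * S s * S (t1 * t1) := by
      have e : t1 * t2 * (t1 * t2) = s * (t3 * s * t3⁻¹) * (t3 * t3) := by rw [hsd]; group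
      have h3 : t3 * t3 ∈ π.ker := ha3 ▸ (MonoidHom.normal_ker π).conj_mem _ ha k
      have h3' := (MonoidHom.normal_ker π).conj_mem _ hs t3
      rw [e, hSmul _ (mul_mem hs h3') _ h3, hSmul s hs _ h3', hSconj s hs, ha3, hSconj _ ha]
    have hmain : S q * S (t1 * t1) = S s * S s := by
      have e3 := hrel1.symm.trans hrel2
      rwa [← mul_assoc, mul_left_inj] at e3
    refine ⟨⟨ha, ?_⟩, fun s' hs' => by subst hs'; exact ⟨hs, hmain⟩⟩
    have e2 : S (t1 * t1) * S (t1 * t1) = 1 := by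
      have e3 := congrArg (fun p => p * p) hmain
      try simp only at e3
      rw [hS4 s hs, (show Commute (S (t1 * t1)) (S q) from hScen q hq _).mul_mul_mul_comm, hq2, one_mul] at e3
      exact e3
    show t1 * t1 * (t1 * t1) ∈ Subgroup.zpowers y
    rcases hsqv _ ha with e | e | e | e
    · rw [e]; exact one_mem _
    · rw [e]; exact Subgroup.mem_zpowers y
    · exfalso
      simp only [S, e, hr] at e2
      exact hy1 e2
    · exfalso
      simp only [S, e] at e2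
      rw [(show Commute y r from (hyc r).symm).mul_mul_mul_comm, hr, hy2, mul_one] at e2
      exact hy1 e2
  obtain ⟨u0, hu0⟩ := C.real J (Matrix.det_ne_zero_of_right_inverse (B := J * J * J) (by decide +kernel))
  obtain ⟨X1, hcov, hX1, -⟩ := h.exists_two C B2 hB2P hidx hu0 (by
    have := (hrel u0 g0 h0 hu0 hg0 hh0).1
    rwa [show u0 ^ 4 = u0 * u0 * (u0 * u0) by simp [pow_succ, mul_assoc]])
  obtain ⟨u, huX, hu'⟩ := hcov (π u0)
  obtain ⟨g, hgX, hg'⟩ := hcov (π g0)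
  obtain ⟨k, hkX, hk'⟩ := hcov (π h0)
  have hu : C.M u = J := (C.M_eq hu').trans hu0
  have hg : C.M g = G := (C.M_eq hg').trans hg0
  have hk : C.M k = Hm := (C.M_eq hk').trans hh0
  obtain ⟨haB, hs⟩ := hrel u g k hu hg hk
  obtain ⟨hsP, hmain⟩ := hs _ rfl
  set t1 := u * u with ht1
  set t2 := g * t1 * g⁻¹ with ht2
  set t3 := k * t1 * k⁻¹ with ht3
  set q := t1 * t2 * t1⁻¹ * t2⁻¹ with hqd
  set a := t1 * t1 with had
  have hsB : t1 * t2 * t3⁻¹ ∈ B2 := by
    have hm : t1 * t2 * t3⁻¹ ∈ X1 ⊓ π.ker := Subgroup.mem_inf.mpr ⟨mul_mem (mul_mem (mul_mem huX huX)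
      (mul_mem (mul_mem hgX (mul_mem huX huX)) (inv_mem hgX))) (inv_mem
        (mul_mem (mul_mem hkX (mul_mem huX huX)) (inv_mem hkX))), hsP⟩
    rwa [hX1] at hm
  have hq1 : S q * S a = 1 := by
    rw [hmain]
    rcases hyZ _ hsB.2 with e | e <;> simp only [S, e] <;> simp [hy2]
  have hM1 : C.M t1 = T1 := by rw [ht1, map_mul, hu, J_sq]
  have hM2 : C.M t2 = T2 := by rw [ht2, map_mul, map_mul, hg, hM1, C.M_inv hg G_inv, T2_eq]
  have hq : q ∈ π.ker := hmem _ (by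
    rw [map_mul, map_mul, map_mul, C.M_inv hM1 T1_inv, C.M_inv hM2 T2_inv, hM1, hM2, mul_assoc (T1 * T2), T12_inv])
  let K : Subgroup X :=
    { carrier := {p | p ∈ Ω ∧ (C.c p = 0 ∨ C.c p = e1)}
      one_mem' := ⟨one_mem _, Or.inl C.c_one⟩
      mul_mem' := by
        rintro a b ⟨ha, ha'⟩ ⟨hb, hb'⟩
        refine ⟨mul_mem ha hb, ?_⟩
        rw [C.add a ha b hb]
        rcases ha' with e | e <;> rcases hb' with e' | e' <;> simp [e, e', two_eq_zero]
      inv_mem' := fun {a} ha => ⟨inv_mem ha.1, by rw [C.c_inv ha.1]; exact ha.2⟩ }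
  have hKfix1 : ∀ p ∈ K, t1 * p * t1⁻¹ = p := by
    intro p hp
    have hcu : C.c (u * p * u⁻¹) = C.c p := by rw [C.conj u p hp.1, hu, (eight_facts.1 _ hp.2).2]
    have hm := (C.c_eq_iff (C.layer.sec.normB.conj_mem p hp.1 u) hp.1).mp hcu
    have e : u * p * u⁻¹ = p * y ∨ u * p * u⁻¹ = p := by
      rcases hyZ _ hm with e | e
      · exact Or.inr (inv_mul_eq_one.mp e)
      · refine Or.inl ?_
        have e' : u * p * u⁻¹ * y = p := by rw [← e]; group
        calc u * p * u⁻¹ = u * p * u⁻¹ * y * y := by rw [mul_assoc _ y y, hy2, mul_one]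
          _ = p * y := by rw [e']
    rw [ht1, show u * u * p * (u * u)⁻¹ = u * (u * p * u⁻¹) * u⁻¹ by group]
    rcases e with e | e
    · rw [e, show u * (p * y) * u⁻¹ = u * p * (y * u⁻¹) by group, ← hyc u⁻¹, ← mul_assoc, e, mul_assoc, hy2,
        mul_one]
    · rw [e, e]
  have hgK : ∀ p ∈ K, g * p * g⁻¹ ∈ K := fun p hp => ⟨C.layer.sec.normB.conj_mem p hp.1 g, by
    rw [C.conj g p hp.1, hg]
    rcases hp.2 with e | e <;> rw [e]
    · exact Or.inl (Matrix.mulVec_zero _)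
    · exact Or.inr G_e1⟩
  have hgK' : ∀ p ∈ K, g⁻¹ * p * g ∈ K := fun p hp => by
    have hm := C.layer.sec.normB.conj_mem p hp.1 g⁻¹
    have e := C.conj g⁻¹ p hp.1
    rw [inv_inv] at hm e
    refine ⟨hm, ?_⟩
    rw [e, C.M_inv hg G_inv]
    rcases hp.2 with e' | e' <;> rw [e']
    · exact Or.inl (Matrix.mulVec_zero _)
    · exact Or.inr G_e1
  have hKfix2 : ∀ p ∈ K, t2 * p * t2⁻¹ = p := fun p hp => by
    rw [ht2, show g * t1 * g⁻¹ * p * (g * t1 * g⁻¹)⁻¹ = g * (t1 * (g⁻¹ * p * g) * t1⁻¹) * g⁻¹ by group,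
      hKfix1 _ (hgK' p hp)]
    group
  have hua : u * a * u⁻¹ = a := by rw [had, ht1]; group
  rcases hyZ _ haB.2 with hSa | hSa
  · -- the four-group centralises too much
    have haΩ : a ∈ Ω := (hΩ a).mpr ⟨haB.1, hSa⟩
    have haK : a ∈ K := ⟨haΩ, J_fix _ (by rw [← hu, ← C.conj u a haΩ, hua])⟩
    have hqΩ : q ∈ Ω := (hΩ q).mpr ⟨hq, by
      have : S a = 1 := hSa
      rwa [this, mul_one] at hq1⟩
    have hqi : q⁻¹ = q := hsinv q ((hΩ q).mp hqΩ).2
    have ha2 : t2 * t2 ∈ K := by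
      rw [ht2, show g * t1 * g⁻¹ * (g * t1 * g⁻¹) = g * a * g⁻¹ by rw [had]; group]
      exact hgK a haK
    have e1' : t1 * q * t1⁻¹ = q := by
      refine Eq.trans ?_ hqi
      rw [eq_inv_iff_mul_eq_one, show t1 * q * t1⁻¹ * q = a * (t2 * a⁻¹ * t2⁻¹) by rw [hqd, had]; group,
        hKfix2 _ (inv_mem haK), mul_inv_cancel]
    have e2' : t2 * q⁻¹ * t2⁻¹ = q := by
      rw [← mul_inv_eq_one, show t2 * q⁻¹ * t2⁻¹ * q⁻¹ = t2 * t2 * (t1 * (t2 * t2)⁻¹ * t1⁻¹) by rw [hqd]; group,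
        hKfix1 _ (inv_mem ha2), mul_inv_cancel]
    rw [hqi] at e2'
    have hqK : q ∈ K := ⟨hqΩ, T12_fix _ (by rw [← hM1, ← C.conj t1 q hqΩ, e1'])
      (by rw [← hM2, ← C.conj t2 q hqΩ, e2'])⟩
    have hK4 : Nat.card K ≤ 4 := by
      obtain ⟨e0, he0, hce⟩ := C.surj e1
      have hsub : (K : Set X) ⊆ {1, y, e0, e0 * y} := by
        rintro p ⟨hp, hc' | hc'⟩
        · rcases hyZ p ((C.zero_iff p hp).mp hc') with e | e <;> simp [e]
        · rcases hyZ _ ((C.c_eq_iff he0 hp).mp (hce.trans hc'.symm)) with e | e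
          · simp [inv_mul_eq_one.mp e]
          · simp [← e]
      show Nat.card (K : Set X) ≤ 4
      rw [Nat.card_coe_set_eq]
      refine le_trans (Set.ncard_le_ncard hsub (Set.toFinite _)) ?_
      refine le_trans (Set.ncard_insert_le _ _) (Nat.succ_le_succ ?_)
      refine le_trans (Set.ncard_insert_le _ _) (Nat.succ_le_succ ?_)
      refine le_trans (Set.ncard_insert_le _ _) (Nat.succ_le_succ ?_)
      rw [Set.ncard_singleton]
    have hcom : ∀ t : X, (∀ v : V, (C.M t).mulVec v + v = 0 ∨ (C.M t).mulVec v + v = e1) →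
        ∀ b ∈ B2, t * b * t⁻¹ * b⁻¹ ∈ K := by
      intro t ht b hb
      have hΩc : ∀ w ∈ Ω, t * w * t⁻¹ * w⁻¹ ∈ K := fun w hw => by
        have hm := C.layer.sec.normB.conj_mem w hw t
        refine ⟨mul_mem hm (inv_mem hw), ?_⟩
        rw [C.add _ hm _ (inv_mem hw), C.c_inv hw, C.conj t w hw]
        exact ht _
      rcases hyZ _ hb.2 with e | e
      · exact hΩc b ((hΩ b).mpr ⟨hb.1, e⟩)
      · have hw : r⁻¹ * b ∈ Ω := (hΩ _).mpr ⟨mul_mem (inv_mem hrP) hb.1, by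
          rw [hsq2 _ (inv_mem hrP) b hb.1, e, ← _root_.mul_inv_rev, hr, inv_mul_cancel]⟩
        have := hΩc _ hw
        rwa [show t * (r⁻¹ * b) * t⁻¹ * (r⁻¹ * b)⁻¹ = (t * r⁻¹) * b * t⁻¹ * b⁻¹ * r by group,
          ((show Commute t r from hrc t).inv_right).eq, mul_assoc r⁻¹, mul_assoc r⁻¹, mul_assoc r⁻¹,
          mul_assoc, hrc, inv_mul_cancel_left] at this
    have hy' : y ∈ K := ⟨C.le (Subgroup.mem_zpowers y),
      Or.inl ((C.zero_iff y (C.le (Subgroup.mem_zpowers y))).mpr (Subgroup.mem_zpowers y))⟩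
    refine h.five C B2 K (fun p hp => hΩB p hp.1) hB2P (fun a ha b hb => hc a ha.1 b hb.1) (fun b hb => ?_)
      (by omega) hM1 hM2 (hcom t1 fun v => hM1 ▸ eight_facts.2.1 v) (hcom t2 fun v => hM2 ▸ T2_diff v) haK ha2 hqK
    rcases hyZ _ hb.2 with e | e <;> rw [e]
    exacts [one_mem _, hy']
  · -- the square of the centre moves a fixed element
    have hSq : S q = y := by
      have : S a = y := hSa
      rw [this] at hq1
      rw [eq_inv_of_mul_eq_one_left hq1, hsinv y hy2]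
    have hω : r⁻¹ * a ∈ Ω := (hΩ _).mpr ⟨mul_mem (inv_mem hrP) haB.1, by
      rw [hsq2 _ (inv_mem hrP) a haB.1, hSa, ← _root_.mul_inv_rev, hr, inv_mul_cancel]⟩
    have hωK : r⁻¹ * a ∈ K := ⟨hω, J_fix _ (by
      rw [← hu, ← C.conj u _ hω, show u * (r⁻¹ * a) * u⁻¹ = (u * r⁻¹) * (a * u⁻¹) by group,
        ((show Commute u r from hrc u).inv_right).eq, show r⁻¹ * u * (a * u⁻¹) = r⁻¹ * (u * a * u⁻¹) by group,
        hua])⟩
    have hβ : r⁻¹ * q ∈ Ω := (hΩ _).mpr ⟨mul_mem (inv_mem hrP) hq, by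
      have hSq' : q * q = y := hSq
      rw [hsq2 _ (inv_mem hrP) q hq, hSq', ← _root_.mul_inv_rev, hr, inv_mul_cancel]⟩
    set β := r⁻¹ * q with hβd
    have hβ2 : β * β = 1 := ((hΩ β).mp hβ).2
    have hqβ : q = r * β := by rw [hβd]; group
    have hfa : ∀ t : X, (∀ p ∈ K, t * p * t⁻¹ = p) → t * a * t⁻¹ = a := fun t ht => by
      have := ht _ hωK
      rw [show t * (r⁻¹ * a) * t⁻¹ = (t * r⁻¹) * (a * t⁻¹) by group, ((show Commute t r from hrc t).inv_right).eq,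
        show r⁻¹ * t * (a * t⁻¹) = r⁻¹ * (t * a * t⁻¹) by group, mul_right_inj] at this
      exact this
    have hfa2 : t1 * (t2 * t2) * t1⁻¹ = t2 * t2 := by
      rw [show t2 * t2 = g * a * g⁻¹ by rw [ht2, had]; group]
      have hm := hgK _ hωK
      rw [show g * (r⁻¹ * a) * g⁻¹ = (g * r⁻¹) * (a * g⁻¹) by group, ((show Commute g r from hrc g).inv_right).eq,
        show r⁻¹ * g * (a * g⁻¹) = r⁻¹ * (g * a * g⁻¹) by group] at hm
      have := hKfix1 _ hm
      rw [show t1 * (r⁻¹ * (g * a * g⁻¹)) * t1⁻¹ = (t1 * r⁻¹) * (g * a * g⁻¹ * t1⁻¹) by group,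
        ((show Commute t1 r from hrc t1).inv_right).eq,
        show r⁻¹ * t1 * (g * a * g⁻¹ * t1⁻¹) = r⁻¹ * (t1 * (g * a * g⁻¹) * t1⁻¹) by group, mul_right_inj] at this
      exact this
    have e1' : t1 * β * t1⁻¹ = y * β := by
      have e : t1 * q * t1⁻¹ * q = 1 := by
        rw [show t1 * q * t1⁻¹ * q = a * (t2 * a⁻¹ * t2⁻¹) by rw [hqd, had]; group,
          show t2 * a⁻¹ * t2⁻¹ = (t2 * a * t2⁻¹)⁻¹ by group, hfa t2 hKfix2, mul_inv_cancel]
      rw [hqβ, show t1 * (r * β) * t1⁻¹ * (r * β) = (t1 * r) * (β * t1⁻¹ * r * β) by group, hrc t1,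
        show r * t1 * (β * t1⁻¹ * r * β) = r * ((t1 * β * t1⁻¹) * r) * β by group, hrc (t1 * β * t1⁻¹),
        show r * (r * (t1 * β * t1⁻¹)) * β = r * r * (t1 * β * t1⁻¹ * β) by group, hr] at e
      calc t1 * β * t1⁻¹ = y * (y * (t1 * β * t1⁻¹ * β)) * β := by
            rw [← mul_assoc y, hy2, one_mul, mul_assoc _ β β, hβ2, mul_one]
        _ = y * β := by rw [e, mul_one]
    have e2' : t2 * β * t2⁻¹ = y * β := by
      have e : t2 * q⁻¹ * t2⁻¹ * q⁻¹ = 1 := by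
        rw [show t2 * q⁻¹ * t2⁻¹ * q⁻¹ = t2 * t2 * (t1 * (t2 * t2) * t1⁻¹)⁻¹ by rw [hqd]; group, hfa2,
          mul_inv_cancel]
      have e' : t2 * q * t2⁻¹ = q⁻¹ := by
        rw [mul_inv_eq_one] at e
        calc t2 * q * t2⁻¹ = (t2 * q⁻¹ * t2⁻¹)⁻¹ := by group
          _ = q⁻¹ := by rw [e]
      rw [hqβ, show t2 * (r * β) * t2⁻¹ = (t2 * r) * (β * t2⁻¹) by group, hrc t2,
        show r * t2 * (β * t2⁻¹) = r * (t2 * β * t2⁻¹) by group, _root_.mul_inv_rev r β, hsinv β hβ2] at e'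
      have hβr : β * r⁻¹ = r⁻¹ * β := ((show Commute β r from hrc β).inv_right).eq
      rw [hβr, ← eq_inv_mul_iff_mul_eq] at e'
      rw [e', ← mul_assoc, ← _root_.mul_inv_rev, hr, hsinv y hy2]
    have hyK : C.c y = 0 := (C.zero_iff y (C.le (Subgroup.mem_zpowers y))).mpr (Subgroup.mem_zpowers y)
    have hcy : C.c (y * β) = C.c β := by rw [C.add y (C.le (Subgroup.mem_zpowers y)) β hβ, hyK, zero_add]
    have hβK : β ∈ K := ⟨hβ, T12_fix _ (by rw [← hM1, ← C.conj t1 β hβ, e1', hcy])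
      (by rw [← hM2, ← C.conj t2 β hβ, e2', hcy])⟩
    rw [hKfix1 β hβK] at e1'
    exact hy1 (right_eq_mul.mp e1')

/-- The kernel with a central involution. -/
theorem Base.central_case (h : Base π) (hF : Faith π) (IH : Smaller X L) {y : X} (hy : y ∈ π.ker)
    (hy1 : y ≠ 1) (hy2 : y * y = 1) (hyc : ∀ g : X, g * y = y * g) : Concl π.ker := by
  let Z := Subgroup.zpowers y
  have hZ : ∀ g ∈ Z, g = 1 ∨ g = y := by
    intro g hg
    obtain ⟨m, rfl⟩ := Subgroup.mem_zpowers_iff.mp hg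
    obtain ⟨k, rfl⟩ | ⟨k, rfl⟩ := Int.even_or_odd m
    · left; rw [_root_.zpow_add, ← (Commute.refl y).mul_zpow, hy2, _root_.one_zpow]
    · right; rw [_root_.zpow_add, _root_.zpow_mul, zpow_two, hy2, _root_.one_zpow, one_mul, zpow_one]
  have hZc : ∀ g : X, ∀ z ∈ Z, g * z = z * g := fun g z hz => by
    rcases hZ z hz with rfl | rfl
    · simp
    · exact hyc g
  haveI hZn : Z.Normal := ⟨fun z hz g => by rw [hZc g z hz, mul_inv_cancel_right]; exact hz⟩
  have hZle : Z ≤ π.ker := Subgroup.zpowers_le.mpr hy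
  have hZne : Z ≠ ⊥ := fun e => hy1 (Subgroup.mem_bot.mp (e ▸ Subgroup.mem_zpowers y))
  have hZ2 : Nat.card Z = 2 := by
    rw [Nat.card_zpowers]
    exact orderOf_eq_prime (by rw [sq, hy2]) hy1
  have hmove : ∀ s : X, s ^ 7 = 1 → π s ≠ 1 → ∃ p ∈ π.ker, s * p * s⁻¹ * p⁻¹ ∉ Z := fun s h7 h1 =>
    hF.moves_mod h h7 h1 hZle fun a ha => hZc s a ha
  have hcardP : Nat.card π.ker = 2 * Z.relIndex π.ker := by
    have h1 := Subgroup.relIndex_mul_relIndex ⊥ Z π.ker bot_le hZle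
    rw [Subgroup.relIndex_bot_left, Subgroup.relIndex_bot_left, hZ2] at h1
    omega
  obtain ⟨σ, hσ7, -, hσ1⟩ := h.exists_order_seven
  obtain ⟨p0, hp0, hne0⟩ := hmove σ hσ7 hσ1
  rcases h.quot IH Z hZle hZne hmove with ⟨hc | hc, hsq⟩ | ⟨hc, hcm, f, hf, hfZ, hff, hsq, p, hp, hpf⟩
  · -- order sixteen
    have hcm : ∀ a ∈ π.ker, ∀ b ∈ π.ker, a * b * a⁻¹ * b⁻¹ ∈ Z := fun a ha b hb => by
      have e : a * b * a⁻¹ * b⁻¹ = a * a * (a⁻¹ * b * (a⁻¹ * b)) * (b⁻¹ * b⁻¹) := by group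
      rw [e]
      exact mul_mem (mul_mem (hsq a ha) (hsq _ (mul_mem (inv_mem ha) hb))) (hsq _ (inv_mem hb))
    have hl : Layer π Z π.ker := ⟨⟨hZle, hZn, inferInstance, le_rfl, hsq, hcm⟩, hc, σ, p0, hp0, hne0⟩
    obtain ⟨C⟩ := h.exists_coord hl
    have hcomm := C.commute_of_central (fun a ha b hb g => hZc g _ (hcm a ha b hb))
      (fun a ha b _ => (hZc b a ha).symm)
    refine Or.inl ⟨Or.inr (by omega), C.zero_of_invariant (fun b => b * b) (fun a ha b hb => ?_) (fun a ha => ?_)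
      fun x b hb => ?_⟩
    · exact (show Commute b a from hcomm b hb a ha).mul_mul_mul_comm a b
    · rcases hZ a ha with rfl | rfl
      · exact mul_one 1
      · exact hy2
    · show x * b * x⁻¹ * (x * b * x⁻¹) = b * b
      rw [show x * b * x⁻¹ * (x * b * x⁻¹) = x * (b * b) * x⁻¹ by group, hZc x _ (hsq b hb), mul_inv_cancel_right]
  · -- order thirty-two
    have hcm : ∀ a ∈ π.ker, ∀ b ∈ π.ker, a * b * a⁻¹ * b⁻¹ ∈ Z := fun a ha b hb => by
      have e : a * b * a⁻¹ * b⁻¹ = a * a * (a⁻¹ * b * (a⁻¹ * b)) * (b⁻¹ * b⁻¹) := by group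
      rw [e]
      exact mul_mem (mul_mem (hsq a ha) (hsq _ (mul_mem (inv_mem ha) hb))) (hsq _ (inv_mem hb))
    have hcomm := h.comm_sixteen hF hZle hZc hsq hcm hc
    refine Or.inr ⟨by omega, hcomm, y, hy, hy1, hy2, fun q hq => hZ _ (hsq q hq), ?_⟩
    by_contra hcon
    push Not at hcon
    have hall : ∀ q ∈ π.ker, q * q ∈ (⊥ : Subgroup X) := fun q hq =>
      Subgroup.mem_bot.mpr ((hZ _ (hsq q hq)).resolve_right (hcon q hq))
    have := CfsgLib.RankFour.relIndex_le_of_sq_mem h.rank (X := π.ker) (N := ⊥)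
      (fun x _ n hn => by rw [Subgroup.mem_bot] at hn ⊢; rw [hn]; group) hall
    rw [Subgroup.relIndex_bot_left] at this
    omega
  · -- order sixty-four is impossible
    exfalso
    set r := p * p with hrd
    have hrP : r ∈ π.ker := mul_mem hp hp
    have hrf : ∃ z ∈ Z, r = f * z := ⟨_, hpf, by group⟩
    obtain ⟨zf, hzf, hrzf⟩ := hrf
    have hrZ : r ∉ Z := fun hh => hfZ (by
      have : f = r * zf⁻¹ := by rw [hrzf, mul_inv_cancel_right]
      rw [this]; exact mul_mem hh (inv_mem hzf))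
    have hsqr : ∀ q ∈ π.ker, q * q ∈ Z ∨ r⁻¹ * (q * q) ∈ Z := fun q hq => (hsq q hq).imp id fun e => by
      rw [hrzf, _root_.mul_inv_rev, mul_assoc]
      exact mul_mem (inv_mem hzf) e
    have hrr : r * r ∈ Z := by
      rw [hrzf, show f * zf * (f * zf) = f * (zf * f) * zf by group, ← hZc f zf hzf, ← mul_assoc]
      exact mul_mem (mul_mem hff hzf) hzf
    have hrc0 : ∀ q ∈ π.ker, q * r = r * q := by
      intro q hq
      refine mul_inv_eq_iff_eq_mul.mp ?_
      obtain ⟨c, hc', he⟩ : ∃ c ∈ Z, q * p * q⁻¹ = c * p := ⟨_, hcm q hq p hp, by group⟩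
      rw [hrd, show q * (p * p) * q⁻¹ = q * p * q⁻¹ * (q * p * q⁻¹) by group, he,
        (show Commute p c from hZc p c hc').mul_mul_mul_comm]
      rcases hZ c hc' with rfl | rfl <;> simp [hy2]
    let R : Subgroup X :=
      { carrier := {q | q ∈ Z ∨ r⁻¹ * q ∈ Z}
        one_mem' := Or.inl (one_mem _)
        mul_mem' := by
          rintro a b (ha | ha) (hb | hb)
          · exact Or.inl (mul_mem ha hb)
          · exact Or.inr (by rw [← mul_assoc, hZc r⁻¹ a ha, mul_assoc]; exact mul_mem ha hb)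
          · exact Or.inr (by rw [← mul_assoc]; exact mul_mem ha hb)
          · refine Or.inl ?_
            have : a * b = r * (r⁻¹ * a) * (r * (r⁻¹ * b)) := by group
            rw [this, show r * (r⁻¹ * a) * (r * (r⁻¹ * b)) = r * ((r⁻¹ * a) * r) * (r⁻¹ * b) by group,
              ← hZc r _ ha, ← mul_assoc r r]
            exact mul_mem (mul_mem hrr ha) hb
        inv_mem' := by
          rintro a (ha | ha)
          · exact Or.inl (inv_mem ha)
          · refine Or.inr ?_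
            rw [show r⁻¹ * a⁻¹ = r⁻¹ * (r⁻¹ * a)⁻¹ * r⁻¹ by group, hZc r⁻¹ _ (inv_mem ha), mul_assoc,
              ← _root_.mul_inv_rev r r]
            exact mul_mem (inv_mem ha) (inv_mem hrr) }
    have hrR : r ∈ R := Or.inr (by rw [inv_mul_cancel]; exact one_mem _)
    have hRle : R ≤ π.ker := by
      rintro q (hq | hq)
      · exact hZle hq
      · simpa using mul_mem hrP (hZle hq)
    have hrmove : ∀ x : X, r⁻¹ * (x * r * x⁻¹) ∈ Z := by
      intro x
      have e : x * r * x⁻¹ = x * p * x⁻¹ * (x * p * x⁻¹) := by rw [hrd]; group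
      rw [e]
      refine (hsqr _ ((MonoidHom.normal_ker π).conj_mem p hp x)).resolve_left fun hh => hrZ ?_
      rw [← e] at hh
      simpa [mul_assoc] using hZn.conj_mem _ hh x⁻¹
    letI : CommGroup Z := { (inferInstance : Group Z) with mul_comm := fun a b => Subtype.ext ((hZc a b b.2)) }
    let χ : X →* Z := MonoidHom.mk' (fun x => ⟨_, hrmove x⟩) fun a b => Subtype.ext (by
      show r⁻¹ * (a * b * r * (a * b)⁻¹) = r⁻¹ * (a * r * a⁻¹) * (r⁻¹ * (b * r * b⁻¹))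
      calc r⁻¹ * (a * b * r * (a * b)⁻¹) = r⁻¹ * a * r * ((r⁻¹ * (b * r * b⁻¹)) * a⁻¹) := by group
        _ = r⁻¹ * a * r * (a⁻¹ * (r⁻¹ * (b * r * b⁻¹))) := by rw [← hZc a⁻¹ _ (hrmove b)]
        _ = _ := by group)
    have hrc : ∀ g : X, g * r = r * g := by
      intro g
      have h1 : χ g = 1 := h.hom_trivial χ (fun q hq => MonoidHom.mem_ker.mpr (Subtype.ext (by
        show r⁻¹ * (q * r * q⁻¹) = 1
        rw [hrc0 q hq]; group))) g
      have : r⁻¹ * (g * r * g⁻¹) = 1 := congrArg Subtype.val h1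
      exact mul_inv_eq_iff_eq_mul.mp (inv_mul_eq_one.mp this).symm
    have hRc : ∀ g : X, ∀ q ∈ R, g * q = q * g := by
      rintro g q (hq | hq)
      · exact hZc g q hq
      · have : q = r * (r⁻¹ * q) := by group
        rw [this, ← mul_assoc, hrc g, mul_assoc, hZc g _ hq, ← mul_assoc, ← mul_assoc]
    haveI : R.Normal := ⟨fun q hq g => by rw [hRc g q hq, mul_inv_cancel_right]; exact hq⟩
    have hRmem : ∀ q, q ∈ R → q = 1 ∨ q = y ∨ q = r ∨ q = r * y := by
      rintro q (hq | hq) <;> rcases hZ _ hq with e | e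
      · exact Or.inl e
      · exact Or.inr (Or.inl e)
      · exact Or.inr (Or.inr (Or.inl (inv_mul_eq_one.mp e).symm))
      · exact Or.inr (Or.inr (Or.inr (by rw [← e]; group)))
    have hZR : Z ≤ R := fun z hz => Or.inl hz
    have hR4 : Nat.card R = 4 := by
      have h2 : Z.relIndex R = 2 := by
        refine Subgroup.index_eq_two_iff.mpr ⟨⟨r, hrR⟩, fun b => ?_⟩
        simp only [Subgroup.mem_subgroupOf, Subgroup.coe_mul]
        rw [hrc (b : X)]
        by_cases hb : (b : X) ∈ Z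
        · exact Or.inr ⟨hb, fun hh => hrZ (by simpa using mul_mem hh (inv_mem hb))⟩
        · refine Or.inl ⟨?_, hb⟩
          have hb' := b.2.resolve_left hb
          have : r * (b : X) = r * r * (r⁻¹ * b) := by group
          rw [this]
          exact mul_mem hrr hb'
      have h1 := Subgroup.relIndex_mul_relIndex ⊥ Z R bot_le hZR
      rw [Subgroup.relIndex_bot_left, Subgroup.relIndex_bot_left, hZ2, h2] at h1
      omega
    have h16 : R.relIndex π.ker = 16 := by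
      have h1 := Subgroup.relIndex_mul_relIndex ⊥ R π.ker bot_le hRle
      rw [Subgroup.relIndex_bot_left, Subgroup.relIndex_bot_left, hR4] at h1
      omega
    have hsqR : ∀ q ∈ π.ker, q * q ∈ R := hsqr
    have hcomm := h.comm_sixteen hF hRle hRc hsqR (fun a ha b hb => Or.inl (hcm a ha b hb)) h16
    have hsq2 : ∀ a ∈ π.ker, ∀ b ∈ π.ker, a * b * (a * b) = a * a * (b * b) := fun a ha b hb =>
      (show Commute b a from hcomm b hb a ha).mul_mul_mul_comm a b
    let sqh : π.ker →* R := MonoidHom.mk' (fun q => ⟨(q : X) * q, hsqR q q.2⟩)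
      fun a b => Subtype.ext (hsq2 a a.2 b b.2)
    let Ω : Subgroup X := sqh.ker.map π.ker.subtype
    have hΩ : ∀ q, q ∈ Ω ↔ q ∈ π.ker ∧ q * q = 1 := fun q =>
      ⟨by rintro ⟨a, ha, rfl⟩; exact ⟨a.2, congrArg Subtype.val ha⟩, fun hh => ⟨⟨q, hh.1⟩, Subtype.ext hh.2, rfl⟩⟩
    have hΩle : Ω ≤ π.ker := fun q hq => ((hΩ q).mp hq).1
    haveI : Ω.Normal := ⟨fun q hq g => (hΩ _).mpr ⟨(MonoidHom.normal_ker π).conj_mem q (hΩle hq) g, by
      rw [show g * q * g⁻¹ * (g * q * g⁻¹) = g * (q * q) * g⁻¹ by group, ((hΩ q).mp hq).2]; group⟩⟩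
    have hle := CfsgLib.RankFour.relIndex_le_of_sq_mem h.rank (X := Ω) (N := ⊥)
      (fun x _ n hn => by rw [Subgroup.mem_bot] at hn ⊢; rw [hn]; group)
      (fun q hq => Subgroup.mem_bot.mpr ((hΩ q).mp hq).2)
    rw [Subgroup.relIndex_bot_left] at hle
    have hkc : Nat.card sqh.ker = Nat.card Ω :=
      (Subgroup.card_map_of_injective π.ker.subtype_injective).symm
    have hmul := Subgroup.card_mul_index sqh.ker
    rw [Subgroup.index_ker, hkc] at hmul
    have hr4 : Nat.card sqh.range ≤ 4 := hR4 ▸ Subgroup.card_le_card_group _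
    have hP64 : Nat.card π.ker = 64 := by omega
    have hΩ16 : Nat.card Ω = 16 := by nlinarith
    have hrange : sqh.range = ⊤ := Subgroup.eq_top_of_card_eq _ (by rw [hR4]; nlinarith)
    obtain ⟨⟨x, hx⟩, hxr'⟩ := MonoidHom.range_eq_top.mp hrange ⟨r, hrR⟩
    have hxr : x * x = r := congrArg Subtype.val hxr'
    have hstep : ∀ {s q : X}, q ∈ π.ker → s * q * s⁻¹ * q⁻¹ ∈ Ω := fun {s q} hq =>
      (hΩ _).mpr ⟨mul_mem ((MonoidHom.normal_ker π).conj_mem q hq s) (inv_mem hq), by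
        rw [hsq2 _ ((MonoidHom.normal_ker π).conj_mem q hq s) _ (inv_mem hq),
          show s * q * s⁻¹ * (s * q * s⁻¹) = s * (q * q) * s⁻¹ by group, hRc s _ (hsqR q hq),
          mul_inv_cancel_right, ← _root_.mul_inv_rev, mul_inv_cancel]⟩
    -- no subgroup centralised modulo a central subgroup
    have hno : ∀ A : Subgroup X, A ≤ π.ker → (∀ g : X, ∀ a ∈ A, g * a = a * g) →
        (∀ q ∈ Ω, σ * q * σ⁻¹ * q⁻¹ ∈ A) → False := fun A hA hAc hΩA => by
      obtain ⟨q, hq, hne⟩ := hF.moves_mod h hσ7 hσ1 hΩle fun q hq => h.fix_step hσ7 hA (hAc σ) (hΩA q hq)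
      exact hne (hstep hq)
    rcases hZ _ hrr with hr1 | hr1
    · -- the image of squaring has exponent two
      have hRΩ : R ≤ Ω := fun q hq => (hΩ q).mpr ⟨hRle hq, by
        rcases hRmem q hq with rfl | rfl | rfl | rfl
        · exact mul_one 1
        · exact hy2
        · exact hr1
        · rw [(show Commute y r from (hyc r).symm).mul_mul_mul_comm, hr1, hy2, mul_one]⟩
      refine hno R hRle hRc fun q hq => ?_
      by_contra hne
      have hs : Sec π R Ω := ⟨hRΩ, inferInstance, inferInstance, hΩle, fun b hb => by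
        rw [((hΩ b).mp hb).2]; exact one_mem _, fun a ha b hb => Or.inl (hcm a ha b (hΩle hb))⟩
      have h1 := Subgroup.relIndex_mul_relIndex ⊥ R Ω bot_le hRΩ
      rw [Subgroup.relIndex_bot_left, Subgroup.relIndex_bot_left, hR4, hΩ16] at h1
      rcases h.section_cases hs ⟨σ, q, hq, hne⟩ with hl | ⟨hcard, -⟩
      · have := hl.card; omega
      · omega
    · -- the image of squaring is cyclic
      have hZΩ : Z ≤ Ω := fun q hq => (hΩ q).mpr ⟨hZle hq, by
        rcases hZ q hq with rfl | rfl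
        exacts [mul_one 1, hy2]⟩
      have h1 := Subgroup.relIndex_mul_relIndex ⊥ Z Ω bot_le hZΩ
      rw [Subgroup.relIndex_bot_left, Subgroup.relIndex_bot_left, hZ2, hΩ16] at h1
      have hl : Layer π Z Ω := by
        refine ⟨⟨hZΩ, hZn, inferInstance, hΩle, fun b hb => ?_, fun a ha b hb => hcm a ha b (hΩle hb)⟩, by omega, ?_⟩
        · rw [((hΩ b).mp hb).2]; exact one_mem _
        · by_contra hcon
          push Not at hcon
          exact hno Z hZle hZc fun q hq => hcon σ q hq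
      obtain ⟨C⟩ := h.exists_coord hl
      exact h.cyclic_eight_false hy1 hr1 hy2 hx hxr hP64 hcomm hrc (fun q hq => hRmem _ (hsqR q hq)) hΩ hΩ16 C

end CfsgLib.RankFour.LThree
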