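import Mathlib

/-!
Small matrix facts over the integers modulo two and four used for normal 2-subgroups with quotient the
linear group of dimension three over two elements.
-/

set_option autoImplicit false

namespace CfsgLib.RankFour.LThree

open Matrix

/-- Vectors over two elements. -/
abbrev V : Type := Fin 3 → ZMod 2
/-- Matrices over two elements. -/
abbrev M2 : Type := Matrix (Fin 3) (Fin 3) (ZMod 2)
/-- Vectors over the integers modulo four. -/
abbrev W : Type := Fin 3 → ZMod 4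
/-- Matrices over the integers modulo four. -/
abbrev M4 : Type := Matrix (Fin 3) (Fin 3) (ZMod 4)

def e1 : V := ![1, 0, 0]
def e2 : V := ![0, 1, 0]
def e3 : V := ![0, 0, 1]

/-- The matrix with the given columns. -/
def ofCols (a b c : V) : M2 := Matrix.of fun i j => ![a, b, c] j i

/-- The regular unipotent matrix. -/
def J : M2 := ofCols e1 (e1 + e2) (e2 + e3)
/-- An involution inverting the regular unipotent matrix. -/
def D : M2 := ofCols e1 (e1 + e2) e3
/-- The square of the regular unipotent matrix. -/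
def T1 : M2 := ofCols e1 e2 (e1 + e3)
/-- Exchange of the last two coordinates. -/
def G : M2 := ofCols e1 e3 e2
/-- The other transvection with the same centre. -/
def T2 : M2 := ofCols e1 (e1 + e2) e3

theorem ofCols_e1 : ∀ a b c : V, (ofCols a b c).mulVec e1 = a := by decide +kernel
theorem ofCols_e2 : ∀ a b c : V, (ofCols a b c).mulVec e2 = b := by decide +kernel
theorem ofCols_e3 : ∀ a b c : V, (ofCols a b c).mulVec e3 = c := by decide +kernel

theorem mat_eq_ofCols (g : M2) : g = ofCols (g.mulVec e1) (g.mulVec e2) (g.mulVec e3) := by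
  ext i j
  fin_cases j <;> simp [ofCols, e1, e2, e3, Matrix.mulVec, dotProduct, Fin.sum_univ_three]

theorem inv_of_det {g : M2} (h : g.det ≠ 0) : ∃ k : M2, g * k = 1 :=
  ⟨g⁻¹, Matrix.mul_nonsing_inv g (Ne.isUnit h)⟩

theorem exists_third : ∀ v w : V, v ≠ 0 → w ≠ 0 → v ≠ w → ∃ r : V, (ofCols v w r).det ≠ 0 := by
  decide +kernel

theorem det_of_indep' : ∀ a b c : V, (a ≠ 0 ∧ b ≠ 0 ∧ c ≠ 0 ∧ a ≠ b ∧ a ≠ c ∧ b ≠ c ∧ a + b + c ≠ 0) →
    (ofCols a b c).det ≠ 0 := by
  decide +kernel

theorem det_of_indep (a b c : V) (ha : a ≠ 0) (hb : b ≠ 0) (hc : c ≠ 0) (hab : a ≠ b) (hac : a ≠ c)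
    (hbc : b ≠ c) (hs : a + b + c ≠ 0) : (ofCols a b c).det ≠ 0 :=
  det_of_indep' a b c ⟨ha, hb, hc, hab, hac, hbc, hs⟩

theorem exists_other : ∀ d y : V, ∃ y' : V, y' ≠ 0 ∧ y' ≠ d ∧ y' ≠ y ∧ y' ≠ y + d := by decide +kernel

theorem exists_transvection : ∀ v w : V, ∃ f h : V, f ≠ 0 ∧ h ≠ 0 ∧
    dotProduct f v = 0 ∧ dotProduct f w = 0 ∧ dotProduct f h = 0 := by
  decide +kernel

theorem transvection_props {f h v : V} (hf : f ≠ 0) (hh : h ≠ 0) (hfh : dotProduct f h = 0)
    (hv : dotProduct f v = 0) :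
    (1 + vecMulVec h f) * (1 + vecMulVec h f) = (1 : M2) ∧ (1 + vecMulVec h f : M2) ≠ 1 ∧
      (1 + vecMulVec h f : M2).mulVec v = v := by
  refine ⟨?_, ?_, ?_⟩
  · have e : vecMulVec h f * vecMulVec h f = (0 : M2) := by
      rw [vecMulVec_mul_vecMulVec, hfh]; simp
    have e2 : ∀ a : ZMod 2, a + a = 0 := by decide
    rw [mul_add, add_mul, add_mul, e, one_mul, one_mul, mul_one]
    ext i j
    simp [add_assoc, e2]
  · intro e
    obtain ⟨i, hi⟩ := Function.ne_iff.mp hh
    obtain ⟨j, hj⟩ := Function.ne_iff.mp hf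
    have := congrFun (congrFun (add_eq_left.mp e) i) j
    rw [vecMulVec_apply] at this
    exact (mul_eq_zero.mp (this.trans (show (0 : M2) i j = 0 from rfl))).elim hi hj
  · rw [add_mulVec, one_mulVec, vecMulVec_mulVec, hv]; simp

/-- Each stabiliser element of the first basis vector is a product of two involutions fixing it. -/
theorem stab_two_involutions : ∀ b c : V, (ofCols e1 b c).det ≠ 0 → ∃ b' c' : V,
    ofCols e1 b' c' * ofCols e1 b' c' = 1 ∧
    (ofCols e1 b' c' * ofCols e1 b c) * (ofCols e1 b' c' * ofCols e1 b c) = 1 := by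
  decide +kernel

theorem J_pow_four : J * J * (J * J) = 1 := by decide +kernel
theorem J_sq : J * J = T1 := by decide +kernel
theorem T1_ne : T1 ≠ 1 := by decide +kernel
theorem T1_inv : T1 * T1 = 1 := by decide +kernel
theorem T2_inv : T2 * T2 = 1 := by decide +kernel
theorem G_inv : G * G = 1 := by decide +kernel
theorem D_inv : D * D = 1 := by decide +kernel
theorem T2_eq : G * T1 * G = T2 := by decide +kernel
theorem T12_ne : T1 * T2 ≠ 1 ∧ T2 ≠ 1 ∧ T1 ≠ T2 := by decide +kernel
theorem T12_inv : T1 * T2 * (T1 * T2) = 1 := by decide +kernel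
theorem T12_comm : T1 * T2 = T2 * T1 := by decide +kernel
theorem T12_conj : ∃ H : M2, H.det ≠ 0 ∧ H * T1 = T1 * T2 * H ∧ H.mulVec e1 = e1 :=
  ⟨ofCols e1 (e2 + e3) e3, by decide +kernel⟩
theorem G_e1 : G.mulVec e1 = e1 := by decide +kernel
theorem T1_e1 : T1.mulVec e1 = e1 := by decide +kernel
theorem T2_e1 : T2.mulVec e1 = e1 := by decide +kernel
theorem T1_e2 : T1.mulVec e2 = e2 := by decide +kernel
theorem J_e : J.mulVec e3 = e2 + e3 ∧ J.mulVec e2 = e1 + e2 ∧ J.mulVec e1 = e1 := by decide +kernel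
theorem J_fix : ∀ v : V, J.mulVec v = v → v = 0 ∨ v = e1 := by decide +kernel
theorem T12_fix : ∀ v : V, T1.mulVec v = v → T2.mulVec v = v → v = 0 ∨ v = e1 := by decide +kernel
theorem T2_diff : ∀ v : V, T2.mulVec v + v = 0 ∨ T2.mulVec v + v = e1 := by decide +kernel
theorem T12_move : (T1 * T2).mulVec (T2.mulVec e2) + T2.mulVec e2 = e1 := by decide +kernel
theorem J_norm : ∀ v : V, v + J.mulVec v + (J * J).mulVec v + (J * (J * J)).mulVec v = 0 ∨ v ≠ 0 := by
  decide +kernel
theorem D_conj : D * J * D = J * J * J := by decide +kernel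
theorem e1_ne : e1 ≠ 0 := by decide
theorem e2_ne : e2 ≠ 0 := by decide
theorem e12_ne : e1 ≠ e2 := by decide
theorem two_eq_zero (v : V) : v + v = 0 := by
  have e2 : ∀ a : ZMod 2, a + a = 0 := by decide
  ext i; exact e2 _

/-- The lifts of the regular unipotent matrix in an adapted basis. -/
def comp (a b c : ZMod 4) : M4 := !![1 + 2 * a, 1, 0; 2 * b, 1, 1; 2 * c, 0, 1]

/-- The lift of determinant one and order four. -/
def A0 : M4 := !![3, 1, 0; 2, 1, 1; 0, 0, 1]

theorem comp_eq : ∀ a b c : ZMod 4, comp a b c ^ 4 = 1 → (comp a b c).det = 1 → comp a b c = A0 := by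
  decide +kernel

theorem comp_pow_four_ne : ∀ a b c : ZMod 4, ¬ comp a b c ^ 4 = -1 := by decide +kernel

/-- Reduction modulo two. -/
def red (v : W) : V := fun i => (ZMod.cast (v i) : ZMod 2)

theorem comp_diff : ∀ a b c : ZMod 4, comp a b c ^ 4 = 1 → ∀ v : W, red ((comp a b c).mulVec v - v) = 0 →
    ∃ w : W, (comp a b c).mulVec v - v = 2 • ((comp a b c).mulVec w - w) := by
  decide +kernel

theorem A0_fix : ∀ v : W, A0.mulVec v = v → ∃ p : W, v + (p + (A0 * A0).mulVec p) = 0 := by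
  decide +kernel

theorem A0_sq_e1 : (A0 * A0).mulVec ![1, 0, 0] = -![1, 0, 0] := by decide +kernel
theorem A0_sq_e2 : ![0, 1, 0] + (A0 * A0).mulVec ![0, 1, 0] = (0 : W) := by decide +kernel
theorem red_basis : red ![1, 0, 0] = e1 ∧ red ![0, 1, 0] = e2 ∧ red ![0, 0, 1] = e3 := by decide +kernel
theorem red_zero_iff : ∀ v : W, red v = 0 ↔ ∃ w : W, v = 2 • w := by decide +kernel
theorem two_red : ∀ v w : W, red v = red w → 2 • v = 2 • w := by decide +kernel
theorem red_add : ∀ v w : W, red (v + w) = red v + red w := by decide +kernel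

end CfsgLib.RankFour.LThree
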