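import Cfsg.Agent.Lib.RankFour.LThree.Basic
import Cfsg.Agent.Lib.RankFour.LThree.Mat

/-!
Coordinates on a layer of order eight and the invariance arguments drawn from them.
-/

set_option autoImplicit false
set_option linter.style.haveILetI false
set_option linter.unusedSectionVars false

namespace CfsgLib.RankFour.LThree

open Matrix

universe u v

variable {X : Type u} [Group X] [Finite X] {L : Type v} [Group L] {π : X →* L}

/-- Coordinates on a layer. -/
structure Coord (π : X →* L) (A B : Subgroup X) where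
  layer : Layer π A B
  c : X → V
  M : X →* M2
  add : ∀ a ∈ B, ∀ b ∈ B, c (a * b) = c a + c b
  zero_iff : ∀ b ∈ B, c b = 0 ↔ b ∈ A
  surj : ∀ w : V, ∃ b ∈ B, c b = w
  conj : ∀ x : X, ∀ b ∈ B, c (x * b * x⁻¹) = (M x).mulVec (c b)
  ker : ∀ x : X, M x = 1 ↔ π x = 1
  real : ∀ g : M2, g.det ≠ 0 → ∃ x, M x = g

theorem Base.exists_coord (h : Base π) {A B : Subgroup X} (hl : Layer π A B) : Nonempty (Coord π A B) := by
  classical
  obtain ⟨m⟩ := hl.sec.exists_model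
  letI := m.grp
  haveI := m.fin
  have h2' : ∀ a : Additive m.Q, 2 • a = 0 := fun a => by rw [two_nsmul]; exact m.two a.toMul
  letI : Module (ZMod 2) (Additive m.Q) := AddCommGroup.zmodModule h2'
  haveI : Finite (Additive m.Q) := m.fin
  have hfr : Module.finrank (ZMod 2) (Additive m.Q) = 3 := by
    have hc := Module.natCard_eq_pow_finrank (K := ZMod 2) (V := Additive m.Q)
    rw [Nat.card_zmod, show Nat.card (Additive m.Q) = 8 from m.card.trans hl.card] at hc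
    exact (Nat.pow_right_injective le_rfl (show 2 ^ 3 = 2 ^ Module.finrank (ZMod 2) (Additive m.Q) by rw [← hc])).symm
  let e : Additive m.Q ≃ₗ[ZMod 2] V := (Module.finBasisOfFinrankEq (ZMod 2) (Additive m.Q) hfr).equivFun
  let lin : X →* Module.End (ZMod 2) V :=
    { toFun := fun x => e.toLinearMap ∘ₗ
        ((MonoidHom.toAdditive (m.α x).toMonoidHom).toZModLinearMap 2) ∘ₗ e.symm.toLinearMap
      map_one' := by
        refine LinearMap.ext fun v => ?_
        simp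
      map_mul' := fun a b => by
        refine LinearMap.ext fun v => ?_
        simp [MulAut.mul_apply] }
  have hlin : ∀ (x : X) (w : m.Q), lin x (e (Additive.ofMul w)) = e (Additive.ofMul (m.α x w)) := by
    intro x w
    show e _ = _
    simp
  let M : X →* M2 :=
    (LinearMap.toMatrixAlgEquiv' (R := ZMod 2) (n := Fin 3)).toAlgHom.toRingHom.toMonoidHom.comp lin
  have hM : ∀ (x : X) (v : V), (M x).mulVec v = lin x v := by
    intro x v
    show (LinearMap.toMatrixAlgEquiv' (lin x)).mulVec v = lin x v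
    rw [← Matrix.toLinAlgEquiv'_apply, Matrix.toLinAlgEquiv'_toMatrixAlgEquiv']
  have hker : ∀ x : X, M x = 1 ↔ π x = 1 := by
    intro x
    constructor
    · intro hx
      by_contra hne
      refine m.alpha_ne h hl.sec hl.nontriv hne (MulEquiv.ext fun w => ?_)
      have h1 := hM x (e (Additive.ofMul w))
      rw [hx, Matrix.one_mulVec, hlin] at h1
      exact (Additive.ofMul.injective (e.injective h1)).symm
    · intro hx
      refine (LinearMap.toMatrixAlgEquiv' (R := ZMod 2) (n := Fin 3)).map_eq_one_iff.mpr ?_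
      refine LinearMap.ext fun v => ?_
      obtain ⟨a, rfl⟩ := e.surjective v
      show lin x (e (Additive.ofMul a.toMul)) = _
      rw [hlin, MonoidHom.mem_ker.mp (m.ker (MonoidHom.mem_ker.mpr hx))]
      rfl
  refine ⟨⟨hl, fun b => e (Additive.ofMul (m.f b)), M, ?_, ?_, ?_, ?_, hker, ?_⟩⟩
  · intro a ha b hb
    rw [m.mul a ha b hb, ofMul_mul, map_add]
  · intro b hb
    rw [e.map_eq_zero_iff, ofMul_eq_zero]
    exact m.one_iff b hb
  · intro w
    obtain ⟨a, rfl⟩ := e.surjective w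
    obtain ⟨b, hb, hbw⟩ := m.surj a.toMul
    exact ⟨b, hb, by rw [hbw, ofMul_toMul]⟩
  · intro x b hb
    rw [hM, hlin, m.conj x b hb]
  · intro g hg
    haveI := h.finite
    let Mu : X →* M2ˣ := M.toHomUnits
    have hk : Mu.ker = π.ker := by
      ext x
      rw [MonoidHom.mem_ker, MonoidHom.mem_ker, ← hker, Units.ext_iff]
      rfl
    have hr : Nat.card Mu.range = 168 := by
      rw [← Nat.card_congr (QuotientGroup.quotientKerEquivRange Mu).toEquiv, ← Subgroup.index_eq_card, hk,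
        Subgroup.index_ker, MonoidHom.range_eq_top.mpr h.surj, Subgroup.card_top, h.card]
    have hGL : Nat.card M2ˣ = 168 := by
      rw [show Nat.card M2ˣ = Nat.card (GL (Fin 3) (ZMod 2)) from rfl, Matrix.card_GL_field]
      simp [Fin.prod_univ_three]
    have htop := Mu.range.eq_top_of_card_eq (hr.trans hGL.symm)
    obtain ⟨k, hk'⟩ := inv_of_det hg
    obtain ⟨x, hx⟩ := (htop.symm ▸ Subgroup.mem_top (⟨g, k, hk', mul_eq_one_comm.mp hk'⟩ : M2ˣ) :
      (⟨g, k, hk', mul_eq_one_comm.mp hk'⟩ : M2ˣ) ∈ Mu.range)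
    exact ⟨x, congrArg Units.val hx⟩

namespace Coord

variable {A B : Subgroup X}

theorem le (C : Coord π A B) : A ≤ B := C.layer.sec.le

theorem c_one (C : Coord π A B) : C.c 1 = 0 := (C.zero_iff 1 (one_mem _)).mpr (one_mem _)

theorem c_inv (C : Coord π A B) {a : X} (ha : a ∈ B) : C.c a⁻¹ = C.c a := by
  have e := C.add a⁻¹ (inv_mem ha) a ha
  rw [inv_mul_cancel, C.c_one] at e
  exact (eq_neg_of_add_eq_zero_left e.symm).trans (neg_eq_of_add_eq_zero_left (two_eq_zero _))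

theorem c_eq_iff (C : Coord π A B) {a b : X} (ha : a ∈ B) (hb : b ∈ B) : C.c a = C.c b ↔ a⁻¹ * b ∈ A := by
  rw [← C.zero_iff _ (mul_mem (inv_mem ha) hb), C.add _ (inv_mem ha) _ hb, C.c_inv ha]
  constructor
  · intro e; rw [e]; exact two_eq_zero _
  · intro e; rw [← add_zero (C.c a), ← two_eq_zero (C.c b), ← add_assoc, e, zero_add]

theorem c_mul_right (C : Coord π A B) {b a : X} (hb : b ∈ B) (ha : a ∈ A) : C.c (b * a) = C.c b := by
  rw [C.add b hb a (C.le ha), (C.zero_iff a (C.le ha)).mpr ha, add_zero]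

theorem det_ne (C : Coord π A B) (x : X) : (C.M x).det ≠ 0 :=
  Matrix.det_ne_zero_of_right_inverse (B := C.M x⁻¹) (by rw [← map_mul, mul_inv_cancel, map_one])

theorem M_of_mem (C : Coord π A B) {p : X} (hp : p ∈ π.ker) : C.M p = 1 :=
  (C.ker p).mpr (MonoidHom.mem_ker.mp hp)

/-- Pairs of distinct non-zero vectors form one orbit. -/
theorem exists_pair (C : Coord π A B) {v w v' w' : V} (h1 : v ≠ 0) (h2 : w ≠ 0) (h3 : v ≠ w) (h1' : v' ≠ 0)
    (h2' : w' ≠ 0) (h3' : v' ≠ w') : ∃ x : X, (C.M x).mulVec v = v' ∧ (C.M x).mulVec w = w' := by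
  obtain ⟨r, hr⟩ := exists_third v w h1 h2 h3
  obtain ⟨r', hr'⟩ := exists_third v' w' h1' h2' h3'
  obtain ⟨x, hx⟩ := C.real _ hr
  obtain ⟨x', hx'⟩ := C.real _ hr'
  have key : ∀ a : V, (C.M (x' * x⁻¹)).mulVec ((C.M x).mulVec a) = (C.M x').mulVec a := fun a => by
    rw [Matrix.mulVec_mulVec, ← map_mul, inv_mul_cancel_right]
  refine ⟨x' * x⁻¹, ?_, ?_⟩
  · have := key e1
    rwa [hx, hx', ofCols_e1, ofCols_e1] at this
  · have := key e2
    rwa [hx, hx', ofCols_e2, ofCols_e2] at this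

/-- Non-zero vectors form one orbit. -/
theorem exists_one (C : Coord π A B) {v v' : V} (h1 : v ≠ 0) (h1' : v' ≠ 0) :
    ∃ x : X, (C.M x).mulVec v = v' := by
  obtain ⟨w, hw0, hwv, -, -⟩ := exists_other v 0
  obtain ⟨w', hw0', hwv', -, -⟩ := exists_other v' 0
  obtain ⟨x, hx, -⟩ := C.exists_pair h1 hw0 (Ne.symm hwv) h1' hw0' (Ne.symm hwv')
  exact ⟨x, hx⟩

/-- Only the zero vector and the vector itself are fixed by the stabiliser of a non-zero vector. -/
theorem eq_of_stab_fixed (C : Coord π A B) {v w : V} (hv : v ≠ 0)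
    (hw : ∀ x : X, (C.M x).mulVec v = v → (C.M x).mulVec w = w) : w = 0 ∨ w = v := by
  by_contra hcon
  push Not at hcon
  obtain ⟨w', h0, h1, h2, -⟩ := exists_other v w
  obtain ⟨x, hx, hxw⟩ := C.exists_pair hv hcon.1 (Ne.symm hcon.2) hv h0 (Ne.symm h1)
  exact h2 (hxw ▸ hw x hx)

/-- An invariant homomorphism from a layer is trivial. -/
theorem zero_of_invariant (C : Coord π A B) {K : Type*} [Group K] (χ : X → K)
    (hmul : ∀ a ∈ B, ∀ b ∈ B, χ (a * b) = χ a * χ b) (hA : ∀ a ∈ A, χ a = 1)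
    (hinv : ∀ x : X, ∀ b ∈ B, χ (x * b * x⁻¹) = χ b) : ∀ b ∈ B, χ b = 1 := by
  have hwd : ∀ a ∈ B, ∀ b ∈ B, C.c a = C.c b → χ a = χ b := by
    intro a ha b hb hab
    have hm := (C.c_eq_iff ha hb).mp hab
    rw [show b = a * (a⁻¹ * b) by group, hmul a ha _ (C.le hm), hA _ hm, mul_one]
  have hall : ∀ a ∈ B, ∀ b ∈ B, C.c a ≠ 0 → C.c b ≠ 0 → χ a = χ b := by
    intro a ha b hb h1 h2
    obtain ⟨x, hx⟩ := C.exists_one h1 h2
    rw [← hinv x a ha]
    exact hwd _ (C.layer.sec.normB.conj_mem a ha x) b hb (by rw [C.conj x a ha, hx])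
  intro b hb
  by_cases hb0 : C.c b = 0
  · exact hA b ((C.zero_iff b hb).mp hb0)
  obtain ⟨w, hw0, hwb, -, -⟩ := exists_other (C.c b) 0
  obtain ⟨a, ha, rfl⟩ := C.surj w
  have hab : C.c (b * a) ≠ 0 := by
    rw [C.add b hb a ha]
    intro e
    exact hwb ((eq_neg_of_add_eq_zero_right e).trans (neg_eq_of_add_eq_zero_left (two_eq_zero _)))
  have h1 := hall b hb (b * a) (mul_mem hb ha) hb0 hab
  rw [hmul b hb a ha, hall a ha b hb hw0 hb0] at h1
  exact left_eq_mul.mp h1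

/-- Central commutators on a layer are trivial. -/
theorem commute_of_central (C : Coord π A B)
    (hcen : ∀ a ∈ B, ∀ b ∈ B, ∀ g : X, g * (a * b * a⁻¹ * b⁻¹) = a * b * a⁻¹ * b⁻¹ * g)
    (hA : ∀ a ∈ A, ∀ b ∈ B, a * b = b * a) : ∀ a ∈ B, ∀ b ∈ B, a * b = b * a := by
  set β : X → X → X := fun a b => a * b * a⁻¹ * b⁻¹ with hβ
  have hright : ∀ a ∈ B, ∀ b ∈ B, ∀ b' ∈ B, β a (b * b') = β a b * β a b' := by
    intro a ha b hb b' hb'
    simp only [hβ]
    rw [show a * (b * b') * a⁻¹ * (b * b')⁻¹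
      = a * b * a⁻¹ * (a * b' * a⁻¹ * b'⁻¹) * b⁻¹ by group,
      show a * b * a⁻¹ * (a * b' * a⁻¹ * b'⁻¹) * b⁻¹ = a * b * a⁻¹ * ((a * b' * a⁻¹ * b'⁻¹) * b⁻¹) by group,
      ← hcen a ha b' hb' b⁻¹]
    group
  have hwd : ∀ a ∈ B, ∀ b ∈ B, ∀ a' ∈ B, ∀ b' ∈ B, C.c a = C.c a' → C.c b = C.c b' → β a b = β a' b' := by
    intro a ha b hb a' ha' b' hb' e1 e2
    have m1 := (C.c_eq_iff ha ha').mp e1
    have m2 := (C.c_eq_iff hb hb').mp e2
    obtain ⟨s, hs, rfl⟩ : ∃ s ∈ A, a' = a * s := ⟨_, m1, by group⟩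
    obtain ⟨t, ht, rfl⟩ : ∃ t ∈ A, b' = b * t := ⟨_, m2, by group⟩
    rw [hright (a * s) ha' b hb t (C.le ht)]
    simp only [hβ]
    have e3 : a * s * t * (a * s)⁻¹ * t⁻¹ = 1 := by
      rw [mul_assoc (a * s) t, show t * (a * s)⁻¹ = (a * s)⁻¹ * t from hA t ht _ (inv_mem ha')]
      group
    rw [e3, mul_one, mul_assoc (a * s) b, show a * s * (b * (a * s)⁻¹) = a * ((s * b) * s⁻¹) * a⁻¹ by group,
      hA s hs b hb]
    group
  have hstep : ∀ a ∈ B, ∀ b ∈ B, C.c a ≠ 0 → C.c b ≠ 0 → C.c a ≠ C.c b → β a b = 1 := by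
    intro a ha b hb h1 h2 h3
    obtain ⟨w, hw0, hwa, hwb, hwab⟩ := exists_other (C.c a) (C.c b)
    obtain ⟨b', hb', rfl⟩ := C.surj w
    have hbb : C.c (b * b') ≠ 0 ∧ C.c a ≠ C.c (b * b') := by
      rw [C.add b hb b' hb']
      constructor
      · intro e
        exact hwb ((eq_neg_of_add_eq_zero_right e).trans (neg_eq_of_add_eq_zero_left (two_eq_zero _)))
      · intro e
        apply hwab
        rw [e, ← add_assoc, two_eq_zero, zero_add]
    have hconst : ∀ d ∈ B, C.c d ≠ 0 → C.c a ≠ C.c d → β a d = β a b := by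
      intro d hd d1 d2
      obtain ⟨x, hxa, hxd⟩ := C.exists_pair h1 d1 d2 h1 h2 h3
      have hn := C.layer.sec.normB
      have e1 : β (x * a * x⁻¹) (x * d * x⁻¹) = β a d := by
        simp only [hβ]
        rw [show x * a * x⁻¹ * (x * d * x⁻¹) * (x * a * x⁻¹)⁻¹ * (x * d * x⁻¹)⁻¹
          = x * (a * d * a⁻¹ * d⁻¹) * x⁻¹ by group, hcen a ha d hd x]
        group
      rw [← e1]
      exact hwd _ (hn.conj_mem a ha x) _ (hn.conj_mem d hd x) a ha b hb (by rw [C.conj x a ha, hxa])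
        (by rw [C.conj x d hd, hxd])
    have e := hright a ha b hb b' hb'
    rw [hconst (b * b') (mul_mem hb hb') hbb.1 hbb.2, hconst b' hb' hw0 (Ne.symm hwa)] at e
    exact left_eq_mul.mp e
  intro a ha b hb
  by_cases h1 : C.c a = 0
  · exact hA a ((C.zero_iff a ha).mp h1) b hb
  by_cases h2 : C.c b = 0
  · exact (hA b ((C.zero_iff b hb).mp h2) a ha).symm
  by_cases h3 : C.c a = C.c b
  · obtain ⟨s, hs, rfl⟩ : ∃ s ∈ A, b = a * s := ⟨_, (C.c_eq_iff ha hb).mp h3, by group⟩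
    rw [mul_assoc a s a, hA s hs a ha]
  · exact mul_inv_eq_iff_eq_mul.mp (mul_inv_eq_one.mp (hstep a ha b hb h1 h2 h3))

/-- An element whose commutators with a commutative layer are central commutes with it. -/
theorem commute_extra (C : Coord π A B) (hB : ∀ a ∈ B, ∀ b ∈ B, a * b = b * a) {p : X}
    (hpn : ∀ b ∈ B, p * b * p⁻¹ * b⁻¹ ∈ B) (hpA : ∀ a ∈ A, p * a = a * p)
    (hcos : ∀ g : X, ∃ n ∈ B, g * p * g⁻¹ = p * n)
    (hcen : ∀ b ∈ B, ∀ g : X, g * (p * b * p⁻¹ * b⁻¹) = p * b * p⁻¹ * b⁻¹ * g) :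
    ∀ b ∈ B, p * b = b * p := by
  have h := C.zero_of_invariant (fun b => p * b * p⁻¹ * b⁻¹)
    (fun a ha b hb => by
      show p * (a * b) * p⁻¹ * (a * b)⁻¹ = (p * a * p⁻¹ * a⁻¹) * (p * b * p⁻¹ * b⁻¹)
      rw [show p * (a * b) * p⁻¹ * (a * b)⁻¹ = p * a * p⁻¹ * ((p * b * p⁻¹ * b⁻¹) * a⁻¹) by group,
        ← hcen b hb a⁻¹]
      group)
    (fun a ha => by show p * a * p⁻¹ * a⁻¹ = 1; rw [hpA a ha]; group)
    (fun x b hb => by
      show p * (x * b * x⁻¹) * p⁻¹ * (x * b * x⁻¹)⁻¹ = p * b * p⁻¹ * b⁻¹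
      obtain ⟨n, hn, hne⟩ := hcos x⁻¹
      have e1 : p * (x * b * x⁻¹) * p⁻¹ * (x * b * x⁻¹)⁻¹
          = x * ((x⁻¹ * p * x⁻¹⁻¹) * b * (x⁻¹ * p * x⁻¹⁻¹)⁻¹ * b⁻¹) * x⁻¹ := by group
      have e2 : p * n * b * (p * n)⁻¹ * b⁻¹ = p * (n * b * n⁻¹) * p⁻¹ * b⁻¹ := by group
      rw [e1, hne, e2, hB n hn b hb, mul_inv_cancel_right, hcen b hb x, mul_inv_cancel_right])
  intro b hb
  exact mul_inv_eq_iff_eq_mul.mp (mul_inv_eq_one.mp (h b hb))

end Coord

end CfsgLib.RankFour.LThree
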