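import Cfsg.Agent.Lib.RankFour.LThree.Step

/-!
Coordinates modulo four on a commutative group squaring onto a layer, and the homocyclic case.
-/

set_option autoImplicit false
set_option linter.style.haveILetI false
set_option linter.unusedSectionVars false

namespace CfsgLib.RankFour.LThree

open Matrix

universe u v

variable {X : Type u} [Group X] [Finite X] {L : Type v} [Group L] {π : X →* L}

/-- In a section of order two two outside elements differ by an element inside. -/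
theorem mem_of_relIndex_two {A B : Subgroup X} (h2 : A.relIndex B = 2) {a b : X} (ha : a ∈ B) (hb : b ∈ B)
    (haA : a ∉ A) (hbA : b ∉ A) : a⁻¹ * b ∈ A := by
  have := Subgroup.mul_mem_iff_of_index_two (H := A.subgroupOf B) h2 (a := ⟨a⁻¹, inv_mem ha⟩) (b := ⟨b, hb⟩)
  simp only [Subgroup.mem_subgroupOf] at this
  exact this.mpr ⟨fun hh => absurd (inv_mem_iff.mp hh) haA, fun hh => absurd hh hbA⟩

theorem exists_outside {A B : Subgroup X} (h2 : A.relIndex B ≠ 1) : ∃ b ∈ B, b ∉ A := by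
  by_contra hcon
  push Not at hcon
  exact h2 (Subgroup.relIndex_eq_one.mpr hcon)

theorem Coord.M_eq {A B : Subgroup X} (C : Coord π A B) {x y : X} (e : π x = π y) : C.M x = C.M y := by
  have h1 : C.M (x⁻¹ * y) = 1 := (C.ker _).mpr (by rw [map_mul, map_inv, e, inv_mul_cancel])
  rw [← mul_one (C.M x), ← h1, ← map_mul, mul_inv_cancel_left]

theorem Coord.M_inv {A B : Subgroup X} (C : Coord π A B) {x : X} {g : M2} (hx : C.M x = g) (hg : g * g = 1) :
    C.M x⁻¹ = g := by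
  calc C.M x⁻¹ = C.M x⁻¹ * (C.M x * g) := by rw [hx, hg, mul_one]
    _ = g := by rw [← mul_assoc, ← map_mul, inv_mul_cancel, map_one, one_mul]

theorem red_lift : ∀ w : V, ∃ v : W, red v = w := by decide +kernel
theorem red_sum : ∀ v : W, red v = ((v 0).val : ZMod 2) • e1 + ((v 1).val : ZMod 2) • e2
    + ((v 2).val : ZMod 2) • e3 := by decide +kernel
theorem e_val : ((1 : ZMod 4).val = 1) ∧ ((0 : ZMod 4).val = 0) := by decide
theorem red_small : ∀ v : W, (red v = 0 ∨ red v = e1) →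
    (v + v = 0 ∨ v + v = ![2, 0, 0]) ∧ ((A0 * A0).mulVec v - v = 0 ∨ (A0 * A0).mulVec v - v = ![2, 0, 0]) := by
  decide +kernel
theorem red_two : ∀ v : W, v + v = 0 → red v = 0 := by decide +kernel
theorem red_half : ∀ v : W, red v = 0 → ∃ w : W, v = w + w := by decide +kernel
theorem red_one_double : ∀ v : W, red v = e1 → v + v = ![2, 0, 0] := by decide +kernel

/-- Coordinates modulo four. -/
structure Lift {Y B : Subgroup X} (C : Coord π Y B) (u : X) where
  ψ : W → X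
  mem : ∀ v, ψ v ∈ B
  surj : ∀ b ∈ B, ∃ v, ψ v = b
  inj : Function.Injective ψ
  add : ∀ v w, ψ (v + w) = ψ v * ψ w
  c : ∀ v, C.c (ψ v) = red v
  Mat : X →* M4
  conj : ∀ x v, x * ψ v * x⁻¹ = ψ ((Mat x).mulVec v)
  shape : ∃ a b c : ZMod 4, Mat u = comp a b c

theorem Coord.exists_lift {Y B : Subgroup X} (C : Coord π Y B) (hc : ∀ a ∈ B, ∀ b ∈ B, a * b = b * a)
    (hY : Nat.card Y = 8) (hexp : ∀ y ∈ Y, y * y = 1) (hsq : ∀ b ∈ B, b * b ∈ Y)
    (hsurj : ∀ y ∈ Y, ∃ b ∈ B, b * b = y) {u : X} (hu : C.M u = J) : Nonempty (Lift C u) := by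
  classical
  have hBN := C.layer.sec.normB
  obtain ⟨x3, hx3, hc3⟩ := C.surj e3
  set x2 := u * x3 * u⁻¹ * x3⁻¹ with hx2d
  have hx2 : x2 ∈ B := mul_mem (hBN.conj_mem x3 hx3 u) (inv_mem hx3)
  set x1 := u * x2 * u⁻¹ * x2⁻¹ with hx1d
  have hx1 : x1 ∈ B := mul_mem (hBN.conj_mem x2 hx2 u) (inv_mem hx2)
  have hc2 : C.c x2 = e2 := by
    rw [hx2d, C.add _ (hBN.conj_mem x3 hx3 u) _ (inv_mem hx3), C.c_inv hx3, C.conj u x3 hx3, hu, hc3, J_e.1,
      add_assoc, two_eq_zero, add_zero]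
  have hc1 : C.c x1 = e1 := by
    rw [hx1d, C.add _ (hBN.conj_mem x2 hx2 u) _ (inv_mem hx2), C.c_inv hx2, C.conj u x2 hx2, hu, hc2, J_e.2.1,
      add_assoc, two_eq_zero, add_zero]
  have h4 : ∀ b ∈ B, b ^ 4 = 1 := fun b hb => by
    rw [show (4 : ℕ) = 2 * 2 from rfl, pow_mul, sq, sq, hexp _ (hsq b hb)]
  have hpow : ∀ b ∈ B, ∀ a a' : ZMod 4, b ^ (a + a').val = b ^ a.val * b ^ a'.val := fun b hb a a' => by
    rw [ZMod.val_add, ← pow_add, ← pow_mod_orderOf, ← pow_mod_orderOf b (a.val + a'.val),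
      Nat.mod_mod_of_dvd _ (orderOf_dvd_of_pow_eq_one (h4 b hb))]
  let ψ : W → X := fun v => x1 ^ (v 0).val * x2 ^ (v 1).val * x3 ^ (v 2).val
  have hψB : ∀ v, ψ v ∈ B := fun v =>
    mul_mem (mul_mem (pow_mem hx1 _) (pow_mem hx2 _)) (pow_mem hx3 _)
  have hψadd : ∀ v w, ψ (v + w) = ψ v * ψ w := by
    intro v w
    have hcm : ∀ a ∈ B, ∀ b ∈ B, Commute a b := fun a ha b hb => hc a ha b hb
    simp only [ψ, Pi.add_apply, hpow x1 hx1, hpow x2 hx2, hpow x3 hx3]
    set a := x1 ^ (v 0).val with ha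
    set a' := x1 ^ (w 0).val
    set b := x2 ^ (v 1).val
    set b' := x2 ^ (w 1).val
    set d := x3 ^ (v 2).val
    set d' := x3 ^ (w 2).val
    have e1' : Commute a' b := hcm _ (pow_mem hx1 _) _ (pow_mem hx2 _)
    have e2' : Commute (a' * b') d := hcm _ (mul_mem (pow_mem hx1 _) (pow_mem hx2 _)) _ (pow_mem hx3 _)
    rw [e1'.mul_mul_mul_comm, e2'.mul_mul_mul_comm]
  have hcpow : ∀ b ∈ B, ∀ n : ℕ, C.c (b ^ n) = (n : ZMod 2) • C.c b := by
    intro b hb n
    induction n with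
    | zero => simp [C.c_one]
    | succ n ih => rw [pow_succ, C.add _ (pow_mem hb n) b hb, ih, Nat.cast_succ, add_smul, one_smul]
  have hψc : ∀ v, C.c (ψ v) = red v := fun v => by
    rw [red_sum v]
    show C.c (_ * _ * _) = _
    rw [C.add _ (mul_mem (pow_mem hx1 _) (pow_mem hx2 _)) _ (pow_mem hx3 _),
      C.add _ (pow_mem hx1 _) _ (pow_mem hx2 _), hcpow _ hx1, hcpow _ hx2, hcpow _ hx3, hc1, hc2, hc3]
  have happrox : ∀ b ∈ B, ∃ v, ∃ y ∈ Y, b = ψ v * y := fun b hb => by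
    obtain ⟨v, hv⟩ := red_lift (C.c b)
    exact ⟨v, _, (C.c_eq_iff (hψB v) hb).mp (by rw [hψc, hv]), (mul_inv_cancel_left _ _).symm⟩
  have hψsurj : ∀ b ∈ B, ∃ v, ψ v = b := by
    intro b hb
    obtain ⟨v, y, hy, rfl⟩ := happrox b hb
    obtain ⟨b', hb', rfl⟩ := hsurj y hy
    obtain ⟨v', y', hy', rfl⟩ := happrox b' hb'
    refine ⟨v + (v' + v'), ?_⟩
    rw [hψadd, hψadd, show ψ v' * y' * (ψ v' * y') = ψ v' * (y' * ψ v') * y' by group,
      hc y' (C.le hy') _ (hψB v'), show ψ v' * (ψ v' * y') * y' = ψ v' * ψ v' * (y' * y') by group, hexp y' hy',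
      mul_one]
  have hBcard : Nat.card B = 64 := by
    have h1 := Subgroup.relIndex_mul_relIndex ⊥ Y B bot_le C.le
    rw [Subgroup.relIndex_bot_left, Subgroup.relIndex_bot_left, C.layer.card, hY] at h1
    omega
  have hψinj : Function.Injective ψ := by
    have hs : Function.Surjective (fun v => (⟨ψ v, hψB v⟩ : B)) := fun b => by
      obtain ⟨v, hv⟩ := hψsurj b b.2
      exact ⟨v, Subtype.ext hv⟩
    have hb := hs.bijective_of_nat_card_le (by rw [hBcard, Nat.card_eq_fintype_card]; rfl)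
    exact fun v w e => hb.1 (Subtype.ext e)
  have hψex : ∀ x : X, ∀ v, ∃ w, ψ w = x * ψ v * x⁻¹ := fun x v => hψsurj _ (hBN.conj_mem _ (hψB v) x)
  choose act hact using hψex
  let lin : X →* Module.End (ZMod 4) W :=
    { toFun := fun x => (AddMonoidHom.mk' (act x) fun v w => hψinj (by
        rw [hact, hψadd, hψadd, hact, hact]; group)).toZModLinearMap 4
      map_one' := LinearMap.ext fun v => hψinj (by
        show ψ (act 1 v) = ψ v
        rw [hact]; group)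
      map_mul' := fun a b => LinearMap.ext fun v => hψinj (by
        show ψ (act (a * b) v) = ψ (act a (act b v))
        rw [hact, hact, hact]; group) }
  let Mat : X →* M4 :=
    (LinearMap.toMatrixAlgEquiv' (R := ZMod 4) (n := Fin 3)).toAlgHom.toRingHom.toMonoidHom.comp lin
  have hMat : ∀ x v, (Mat x).mulVec v = act x v := by
    intro x v
    show (LinearMap.toMatrixAlgEquiv' (lin x)).mulVec v = _
    rw [← Matrix.toLinAlgEquiv'_apply, Matrix.toLinAlgEquiv'_toMatrixAlgEquiv']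
    rfl
  have hconj : ∀ x v, x * ψ v * x⁻¹ = ψ ((Mat x).mulVec v) := fun x v => by rw [hMat, hact]
  have hψe : ψ ![1, 0, 0] = x1 ∧ ψ ![0, 1, 0] = x2 ∧ ψ ![0, 0, 1] = x3 ∧ ψ ![1, 1, 0] = x1 * x2 ∧
      ψ ![0, 1, 1] = x2 * x3 := by
    simp [ψ, e_val.1, e_val.2]
  refine ⟨⟨ψ, hψB, hψsurj, hψinj, hψadd, hψc, Mat, hconj, ?_⟩⟩
  have k3 : (Mat u).mulVec ![0, 0, 1] = ![0, 1, 1] := hψinj (by
    rw [← hconj, hψe.2.2.1, hψe.2.2.2.2, hx2d]; group)
  have k2 : (Mat u).mulVec ![0, 1, 0] = ![1, 1, 0] := hψinj (by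
    rw [← hconj, hψe.2.1, hψe.2.2.2.1, hx1d]; group)
  obtain ⟨w, hw⟩ := red_half ((Mat u).mulVec ![1, 0, 0] + -![1, 0, 0]) (by
    have e := congrArg C.c (hconj u ![1, 0, 0])
    rw [hψc, C.conj u _ (hψB _), hψc, hu, red_basis.1, J_e.2.2] at e
    rw [red_add, ← e]
    decide +kernel)
  have k1 : (Mat u).mulVec ![1, 0, 0] = w + w + ![1, 0, 0] := by rw [← hw]; abel
  refine ⟨w 0, w 1, w 2, ?_⟩
  have hcol : ∀ (M : M4) (i : Fin 3), M i 0 = M.mulVec ![1, 0, 0] i ∧ M i 1 = M.mulVec ![0, 1, 0] i ∧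
      M i 2 = M.mulVec ![0, 0, 1] i := fun M i => by
    simp [Matrix.mulVec, dotProduct, Fin.sum_univ_three]
  ext i j
  obtain ⟨g1, g2, g3⟩ := hcol (Mat u) i
  fin_cases j
  · show Mat u i 0 = _
    rw [g1, k1]
    fin_cases i <;> simp [comp, two_mul] <;> ring
  · show Mat u i 1 = _
    rw [g2, k2]
    fin_cases i <;> simp [comp]
  · show Mat u i 2 = _
    rw [g3, k3]
    fin_cases i <;> simp [comp]

namespace Lift

variable {Y B : Subgroup X} {C : Coord π Y B} {u : X}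

theorem zero (l : Lift C u) : l.ψ 0 = 1 := by
  have := l.add 0 0
  rw [add_zero] at this
  exact left_eq_mul.mp this

theorem red_mulVec (l : Lift C u) (x : X) (v : W) : red ((l.Mat x).mulVec v) = (C.M x).mulVec (red v) := by
  rw [← l.c, ← l.c, ← l.conj, C.conj x _ (l.mem v)]

theorem comm (l : Lift C u) (x : X) (v : W) : x * l.ψ v * x⁻¹ * (l.ψ v)⁻¹ = l.ψ ((l.Mat x).mulVec v - v) := by
  rw [l.conj, mul_inv_eq_iff_eq_mul, ← l.add, sub_add_cancel]

theorem Mat_eq_one (l : Lift C u) {p : X} (hp : ∀ b ∈ B, p * b = b * p) : l.Mat p = 1 := by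
  refine Matrix.ext fun i j => ?_
  have e : (l.Mat p).mulVec (Pi.single j 1) = Pi.single j 1 := l.inj (by
    rw [← l.conj, hp _ (l.mem _), mul_inv_cancel_right])
  have := congrFun e i
  rw [Matrix.mulVec_single_one] at this
  simpa [Matrix.one_apply, Pi.single_apply] using this

end Lift

/-- The kernel is not homocyclic of exponent four and rank three. -/
theorem Base.homocyclic_false (h : Base π) {Y : Subgroup X} (CY : Coord π ⊥ Y) (C : Coord π Y π.ker)
    (hexp : ∀ y ∈ Y, y * y = 1) (hcen : ∀ y ∈ Y, ∀ p ∈ π.ker, y * p = p * y)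
    (hsq : ∀ p ∈ π.ker, p * p ∈ Y) : False := by
  obtain ⟨hc, -, hsurj⟩ := Coord.square_map h CY C le_rfl hexp hcen hsq
  have hY8 : Nat.card Y = 8 := by rw [← Subgroup.relIndex_bot_left, CY.layer.card]
  obtain ⟨u, hu⟩ := C.real J (Matrix.det_ne_zero_of_right_inverse (B := J * J * J) (by decide +kernel))
  obtain ⟨l⟩ := C.exists_lift hc hY8 hexp hsq hsurj hu
  have hMker : ∀ p ∈ π.ker, l.Mat p = 1 := fun p hp => l.Mat_eq_one fun b hb => hc p hp b hb
  have hmem : ∀ x : X, C.M x = 1 → x ∈ π.ker := fun x hx => MonoidHom.mem_ker.mpr ((C.ker x).mp hx)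
  have hMu : l.Mat u = A0 := by
    obtain ⟨a, b, c, habc⟩ := l.shape
    rw [habc]
    refine comp_eq a b c ?_ ?_
    · rw [← habc, ← map_pow]
      exact hMker _ (hmem _ (by rw [map_pow, hu]; decide +kernel))
    · let χ : X →* (ZMod 4)ˣ := (Units.map (Matrix.detMonoidHom (n := Fin 3) (R := ZMod 4))).comp l.Mat.toHomUnits
      have hχ : π.ker ≤ χ.ker := fun p hp => by
        refine MonoidHom.mem_ker.mpr (Units.ext ?_)
        show (l.Mat p).det = 1
        rw [hMker p hp, Matrix.det_one]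
      have := congrArg Units.val (h.hom_trivial χ hχ u)
      rw [← habc]
      exact this
  obtain ⟨v, hv⟩ := l.surj (u * u * (u * u)) (hmem _ (by simp only [map_mul, hu]; exact J_pow_four))
  obtain ⟨p, hp⟩ := A0_fix v (by
    rw [← hMu]
    refine l.inj ?_
    rw [← l.conj, hv]
    group)
  set t := l.ψ p * (u * u) with ht
  have hA1 : l.Mat (u * u) = A0 * A0 := by rw [map_mul, hMu]
  have hMatψ : ∀ w, l.Mat (l.ψ w) = 1 := fun w => hMker _ (l.mem w)
  have hMψ : ∀ w, C.M (l.ψ w) = 1 := fun w => C.M_of_mem (l.mem w)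
  have hsplit : ∀ (w : W) (x : X), l.ψ w * x * (l.ψ w * x) = l.ψ (w + (l.Mat x).mulVec w) * (x * x) := fun w x => by
    rw [l.add, ← l.conj]; group
  have htMat : l.Mat t = A0 * A0 := by rw [ht, map_mul, hMatψ, one_mul, hA1]
  have htM : C.M t = T1 := by rw [ht, map_mul, hMψ, one_mul, map_mul, hu, J_sq]
  have htsq : t * t = 1 := by
    rw [ht, hsplit, hA1, ← hv, ← l.add, add_comm, hp, l.zero]
  set t' := l.ψ ![0, 1, 0] * t with ht'
  have ht'Mat : l.Mat t' = A0 * A0 := by rw [ht', map_mul, hMatψ, one_mul, htMat]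
  have ht'M : C.M t' = T1 := by rw [ht', map_mul, hMψ, one_mul, htM]
  have ht'sq : t' * t' = 1 := by rw [ht', hsplit, htMat, htsq, mul_one, A0_sq_e2, l.zero]
  obtain ⟨g, hg⟩ := C.real G (Matrix.det_ne_zero_of_right_inverse G_inv)
  set t2 := g * t * g⁻¹ with ht2
  have ht2M : C.M t2 = T2 := by rw [ht2, map_mul, map_mul, hg, htM, C.M_inv hg G_inv, T2_eq]
  have ht2sq : t2 * t2 = 1 := by rw [ht2, show g * t * g⁻¹ * (g * t * g⁻¹) = g * (t * t) * g⁻¹ by group, htsq]; group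
  let H : Subgroup X :=
    { carrier := {b | b ∈ π.ker ∧ (C.c b = 0 ∨ C.c b = e1)}
      one_mem' := ⟨one_mem _, Or.inl C.c_one⟩
      mul_mem' := by
        rintro a b ⟨ha, ha'⟩ ⟨hb, hb'⟩
        refine ⟨mul_mem ha hb, ?_⟩
        rw [C.add a ha b hb]
        rcases ha' with e | e <;> rcases hb' with e' | e' <;> simp [e, e', two_eq_zero]
      inv_mem' := fun {a} ha => ⟨inv_mem ha.1, by rw [C.c_inv ha.1]; exact ha.2⟩ }
  have hk0 : l.ψ ![2, 0, 0] * l.ψ ![2, 0, 0] = 1 := by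
    rw [← l.add, show (![2, 0, 0] : W) + ![2, 0, 0] = 0 by decide, l.zero]
  let K : Subgroup X := Subgroup.zpowers (l.ψ ![2, 0, 0])
  have hK : ∀ w : W, (w = 0 ∨ w = ![2, 0, 0]) → l.ψ w ∈ K := by
    rintro w (rfl | rfl)
    · rw [l.zero]; exact one_mem _
    · exact Subgroup.mem_zpowers _
  have hsmall : ∀ w, l.ψ w ∈ H → red w = 0 ∨ red w = e1 := fun w hw => by rw [← l.c]; exact hw.2
  have hKH : K ≤ H := Subgroup.zpowers_le.mpr ⟨l.mem _, Or.inl (by rw [l.c]; decide +kernel)⟩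
  have hcom : ∀ s : X, l.Mat s = A0 * A0 → ∀ a ∈ H, s * a * s⁻¹ * a⁻¹ ∈ K := by
    intro s hs a ha
    obtain ⟨w, rfl⟩ := l.surj a ha.1
    rw [l.comm, hs]
    exact hK _ (red_small w (hsmall w ha)).2
  have hgH : ∀ a ∈ H, g⁻¹ * a * g ∈ H := fun a ha => by
    have hm := (MonoidHom.normal_ker π).conj_mem a ha.1 g⁻¹
    rw [inv_inv] at hm
    refine ⟨hm, ?_⟩
    have e : C.c (g⁻¹ * a * g) = G.mulVec (C.c a) := by
      rw [← C.M_inv hg G_inv, ← C.conj _ a ha.1, inv_inv]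
    rcases ha.2 with e' | e' <;> rw [e, e']
    · exact Or.inl (Matrix.mulVec_zero _)
    · exact Or.inr G_e1
  have hgK : ∀ k ∈ K, g * k * g⁻¹ ∈ K := by
    have h0 : g * l.ψ ![2, 0, 0] * g⁻¹ = l.ψ ![2, 0, 0] := by
      have e := l.conj g ![1, 0, 0]
      have er : red ((l.Mat g).mulVec ![1, 0, 0]) = e1 := by rw [l.red_mulVec, hg, red_basis.1, G_e1]
      rw [show (![2, 0, 0] : W) = ![1, 0, 0] + ![1, 0, 0] by decide, l.add,
        show g * (l.ψ ![1, 0, 0] * l.ψ ![1, 0, 0]) * g⁻¹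
          = g * l.ψ ![1, 0, 0] * g⁻¹ * (g * l.ψ ![1, 0, 0] * g⁻¹) by group,
        e, ← l.add, ← l.add, red_one_double _ er, red_one_double _ red_basis.1]
    intro k hk
    obtain ⟨n, rfl⟩ := Subgroup.mem_zpowers_iff.mp hk
    rw [← conj_zpow, h0]
    exact Subgroup.zpow_mem _ (Subgroup.mem_zpowers _) n
  have hc2 : ∀ a ∈ H, t2 * a * t2⁻¹ * a⁻¹ ∈ K := fun a ha => by
    have := hgK _ (hcom t htMat _ (hgH a ha))
    rw [ht2]
    rwa [show g * (t * (g⁻¹ * a * g) * t⁻¹ * (g⁻¹ * a * g)⁻¹) * g⁻¹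
      = g * t * g⁻¹ * a * (g * t * g⁻¹)⁻¹ * a⁻¹ by group] at this
  have hcardH : 16 ≤ Nat.card H := by
    let f : {w : W // red w = 0 ∨ red w = e1} → H := fun w => ⟨l.ψ w.1, l.mem _, by rw [l.c]; exact w.2⟩
    refine le_trans (le_of_eq ?_) (Nat.card_le_card_of_injective f fun a b e =>
      Subtype.ext (l.inj (congrArg Subtype.val e)))
    rw [Nat.card_eq_fintype_card]
    decide +kernel
  have hcardK : Nat.card K ≤ 2 := by
    rw [Nat.card_zpowers]
    exact Nat.le_of_dvd two_pos (orderOf_dvd_of_pow_eq_one (by rw [sq, hk0]))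
  have hHc : ∀ a ∈ H, ∀ b ∈ H, a * b = b * a := fun a ha b hb => hc a ha.1 b hb.1
  have hHsq : ∀ a ∈ H, a * a ∈ K := fun a ha => by
    obtain ⟨w, rfl⟩ := l.surj a ha.1
    rw [← l.add]
    exact hK _ (red_small w (hsmall w ha)).1
  -- the commutator of the two involutions
  have hq : ∀ s : X, C.M s = T1 → s * s = 1 →
      s * t2 * (s * t2) ∈ π.ker ∧ (C.c (s * t2 * (s * t2)) = 0 ∨ C.c (s * t2 * (s * t2)) = e1) := by
    intro s hsM hs
    have hm : s * t2 * (s * t2) ∈ π.ker := hmem _ (by simp only [map_mul, hsM, ht2M]; exact T12_inv)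
    have hsinv : ∀ x : X, x * x = 1 → x⁻¹ = x := fun x hx => inv_eq_of_mul_eq_one_left hx
    refine ⟨hm, T12_fix _ ?_ ?_⟩
    · rw [← hsM, ← C.conj s _ hm]
      have e : s * (s * t2 * (s * t2)) * s⁻¹ = (s * t2 * (s * t2))⁻¹ := by
        conv_rhs => rw [_root_.mul_inv_rev, _root_.mul_inv_rev, hsinv s hs, hsinv t2 ht2sq]
        rw [hsinv s hs, ← mul_assoc s, ← mul_assoc s, hs, one_mul]
        group
      rw [e, C.c_inv hm]
    · rw [← ht2M, ← C.conj t2 _ hm]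
      have e : t2 * (s * t2 * (s * t2)) * t2⁻¹ = (s * t2 * (s * t2))⁻¹ := by
        conv_rhs => rw [_root_.mul_inv_rev, _root_.mul_inv_rev, hsinv s hs, hsinv t2 ht2sq]
        group
      rw [e, C.c_inv hm]
  obtain ⟨s, hsMat, hsM, hssq, hs0⟩ : ∃ s, l.Mat s = A0 * A0 ∧ C.M s = T1 ∧ s * s = 1 ∧
      C.c (s * t2 * (s * t2)) = 0 := by
    obtain ⟨hm, h0 | h1⟩ := hq t htM htsq
    · exact ⟨t, htMat, htM, htsq, h0⟩
    · refine ⟨t', ht'Mat, ht'M, ht'sq, ?_⟩
      have hψ := l.mem ![0, 1, 0]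
      have hcj := C.layer.sec.normB.conj_mem _ hψ (t * t2)
      rw [show t' * t2 * (t' * t2)
        = l.ψ ![0, 1, 0] * (t * t2 * l.ψ ![0, 1, 0] * (t * t2)⁻¹) * (t * t2 * (t * t2)) by rw [ht']; group,
        C.add _ (mul_mem hψ hcj) _ hm, C.add _ hψ _ hcj, C.conj _ _ hψ, map_mul, htM, ht2M, h1, l.c]
      decide +kernel
  obtain ⟨qv, hqv⟩ := l.surj _ (hq s hsM hssq).1
  obtain ⟨w, hw⟩ := red_half qv (by rw [← l.c, hqv, hs0])
  have hfix : ∀ x : X, x * (s * t2 * (s * t2)) * x⁻¹ = (s * t2 * (s * t2))⁻¹ → (C.M x).mulVec (red w) = red w := by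
    intro x hx
    have hneg : (s * t2 * (s * t2))⁻¹ = s * t2 * (s * t2) := by
      refine inv_eq_of_mul_eq_one_left ?_
      rw [← hqv, hw, ← l.add, show w + w + (w + w) = 0 from funext fun i => by
        simp only [Pi.add_apply, Pi.zero_apply]
        exact (by decide : ∀ a : ZMod 4, a + a + (a + a) = 0) _, l.zero]
    rw [hneg, ← hqv, l.conj] at hx
    have e := l.inj hx
    rw [hw, Matrix.mulVec_add] at e
    have e2 := red_two ((l.Mat x).mulVec w - w) (by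
      rw [sub_add_sub_comm, e, sub_self])
    rw [← l.red_mulVec]
    have e3 := red_add ((l.Mat x).mulVec w - w) w
    rwa [sub_add_cancel, e2, zero_add] at e3
  have hsinv : ∀ x : X, x * x = 1 → x⁻¹ = x := fun x hx => inv_eq_of_mul_eq_one_left hx
  have hqK : s * t2 * (s * t2) ∈ K := by
    rw [← hqv, hw]
    refine hK _ (red_small w (T12_fix _ (hsM ▸ hfix s ?_) (ht2M ▸ hfix t2 ?_))).1
    · conv_rhs => rw [_root_.mul_inv_rev, _root_.mul_inv_rev, hsinv s hssq, hsinv t2 ht2sq]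
      rw [hsinv s hssq, ← mul_assoc s, ← mul_assoc s, hssq, one_mul]
      group
    · conv_rhs => rw [_root_.mul_inv_rev, _root_.mul_inv_rev, hsinv s hssq, hsinv t2 ht2sq]
      group
  refine h.five C H K hKH (fun a ha => ha.1) hHc hHsq (by omega) hsM ht2M (hcom s hsMat) hc2
    (by rw [hssq]; exact one_mem _) (by rw [ht2sq]; exact one_mem _) ?_
  rw [show s * t2 * s⁻¹ * t2⁻¹ = s * t2 * (s * t2) by rw [hsinv s hssq, hsinv t2 ht2sq, mul_assoc (s * t2)]]
  exact hqK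

end CfsgLib.RankFour.LThree
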