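import Cfsg.Agent.Lib.RankFour.LThree.Coord

/-!
Splitting a layer from invariant lifts, and squaring between two layers.
-/

set_option autoImplicit false
set_option linter.style.haveILetI false
set_option linter.unusedSectionVars false

namespace CfsgLib.RankFour.LThree

open Matrix

universe u v

variable {X : Type u} [Group X] [Finite X] {L : Type v} [Group L] {π : X →* L}

namespace Coord

variable {A B : Subgroup X}

/-- An invariant set of lifts of the non-zero vectors yields an invariant layer. -/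
theorem exists_sub_of_lifts (C : Coord π A B) {A0 : Subgroup X} (hs : Sec π A0 B) (hA : A0 ≤ A)
    (hfix : ∀ g : X, ∀ z ∈ A, g * z * g⁻¹ * z⁻¹ ∈ A0) (O : Set X) (hOB : ∀ b ∈ O, b ∈ B)
    (hOinv : ∀ g : X, ∀ b ∈ O, g * b * g⁻¹ ∈ O) (hOA : ∀ b ∈ O, ∀ a ∈ A0, b * a ∈ O)
    (hO0 : ∀ b ∈ O, C.c b ≠ 0) (hex : ∀ w : V, w ≠ 0 → ∃ b ∈ O, C.c b = w)
    (huniq : ∀ a ∈ O, ∀ b ∈ O, C.c a = C.c b → a⁻¹ * b ∈ A0) :
    ∃ B' : Subgroup X, B' ≤ B ∧ Layer π A0 B' := by
  classical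
  obtain ⟨m⟩ := hs.exists_model
  letI := m.grp
  have hne12 : e1 + e2 ≠ 0 ∧ e1 ≠ e1 + e2 ∧ e2 ≠ e1 + e2 := by decide
  obtain ⟨a1, ha1, hc1⟩ := hex e1 e1_ne
  obtain ⟨a2, ha2, hc2⟩ := hex e2 e2_ne
  obtain ⟨a3, ha3, hc3⟩ := hex (e1 + e2) hne12.1
  have hB1 := hOB _ ha1
  have hB2 := hOB _ ha2
  have hB3 := hOB _ ha3
  set d := a3⁻¹ * (a1 * a2) with hd
  have hdA : d ∈ A := (C.c_eq_iff hB3 (mul_mem hB1 hB2)).mp (by rw [C.add _ hB1 _ hB2, hc1, hc2, hc3])
  have hdB : d ∈ B := C.le hdA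
  have hfd : ∀ g : X, m.α g (m.f d) = m.f d := fun g => (m.alpha_eq hs hdB).mpr (hfix g d hdA)
  have hfO : ∀ a ∈ O, ∀ b ∈ O, C.c a = C.c b → m.f a = m.f b := fun a ha b hb e => by
    have h := huniq a ha b hb e
    rw [show b = a * (a⁻¹ * b) by group, m.mul a (hOB a ha) _ (hs.le h), (m.one_iff _ (hs.le h)).mpr h, mul_one]
  have hback : ∀ b ∈ B, ∀ o ∈ O, m.f b = m.f o → b ∈ O := fun b hb o ho e => by
    have h : o⁻¹ * b ∈ A0 := (m.one_iff _ (mul_mem (inv_mem (hOB o ho)) hb)).mp (by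
      have h1 := m.mul o⁻¹ (inv_mem (hOB o ho)) o (hOB o ho)
      rw [inv_mul_cancel, (m.one_iff 1 (one_mem _)).mpr (one_mem _)] at h1
      rw [m.mul _ (inv_mem (hOB o ho)) b hb, e, ← h1])
    simpa using hOA o ho _ h
  -- the defect is the same for every pair
  have hkey : ∀ a ∈ O, ∀ b ∈ O, ∀ s ∈ O, C.c a ≠ C.c b → C.c s = C.c a + C.c b →
      m.f a * m.f b = m.f s * m.f d := by
    intro a ha b hb s hs' hab hsum
    obtain ⟨g, hga, hgb⟩ := C.exists_pair e1_ne e2_ne e12_ne (hO0 a ha) (hO0 b hb) hab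
    have hN := C.layer.sec.normB
    have k : ∀ o ∈ O, ∀ o' ∈ O, (C.M g).mulVec (C.c o) = C.c o' → m.α g (m.f o) = m.f o' := by
      intro o ho o' ho' e
      rw [← m.conj g o (hOB o ho)]
      exact hfO _ (hOinv g o ho) o' ho' (by rw [C.conj g o (hOB o ho), e])
    have e := congrArg (m.α g) (show m.f a1 * m.f a2 = m.f a3 * m.f d by
      rw [← m.mul _ hB1 _ hB2, ← m.mul _ hB3 _ hdB, hd, mul_inv_cancel_left])
    rwa [map_mul, map_mul, hfd, k a1 ha1 a ha (by rw [hc1, hga]), k a2 ha2 b hb (by rw [hc2, hgb]),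
      k a3 ha3 s hs' (by rw [hc3, Matrix.mulVec_add, hga, hgb, hsum])] at e
  have hclosed : ∀ u ∈ B, ∀ w ∈ B, u * d ∈ O → w * d ∈ O → u * w ∈ A0 ∨ u * w * d ∈ O := by
    intro u hu w hw hu' hw'
    have hval : m.f (u * w) = m.f (u * d) * m.f (w * d) := by
      rw [m.mul u hu w hw, m.mul u hu d hdB, m.mul w hw d hdB, mul_mul_mul_comm, m.two, mul_one]
    by_cases e : C.c (u * d) = C.c (w * d)
    · left
      rw [← m.one_iff _ (mul_mem hu hw), hval, hfO _ hu' _ hw' e, m.two]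
    · right
      obtain ⟨s, hs', hsc⟩ := hex (C.c (u * d) + C.c (w * d)) (fun h0 => e (by
        rw [eq_neg_of_add_eq_zero_left h0, neg_eq_of_add_eq_zero_left (two_eq_zero _)]))
      refine hback _ (mul_mem (mul_mem hu hw) hdB) s hs' ?_
      rw [m.mul _ (mul_mem hu hw) d hdB, hval, hkey _ hu' _ hw' s hs' e hsc, mul_assoc, m.two, mul_one]
  let H : Subgroup X :=
    { carrier := {u | u ∈ B ∧ (u ∈ A0 ∨ u * d ∈ O)}
      one_mem' := ⟨one_mem _, Or.inl (one_mem _)⟩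
      mul_mem' := by
        rintro u w ⟨hu, hu'⟩ ⟨hw, hw'⟩
        refine ⟨mul_mem hu hw, ?_⟩
        rcases hu' with hu' | hu'
        · rcases hw' with hw' | hw'
          · exact Or.inl (mul_mem hu' hw')
          · refine Or.inr (hback _ (mul_mem (mul_mem hu hw) hdB) _ hw' ?_)
            rw [m.mul _ (mul_mem hu hw) d hdB, m.mul u hu w hw, (m.one_iff u hu).mpr hu', one_mul,
              m.mul w hw d hdB]
        · rcases hw' with hw' | hw'
          · refine Or.inr (hback _ (mul_mem (mul_mem hu hw) hdB) _ hu' ?_)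
            rw [m.mul _ (mul_mem hu hw) d hdB, m.mul u hu w hw, (m.one_iff w hw).mpr hw', mul_one,
              m.mul u hu d hdB]
          · exact hclosed u hu w hw hu' hw'
      inv_mem' := by
        rintro u ⟨hu, hu'⟩
        refine ⟨inv_mem hu, hu'.imp (fun h => inv_mem h) fun h => ?_⟩
        have hinv : m.f u⁻¹ = m.f u := by
          have e := m.mul u⁻¹ (inv_mem hu) u hu
          rw [inv_mul_cancel, (m.one_iff 1 (one_mem _)).mpr (one_mem _)] at e
          exact mul_right_cancel (b := m.f u) (by rw [m.two, e])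
        refine hback _ (mul_mem (inv_mem hu) hdB) _ h ?_
        rw [m.mul _ (inv_mem hu) d hdB, hinv, m.mul u hu d hdB] }
  have hHB : H ≤ B := fun u hu => hu.1
  haveI := hs.normA
  have hHn : H.Normal := ⟨fun u hu g => ⟨hs.normB.conj_mem u hu.1 g, hu.2.imp
    (fun h => hs.normA.conj_mem u h g) fun h => by
      refine hback _ (mul_mem (hs.normB.conj_mem u hu.1 g) hdB) _ (hOinv g _ h) ?_
      rw [m.mul _ (hs.normB.conj_mem u hu.1 g) d hdB, m.conj g u hu.1, m.conj g _ (mul_mem hu.1 hdB),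
        m.mul u hu.1 d hdB, map_mul, hfd]⟩⟩
  have hA0H : A0 ≤ H := fun a ha => ⟨hs.le ha, Or.inl ha⟩
  have hcd : C.c d = 0 := (C.zero_iff d hdB).mpr hdA
  have hHA : ∀ u ∈ H, C.c u = 0 → u ∈ A0 := by
    rintro u ⟨hu, hu' | hu'⟩ h0
    · exact hu'
    · exact absurd (by rw [C.add u hu d hdB, h0, hcd, add_zero]) (hO0 _ hu')
  have hsurjH : ∀ w : V, ∃ u ∈ H, C.c u = w := by
    intro w
    by_cases hw : w = 0
    · exact ⟨1, one_mem _, by rw [C.c_one, hw]⟩
    obtain ⟨b, hb, hbw⟩ := hex w hw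
    refine ⟨b * d⁻¹, ⟨mul_mem (hOB b hb) (inv_mem hdB), Or.inr (by rwa [inv_mul_cancel_right])⟩, ?_⟩
    rw [C.add b (hOB b hb) _ (inv_mem hdB), C.c_inv hdB, hcd, add_zero, hbw]
  refine ⟨H, hHB, ⟨hA0H, hs.normA, hHn, fun u hu => hs.sub hu.1, fun u hu => hs.sq u hu.1,
    fun p hp u hu => hs.triv p hp u hu.1⟩, ?_, ?_⟩
  · let g : ↥H →* Multiplicative V :=
      MonoidHom.mk' (fun u => Multiplicative.ofAdd (C.c u)) fun u w => by
        show Multiplicative.ofAdd (C.c ((u : X) * w)) = _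
        rw [C.add _ (hHB u.2) _ (hHB w.2), ofAdd_add]
    have hg : Function.Surjective g := fun w => by
      obtain ⟨u, hu, huw⟩ := hsurjH w.toAdd
      exact ⟨⟨u, hu⟩, by show Multiplicative.ofAdd (C.c u) = w; rw [huw, ofAdd_toAdd]⟩
    have hk : g.ker = A0.subgroupOf H := by
      ext u
      rw [MonoidHom.mem_ker, Subgroup.mem_subgroupOf]
      show Multiplicative.ofAdd (C.c (u : X)) = 1 ↔ _
      rw [ofAdd_eq_one]
      exact ⟨hHA u u.2, fun h => (C.zero_iff _ (hHB u.2)).mpr (hA h)⟩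
    show (A0.subgroupOf H).index = 8
    rw [← hk, Subgroup.index_ker, MonoidHom.range_eq_top.mpr hg, Subgroup.card_top,
      Nat.card_congr Multiplicative.toAdd, Nat.card_eq_fintype_card]
    rfl
  · obtain ⟨x, b, hb, hne⟩ := C.layer.nontriv
    obtain ⟨u, hu, huc⟩ := hsurjH (C.c b)
    refine ⟨x, u, hu, fun hmem => hne ?_⟩
    have h1 : C.c (x * u * x⁻¹) = C.c u := by
      rw [show x * u * x⁻¹ = (x * u * x⁻¹ * u⁻¹) * u by group, C.add _ (hs.le hmem) u (hHB hu),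
        (C.zero_iff _ (hs.le hmem)).mpr (hA hmem), zero_add]
    have h2 : C.c (x * b * x⁻¹) = C.c b := by
      rw [C.conj x b hb, ← huc, ← C.conj x u (hHB hu), h1]
    have h3 := (C.c_eq_iff hb (C.layer.sec.normB.conj_mem b hb x)).mp h2.symm
    have := C.layer.sec.normA.conj_mem _ h3 b
    simpa [mul_assoc] using this

/-- If involutions of the quotient fix the lifts of the vectors they fix, the layer splits. -/
theorem exists_sub_of_fixed (C : Coord π A B) {A0 : Subgroup X} (hs : Sec π A0 B) (hA : A0 ≤ A)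
    (hfix : ∀ g : X, ∀ z ∈ A, g * z * g⁻¹ * z⁻¹ ∈ A0)
    (hinv : ∀ g : X, C.M g * C.M g = 1 → ∀ b ∈ B, (C.M g).mulVec (C.c b) = C.c b → g * b * g⁻¹ * b⁻¹ ∈ A0) :
    ∃ B' : Subgroup X, B' ≤ B ∧ Layer π A0 B' := by
  obtain ⟨m⟩ := hs.exists_model
  letI := m.grp
  obtain ⟨b0, hb0, hc0⟩ := C.surj e1
  have hstab : ∀ g : X, (C.M g).mulVec e1 = e1 → m.α g (m.f b0) = m.f b0 := by
    intro g hg
    have hform := mat_eq_ofCols (C.M g)
    rw [hg] at hform
    obtain ⟨b', c', h1, h2⟩ := stab_two_involutions _ _ (hform ▸ C.det_ne g)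
    obtain ⟨a, ha⟩ := C.real (ofCols e1 b' c') (Matrix.det_ne_zero_of_right_inverse h1)
    have fa : m.α a (m.f b0) = m.f b0 :=
      (m.alpha_eq hs hb0).mpr (hinv a (by rw [ha]; exact h1) b0 hb0 (by rw [ha, hc0, ofCols_e1]))
    have fag : m.α (a * g) (m.f b0) = m.f b0 := (m.alpha_eq hs hb0).mpr (hinv (a * g)
      (by rw [map_mul, ha, hform]; exact h2) b0 hb0
      (by rw [map_mul, ← Matrix.mulVec_mulVec, hc0, hg, ha, ofCols_e1]))
    rw [map_mul, MulAut.mul_apply] at fag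
    exact (m.α a).injective (fag.trans fa.symm)
  refine C.exists_sub_of_lifts hs hA hfix {b | b ∈ B ∧ ∃ g : X, m.f b = m.α g (m.f b0)} (fun b hb => hb.1)
    ?_ ?_ ?_ ?_ ?_
  · rintro g b ⟨hb, k, hk⟩
    exact ⟨C.layer.sec.normB.conj_mem b hb g, g * k, by rw [m.conj g b hb, hk, map_mul]; rfl⟩
  · rintro b ⟨hb, k, hk⟩ a ha
    exact ⟨mul_mem hb (hs.le ha), k, by rw [m.mul b hb a (hs.le ha), (m.one_iff a (hs.le ha)).mpr ha, mul_one, hk]⟩
  · rintro b ⟨hb, k, hk⟩ h0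
    rw [← m.conj k b0 hb0] at hk
    have hmem : (k * b0 * k⁻¹)⁻¹ * b ∈ A0 := by
      have hk0 := hs.normB.conj_mem b0 hb0 k
      rw [← m.one_iff _ (mul_mem (inv_mem hk0) hb), m.mul _ (inv_mem hk0) b hb, hk, ← m.mul _ (inv_mem hk0) _ hk0,
        inv_mul_cancel]
      exact (m.one_iff 1 (one_mem _)).mpr (one_mem _)
    have e := (C.c_eq_iff (hs.normB.conj_mem b0 hb0 k) hb).mpr (hA hmem)
    rw [h0, C.conj k b0 hb0, hc0] at e
    have := congrArg (C.M k⁻¹).mulVec e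
    rw [Matrix.mulVec_mulVec, ← map_mul, inv_mul_cancel, map_one, Matrix.one_mulVec, Matrix.mulVec_zero] at this
    exact e1_ne this
  · intro w hw
    obtain ⟨g, hg⟩ := C.exists_one e1_ne hw
    exact ⟨g * b0 * g⁻¹, ⟨hs.normB.conj_mem b0 hb0 g, g, m.conj g b0 hb0⟩, by rw [C.conj g b0 hb0, hc0, hg]⟩
  · rintro a ⟨ha, k, hk⟩ b ⟨hb, k', hk'⟩ e
    have hcoord : ∀ (b : X) (hb : b ∈ B) (k : X), m.f b = m.α k (m.f b0) → C.c b = (C.M k).mulVec e1 := by
      intro b hb k hk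
      rw [← m.conj k b0 hb0] at hk
      have hk0 := hs.normB.conj_mem b0 hb0 k
      have hmem : (k * b0 * k⁻¹)⁻¹ * b ∈ A0 := by
        rw [← m.one_iff _ (mul_mem (inv_mem hk0) hb), m.mul _ (inv_mem hk0) b hb, hk,
          ← m.mul _ (inv_mem hk0) _ hk0, inv_mul_cancel]
        exact (m.one_iff 1 (one_mem _)).mpr (one_mem _)
      rw [← (C.c_eq_iff hk0 hb).mpr (hA hmem), C.conj k b0 hb0, hc0]
    rw [hcoord a ha k hk, hcoord b hb k' hk'] at e
    have hst := hstab (k⁻¹ * k') (by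
      rw [map_mul, ← Matrix.mulVec_mulVec, ← e, Matrix.mulVec_mulVec, ← map_mul, inv_mul_cancel, map_one,
        Matrix.one_mulVec])
    have : m.f a = m.f b := by
      rw [hk, hk', show k' = k * (k⁻¹ * k') by group, map_mul, MulAut.mul_apply, hst]
    rw [← m.one_iff _ (mul_mem (inv_mem ha) hb), m.mul _ (inv_mem ha) b hb, ← this, ← m.mul _ (inv_mem ha) a ha,
      inv_mul_cancel]
    exact (m.one_iff 1 (one_mem _)).mpr (one_mem _)

/-- Two equivariant bijections between a layer and a layer at the bottom agree. -/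
theorem eq_of_equivariant {Y : Subgroup X} (C : Coord π A B) (CY : Coord π ⊥ Y) (f g : X → X)
    (hf : ∀ b ∈ B, f b ∈ Y) (hg : ∀ b ∈ B, g b ∈ Y)
    (hfc : ∀ x : X, ∀ b ∈ B, f (x * b * x⁻¹) = x * f b * x⁻¹)
    (hgc : ∀ x : X, ∀ b ∈ B, g (x * b * x⁻¹) = x * g b * x⁻¹)
    (hfi : ∀ a ∈ B, ∀ b ∈ B, (f a = f b ↔ C.c a = C.c b))
    (hgi : ∀ a ∈ B, ∀ b ∈ B, (g a = g b ↔ C.c a = C.c b)) (hf1 : f 1 = 1) (hg1 : g 1 = 1) :
    ∀ b ∈ B, f b = g b := by
  intro b hb
  by_cases hb0 : C.c b = 0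
  · have e : C.c b = C.c 1 := by rw [C.c_one, hb0]
    rw [(hfi b hb 1 (one_mem _)).mpr e, (hgi b hb 1 (one_mem _)).mpr e, hf1, hg1]
  have hcY : ∀ y ∈ Y, ∀ y' ∈ Y, CY.c y = CY.c y' → y = y' := fun y hy y' hy' e =>
    inv_mul_eq_one.mp (Subgroup.mem_bot.mp ((CY.c_eq_iff hy hy').mp e))
  have hne : CY.c (f b) ≠ 0 := fun e => hb0 (by
    rw [← C.c_one]
    refine (hfi b hb 1 (one_mem _)).mp ?_
    rw [hf1]
    exact Subgroup.mem_bot.mp ((CY.zero_iff _ (hf b hb)).mp e))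
  have hgne : CY.c (g b) ≠ 0 := fun e => hb0 (by
    rw [← C.c_one]
    refine (hgi b hb 1 (one_mem _)).mp ?_
    rw [hg1]
    exact Subgroup.mem_bot.mp ((CY.zero_iff _ (hg b hb)).mp e))
  have hstab : ∀ x : X, (CY.M x).mulVec (CY.c (f b)) = CY.c (f b) → (CY.M x).mulVec (CY.c (g b)) = CY.c (g b) := by
    intro x hx
    have hxb := C.layer.sec.normB.conj_mem b hb x
    have hfe : f (x * b * x⁻¹) = f b :=
      hcY _ (hf _ hxb) _ (hf b hb) (by rw [hfc x b hb, CY.conj x _ (hf b hb), hx])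
    have hge : g (x * b * x⁻¹) = g b := (hgi _ hxb b hb).mpr ((hfi _ hxb b hb).mp hfe)
    rw [← CY.conj x _ (hg b hb), ← hgc x b hb, hge]
  exact (hcY _ (hg b hb) _ (hf b hb) ((CY.eq_of_stab_fixed hne hstab).resolve_left hgne)).symm

/-- Squaring from one layer onto another. -/
theorem square_map (h : Base π) {Y : Subgroup X} (CY : Coord π ⊥ Y) {F : Subgroup X} (C : Coord π F B)
    (hYF : Y ≤ F) (hexp : ∀ f ∈ F, f * f = 1) (hcen : ∀ f ∈ F, ∀ b ∈ B, f * b = b * f)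
    (hsq : ∀ b ∈ B, b * b ∈ Y) :
    (∀ a ∈ B, ∀ b ∈ B, a * b = b * a) ∧ (∀ b ∈ B, b * b = 1 → b ∈ F) ∧ (∀ y ∈ Y, ∃ b ∈ B, b * b = y) := by
  classical
  have hY8 : Nat.card Y = 8 := by rw [← Subgroup.relIndex_bot_left, CY.layer.card]
  have hBN := C.layer.sec.normB
  have hwd : ∀ a ∈ B, ∀ b ∈ B, C.c a = C.c b → a * a = b * b := by
    intro a ha b hb e
    obtain ⟨f, hf, rfl⟩ : ∃ f ∈ F, b = a * f := ⟨_, (C.c_eq_iff ha hb).mp e, by group⟩
    rw [show a * f * (a * f) = a * (f * a) * f by group, hcen f hf a ha,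
      show a * (a * f) * f = a * a * (f * f) by group, hexp f hf, mul_one]
  have hequiv : ∀ x : X, ∀ b : X, x * b * x⁻¹ * (x * b * x⁻¹) = x * (b * b) * x⁻¹ := fun x b => by group
  have hnz : ∀ b ∈ B, C.c b ≠ 0 → b * b ≠ 1 := by
    intro b0 hb0 hc0 he
    have hall : ∀ b ∈ B, b * b = 1 := by
      intro b hb
      by_cases hc : C.c b = 0
      · exact hexp b ((C.zero_iff b hb).mp hc)
      obtain ⟨x, hx⟩ := C.exists_one hc0 hc
      rw [← hwd _ (hBN.conj_mem b0 hb0 x) b hb (by rw [C.conj x b0 hb0, hx]), hequiv, he]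
      group
    have hle := CfsgLib.RankFour.relIndex_le_of_sq_mem h.rank (X := B) (N := ⊥)
      (fun x _ n hn => by rw [Subgroup.mem_bot] at hn ⊢; rw [hn]; group)
      (fun b hb => Subgroup.mem_bot.mpr (hall b hb))
    rw [Subgroup.relIndex_bot_left] at hle
    have h1 := Subgroup.relIndex_mul_relIndex ⊥ F B bot_le C.le
    rw [Subgroup.relIndex_bot_left, Subgroup.relIndex_bot_left, C.layer.card] at h1
    have h2 := Nat.le_of_dvd Nat.card_pos (Subgroup.card_dvd_of_le hYF)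
    omega
  choose lift hlB hlc using C.surj
  set q : V → V := fun w => CY.c (lift w * lift w) with hq
  have hqc : ∀ b ∈ B, CY.c (b * b) = q (C.c b) := fun b hb => by
    rw [hq]; dsimp only; rw [hwd b hb _ (hlB _) (hlc _).symm]
  have hq0 : q 0 = 0 := by rw [← C.c_one, ← hqc 1 (one_mem _), one_mul, CY.c_one, C.c_one]
  have hqne : ∀ w, w ≠ 0 → q w ≠ 0 := fun w hw e => hnz _ (hlB w) (by rw [hlc]; exact hw)
    (Subgroup.mem_bot.mp ((CY.zero_iff _ (hsq _ (hlB w))).mp e))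
  have hqM : ∀ x : X, ∀ w, q ((C.M x).mulVec w) = (CY.M x).mulVec (q w) := fun x w => by
    rw [← hlc w, ← C.conj x _ (hlB w), ← hqc _ (hBN.conj_mem _ (hlB w) x), hequiv, CY.conj x _ (hsq _ (hlB w)),
      hqc _ (hlB w)]
  have hsurj : Function.Surjective q := by
    intro y
    by_cases hy : y = 0
    · exact ⟨0, hy ▸ hq0⟩
    obtain ⟨x, hx⟩ := CY.exists_one (hqne e1 e1_ne) hy
    exact ⟨(C.M x).mulVec e1, by rw [hqM, hx]⟩
  have hinj : Function.Injective q := Finite.injective_iff_surjective.mpr hsurj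
  have hadd : ∀ v w : V, v ≠ 0 → w ≠ 0 → v ≠ w → q v + q w + q (v + w) = 0 := by
    intro v w hv hw hvw
    have hvw0 : v + w ≠ 0 := fun e => hvw ((eq_neg_of_add_eq_zero_left e).trans
      (neg_eq_of_add_eq_zero_left (two_eq_zero _)))
    by_contra hne
    have hdet := det_of_indep _ _ _ (hqne v hv) (hqne w hw) (hqne _ hvw0) (fun e => hvw (hinj e))
      (fun e => hw (add_left_cancel ((add_zero v).trans (hinj e))).symm)
      (fun e => hv (add_right_cancel ((zero_add w).trans (hinj e))).symm) hne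
    obtain ⟨f, k, hf, hk, fv, fw, fk⟩ := exists_transvection v w
    obtain ⟨ti, tne, tv⟩ := transvection_props hf hk fk fv
    obtain ⟨-, -, tw⟩ := transvection_props hf hk fk fw
    obtain ⟨x, hx⟩ := C.real _ (Matrix.det_ne_zero_of_right_inverse ti)
    obtain ⟨P', hP'⟩ := inv_of_det hdet
    have e : CY.M x * ofCols (q v) (q w) (q (v + w)) = ofCols (q v) (q w) (q (v + w)) := by
      rw [mat_eq_ofCols (CY.M x * ofCols (q v) (q w) (q (v + w)))]
      simp only [← Matrix.mulVec_mulVec, ofCols_e1, ofCols_e2, ofCols_e3, ← hqM, hx, tv, tw, Matrix.mulVec_add]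
    have h1 : CY.M x = 1 := by
      have := congrArg (· * P') e
      simp only [mul_assoc, hP', mul_one] at this
      exact this
    exact tne (hx ▸ (C.ker x).mpr ((CY.ker x).mp h1))
  have hY : ∀ y ∈ Y, ∀ y' ∈ Y, CY.c y = CY.c y' → y = y' := fun y hy y' hy' e =>
    inv_mul_eq_one.mp (Subgroup.mem_bot.mp ((CY.c_eq_iff hy hy').mp e))
  refine ⟨?_, ?_, ?_⟩
  · intro a ha b hb
    by_cases hca : C.c a = 0
    · exact hcen a ((C.zero_iff a ha).mp hca) b hb
    by_cases hcb : C.c b = 0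
    · exact (hcen b ((C.zero_iff b hb).mp hcb) a ha).symm
    by_cases hab : C.c a = C.c b
    · obtain ⟨f, hf, rfl⟩ : ∃ f ∈ F, b = a * f := ⟨_, (C.c_eq_iff ha hb).mp hab, by group⟩
      rw [mul_assoc a f a, hcen f hf a ha]
    have hsum : q (C.c a + C.c b) = q (C.c a) + q (C.c b) := by
      have := hadd _ _ hca hcb hab
      rw [eq_neg_of_add_eq_zero_right this, neg_eq_of_add_eq_zero_left (two_eq_zero _)]
    have e : a * b * (a * b) = a * a * (b * b) := by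
      refine hY _ (hsq _ (mul_mem ha hb)) _ (mul_mem (hsq a ha) (hsq b hb)) ?_
      rw [hqc _ (mul_mem ha hb), C.add a ha b hb, hsum, CY.add _ (hsq a ha) _ (hsq b hb), hqc a ha, hqc b hb]
    calc a * b = a⁻¹ * (a * a * (b * b)) * b⁻¹ := by group
      _ = a⁻¹ * (a * b * (a * b)) * b⁻¹ := by rw [e]
      _ = b * a := by group
  · intro b hb e
    refine (C.zero_iff b hb).mp (hinj ?_)
    rw [← hqc b hb, e, CY.c_one, hq0]
  · intro y hy
    obtain ⟨w, hw⟩ := hsurj (CY.c y)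
    exact ⟨lift w, hlB w, hY _ (hsq _ (hlB w)) y hy hw⟩

end Coord

end CfsgLib.RankFour.LThree
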