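import Cfsg.Agent.Lib.RankFour.LThree.Split
import Cfsg.Agent.Lib.AltEight.SixTop

/-!
Descent to quotients and to subgroups of index two, coprime steps, and the rank bound from a four-group.
-/

set_option autoImplicit false
set_option linter.style.haveILetI false
set_option linter.unusedSectionVars false

namespace CfsgLib.RankFour.LThree

open Matrix

universe u v

variable {X : Type u} [Group X] [Finite X] {L : Type v} [Group L] {π : X →* L}

/-- Only kernel elements centralise the kernel. -/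
def Faith (π : X →* L) : Prop := ∀ x : X, (∀ p ∈ π.ker, x * p = p * x) → π x = 1

/-- The possible shapes of the kernel. -/
def Concl (P : Subgroup X) : Prop :=
  ((Nat.card P = 8 ∨ Nat.card P = 16) ∧ ∀ p ∈ P, p * p = 1) ∨
    (Nat.card P = 32 ∧ (∀ a ∈ P, ∀ b ∈ P, a * b = b * a) ∧
      ∃ f ∈ P, f ≠ 1 ∧ f * f = 1 ∧ (∀ p ∈ P, p * p = 1 ∨ p * p = f) ∧ ∃ p ∈ P, p * p = f)

/-- The same shapes for a quotient. -/
def ConclIn (N P : Subgroup X) : Prop :=
  ((N.relIndex P = 8 ∨ N.relIndex P = 16) ∧ ∀ p ∈ P, p * p ∈ N) ∨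
    (N.relIndex P = 32 ∧ (∀ a ∈ P, ∀ b ∈ P, a * b * a⁻¹ * b⁻¹ ∈ N) ∧
      ∃ f ∈ P, f ∉ N ∧ f * f ∈ N ∧ (∀ p ∈ P, p * p ∈ N ∨ f⁻¹ * (p * p) ∈ N) ∧
        ∃ p ∈ P, f⁻¹ * (p * p) ∈ N)

/-- The induction hypothesis. -/
def Smaller (X : Type u) (L : Type v) [Group L] : Prop :=
  ∀ (X' : Type u) [Group X'] [Finite X'] (π' : X' →* L), Nat.card X' < Nat.card X → Base π' → Faith π' →
    Concl π'.ker

theorem Base.seven_in (h : Base π) (N : Subgroup X) [N.Normal] {a : X} (ha : a ∈ N) (ha1 : π a ≠ 1) :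
    ∃ s ∈ N, s ^ 7 = 1 ∧ π s ≠ 1 := by
  obtain ⟨σ, -, hπ7, hπ1⟩ := h.exists_order_seven
  obtain ⟨n, hn, hne⟩ := h.cover N ha ha1 σ
  obtain ⟨k, hk⟩ := h.two ⟨n ^ 7, by rw [MonoidHom.mem_ker, map_pow, hne, hπ7]⟩
  have hk' : (n ^ 7) ^ 2 ^ k = 1 := congrArg Subtype.val hk
  refine ⟨n ^ 2 ^ k, pow_mem hn _, by rw [← pow_mul, mul_comm, pow_mul, hk'], ?_⟩
  haveI : Fact (Nat.Prime 7) := ⟨by norm_num⟩
  rw [map_pow, hne, Ne, ← orderOf_dvd_iff_pow_eq_one, orderOf_eq_prime hπ7 hπ1]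
  intro hd
  exact absurd (Nat.Prime.dvd_of_dvd_pow (by norm_num) hd) (by norm_num)

/-- A coprime step. -/
theorem Base.eq_one_of_seven (h : Base π) {s p n : X} (hs : s ^ 7 = 1) (hn : n ∈ π.ker) (hsn : s * n = n * s)
    (e : s * p * s⁻¹ = n * p) : n = 1 := by
  have h2 : ∀ i : ℕ, s ^ i * p * (s ^ i)⁻¹ = n ^ i * p := by
    intro i
    induction i with
    | zero => simp
    | succ i ih =>
      have hc : s * n ^ i = n ^ i * s := (Commute.pow_right (show Commute s n from hsn) i).eq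
      calc s ^ (i + 1) * p * (s ^ (i + 1))⁻¹ = s * (s ^ i * p * (s ^ i)⁻¹) * s⁻¹ := by
            rw [pow_succ']; group
        _ = n ^ i * (s * p * s⁻¹) := by rw [ih, ← mul_assoc s, hc]; group
        _ = n ^ (i + 1) * p := by rw [e, pow_succ, mul_assoc]
  have h7 : n ^ 7 = 1 := by
    have := h2 7
    rwa [hs, inv_one, mul_one, one_mul, right_eq_mul] at this
  obtain ⟨k, hk⟩ := h.two ⟨n, hn⟩
  have hk' : n ^ 2 ^ k = 1 := congrArg Subtype.val hk
  exact orderOf_eq_one_iff.mp (Nat.eq_one_of_dvd_coprimes (Nat.Coprime.pow_right k (by norm_num : Nat.Coprime 7 2))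
    (orderOf_dvd_of_pow_eq_one h7) (orderOf_dvd_of_pow_eq_one hk'))

theorem Base.fix_step (h : Base π) {s : X} (hs : s ^ 7 = 1) {A : Subgroup X} (hA : A ≤ π.ker)
    (hcent : ∀ a ∈ A, s * a = a * s) {b : X} (hb : s * b * s⁻¹ * b⁻¹ ∈ A) : s * b = b * s :=
  mul_inv_eq_iff_eq_mul.mp (mul_inv_eq_one.mp
    (h.eq_one_of_seven (p := b) hs (hA hb) (hcent _ hb) (by group)))

theorem Faith.moves (hF : Faith π) {s : X} (hs1 : π s ≠ 1) : ∃ p ∈ π.ker, s * p ≠ p * s := by
  by_contra hcon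
  push Not at hcon
  exact hs1 (hF s hcon)

theorem Faith.moves_mod (h : Base π) (hF : Faith π) {s : X} (hs7 : s ^ 7 = 1) (hs1 : π s ≠ 1) {A : Subgroup X}
    (hA : A ≤ π.ker) (hcent : ∀ a ∈ A, s * a = a * s) : ∃ p ∈ π.ker, s * p * s⁻¹ * p⁻¹ ∉ A := by
  obtain ⟨p, hp, hne⟩ := hF.moves hs1
  exact ⟨p, hp, fun hmem => hne (h.fix_step hs7 hA hcent hmem)⟩

/-- Descent to a quotient. -/
theorem Base.quot (h : Base π) (IH : Smaller X L) (N : Subgroup X) [N.Normal] (hN : N ≤ π.ker) (hne : N ≠ ⊥)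
    (hmove : ∀ s : X, s ^ 7 = 1 → π s ≠ 1 → ∃ p ∈ π.ker, s * p * s⁻¹ * p⁻¹ ∉ N) : ConclIn N π.ker := by
  set π' := QuotientGroup.lift N π hN with hπ'
  have hk : π'.ker = π.ker.map (QuotientGroup.mk' N) := QuotientGroup.ker_lift N π hN
  have hmem : ∀ p ∈ π.ker, QuotientGroup.mk' N p ∈ π'.ker := fun p hp => hk ▸ Subgroup.mem_map_of_mem _ hp
  have hone : ∀ x : X, QuotientGroup.mk' N x = 1 ↔ x ∈ N := fun x => QuotientGroup.eq_one_iff x
  have hcard : Nat.card π'.ker = N.relIndex π.ker := by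
    rw [hk, ← Subgroup.relIndex_ker, QuotientGroup.ker_mk']
  have hb : Base π' := by
    refine ⟨fun l => ?_, ?_, CfsgLib.AltEight.Sixteen.sectional_of_section h.rank (MonoidHom.id X)
      Function.injective_id (QuotientGroup.mk' N) (QuotientGroup.mk'_surjective N), h.simple, h.card⟩
    · obtain ⟨x, rfl⟩ := h.surj l
      exact ⟨QuotientGroup.mk' N x, rfl⟩
    · rw [hk]; exact h.two.map _
  have hlt : Nat.card (X ⧸ N) < Nat.card X := by
    rw [Subgroup.card_eq_card_quotient_mul_card_subgroup N]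
    exact lt_mul_of_one_lt_right Nat.card_pos
      (Finite.one_lt_card_iff_nontrivial.mpr ((Subgroup.nontrivial_iff_ne_bot N).mpr hne))
  have hfaith : Faith π' := by
    intro x
    obtain ⟨x, rfl⟩ := QuotientGroup.mk'_surjective N x
    intro hx
    by_contra hx1
    haveI := Subgroup.Normal.map (inferInstance : π.ker.Normal) (QuotientGroup.mk' N)
      (QuotientGroup.mk'_surjective N)
    let C : Subgroup X := (Subgroup.centralizer
      ((π.ker.map (QuotientGroup.mk' N) : Subgroup (X ⧸ N)) : Set (X ⧸ N))).comap (QuotientGroup.mk' N)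
    have hxC : x ∈ C := by
      rw [Subgroup.mem_comap, Subgroup.mem_centralizer_iff]
      intro p hp
      exact (hx p (by rw [hk]; exact hp)).symm
    obtain ⟨s, hsC, hs7, hs1⟩ := h.seven_in C hxC hx1
    obtain ⟨p, hp, hne'⟩ := hmove s hs7 hs1
    rw [Subgroup.mem_comap, Subgroup.mem_centralizer_iff] at hsC
    refine hne' ((hone _).mp ?_)
    rw [map_mul, map_mul, map_mul, map_inv, map_inv, ← hsC _ (Subgroup.mem_map_of_mem _ hp)]
    group
  rcases IH (X ⧸ N) π' hlt hb hfaith with ⟨hc, hsq⟩ | ⟨hc, hcomm, f, hf, hf1, hf2, hsq, p, hp, hpf⟩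
  · exact Or.inl ⟨by rwa [← hcard], fun p hp => (hone _).mp (by rw [map_mul]; exact hsq _ (hmem p hp))⟩
  · rw [hk] at hf hp
    obtain ⟨f, hfP, rfl⟩ := hf
    obtain ⟨p, hpP, rfl⟩ := hp
    refine Or.inr ⟨by rwa [← hcard], fun a ha b hb => (hone _).mp ?_, f, hfP, fun hm => hf1 ((hone f).mpr hm),
      (hone _).mp (by rw [map_mul]; exact hf2), fun q hq => ?_, p, hpP, (hone _).mp ?_⟩
    · rw [map_mul, map_mul, map_mul, map_inv, map_inv, hcomm _ (hmem a ha) _ (hmem b hb)]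
      group
    · refine (hsq _ (hmem q hq)).imp (fun e => (hone _).mp (by rw [map_mul]; exact e)) fun e => (hone _).mp ?_
      rw [map_mul, map_mul, map_inv, e, inv_mul_cancel]
    · rw [map_mul, map_mul, map_inv, hpf, inv_mul_cancel]

/-- The eight unitriangular matrices. -/
theorem unitri : (∀ i : Fin 4, ∀ j : Fin 2, ∀ i' : Fin 4, ∀ j' : Fin 2, ∃ i'' : Fin 4, ∃ j'' : Fin 2,
      J ^ (i : ℕ) * D ^ (j : ℕ) * (J ^ (i' : ℕ) * D ^ (j' : ℕ)) = J ^ (i'' : ℕ) * D ^ (j'' : ℕ)) ∧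
    (∀ i : Fin 4, ∀ j : Fin 2, ∃ i' : Fin 4, ∃ j' : Fin 2,
      J ^ (i : ℕ) * D ^ (j : ℕ) * (J ^ (i' : ℕ) * D ^ (j' : ℕ)) = 1) ∧
    (∀ i : Fin 4, ∀ j : Fin 2, ∀ i' : Fin 4, ∀ j' : Fin 2,
      J ^ (i : ℕ) * D ^ (j : ℕ) = J ^ (i' : ℕ) * D ^ (j' : ℕ) → i = i' ∧ j = j') ∧
    J * J = T1 ∧ D * J * D * (J * J * J) = J * J := by
  decide +kernel

/-- A kernel of index two with a splitting element gives a subgroup of index two covering the quotient. -/
theorem Base.exists_two (h : Base π) {A B0 : Subgroup X} (C0 : Coord π A B0) (B : Subgroup X) [B.Normal]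
    (hB : B ≤ π.ker) (hB2 : B.relIndex π.ker = 2) {a : X} (haJ : C0.M a = J) (ha4 : a ^ 4 ∈ B) :
    ∃ X1 : Subgroup X, (∀ l : L, ∃ x ∈ X1, π x = l) ∧ X1 ⊓ π.ker = B ∧ X1.index = 2 := by
  classical
  set mk := QuotientGroup.mk' B with hmk
  have hone : ∀ x : X, mk x = 1 ↔ x ∈ B := fun x => QuotientGroup.eq_one_iff x
  set π' := QuotientGroup.lift B π hB with hπ'
  have hk : π'.ker = π.ker.map mk := QuotientGroup.ker_lift B π hB
  have hk2 : Nat.card π'.ker = 2 := by rw [hk, ← Subgroup.relIndex_ker, QuotientGroup.ker_mk', hB2]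
  obtain ⟨⟨z, hz⟩, hz1, huniq⟩ := (Nat.card_eq_two_iff' (1 : π'.ker)).mp hk2
  have hz1' : z ≠ 1 := fun e => hz1 (Subtype.ext e)
  have hker2 : ∀ q ∈ π'.ker, q = 1 ∨ q = z := fun q hq => by
    by_cases e : q = 1
    · exact Or.inl e
    · exact Or.inr (congrArg Subtype.val (huniq ⟨q, hq⟩ fun e' => e (congrArg Subtype.val e')))
  have hzc : ∀ q, q * z = z * q := by
    intro q
    have hm : q * z * q⁻¹ ∈ π'.ker := (MonoidHom.normal_ker π').conj_mem z hz q
    rcases hker2 _ hm with e | e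
    · exact absurd (conj_eq_one_iff.mp e) hz1'
    · exact mul_inv_eq_iff_eq_mul.mp e
  have hz2 : z * z = 1 := by
    rcases hker2 _ (mul_mem hz hz) with e | e
    · exact e
    · exact absurd (mul_eq_left.mp e) hz1'
  have hBM : B ≤ C0.M.ker := fun b hb => MonoidHom.mem_ker.mpr (C0.M_of_mem (hB hb))
  let MQ : X ⧸ B →* M2 := QuotientGroup.lift B C0.M hBM
  have hMQ : ∀ q, MQ q = 1 ↔ q ∈ π'.ker := fun q => by
    obtain ⟨x, rfl⟩ := QuotientGroup.mk'_surjective B q
    exact C0.ker x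
  obtain ⟨d, hd⟩ := C0.real D (Matrix.det_ne_zero_of_right_inverse D_inv)
  set a' := mk a with ha'
  set d' := mk d with hd'
  have hMa : MQ a' = J := haJ
  have hMd : MQ d' = D := hd
  have ha4' : a' ^ 4 = 1 := by rw [ha', ← map_pow]; exact (hone _).mpr ha4
  obtain ⟨u1, u2, u3, u4, u5⟩ := unitri
  let S : Subgroup (X ⧸ B) :=
    { carrier := {q | ∃ i : Fin 4, ∃ j : Fin 2, MQ q = J ^ (i : ℕ) * D ^ (j : ℕ)}
      one_mem' := ⟨0, 0, by simp⟩
      mul_mem' := by
        rintro p q ⟨i, j, hp⟩ ⟨i', j', hq⟩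
        obtain ⟨i'', j'', e⟩ := u1 i j i' j'
        exact ⟨i'', j'', by rw [map_mul, hp, hq, e]⟩
      inv_mem' := by
        rintro q ⟨i, j, hq⟩
        obtain ⟨i', j', e⟩ := u2 i j
        refine ⟨i', j', ?_⟩
        calc MQ q⁻¹ = MQ q⁻¹ * (MQ q * (J ^ (i' : ℕ) * D ^ (j' : ℕ))) := by rw [hq, e, mul_one]
          _ = _ := by rw [← mul_assoc, ← map_mul, inv_mul_cancel, map_one, one_mul] }
  have hzM : MQ z = 1 := (hMQ z).mpr hz
  have haS : a' ∈ S := ⟨1, 0, by rw [hMa]; simp⟩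
  have hdS : d' ∈ S := ⟨0, 1, by rw [hMd]; simp⟩
  have hzS : z ∈ S := ⟨0, 0, by rw [hzM]; simp⟩
  have hrep : ∀ q ∈ S, ∃ i : Fin 4, ∃ j : Fin 2, ∃ k : Fin 2, q = a' ^ (i : ℕ) * d' ^ (j : ℕ) * z ^ (k : ℕ) := by
    rintro q ⟨i, j, hq⟩
    have hm : (a' ^ (i : ℕ) * d' ^ (j : ℕ))⁻¹ * q ∈ π'.ker := by
      have hMpow : MQ (a' ^ (i : ℕ) * d' ^ (j : ℕ)) = J ^ (i : ℕ) * D ^ (j : ℕ) := by
        rw [map_mul, map_pow, map_pow, hMa, hMd]
      rw [← hMQ, map_mul, hq, ← hMpow, ← map_mul, inv_mul_cancel, map_one]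
    rcases hker2 _ hm with e | e
    · exact ⟨i, j, 0, by simp [inv_mul_eq_one.mp e]⟩
    · exact ⟨i, j, 1, by rw [Fin.val_one, pow_one, ← e, mul_inv_cancel_left]⟩
  have hS : Nat.card S = 16 := by
    let g : Fin 4 × Fin 2 × Fin 2 → S := fun t => ⟨a' ^ (t.1 : ℕ) * d' ^ (t.2.1 : ℕ) * z ^ (t.2.2 : ℕ),
      mul_mem (mul_mem (pow_mem haS _) (pow_mem hdS _)) (pow_mem hzS _)⟩
    have hgi : Function.Injective g := by
      rintro ⟨i, j, k⟩ ⟨i', j', k'⟩ e
      have e' : a' ^ (i : ℕ) * d' ^ (j : ℕ) * z ^ (k : ℕ) = a' ^ (i' : ℕ) * d' ^ (j' : ℕ) * z ^ (k' : ℕ) :=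
        congrArg Subtype.val e
      have eM := congrArg MQ e'
      simp only [map_mul, map_pow, hMa, hMd, hzM, one_pow, mul_one] at eM
      obtain ⟨rfl, rfl⟩ := u3 i j i' j' eM
      have ek := mul_left_cancel e'
      rw [Prod.mk.injEq, Prod.mk.injEq]
      refine ⟨rfl, rfl, ?_⟩
      fin_cases k <;> fin_cases k' <;> simp_all
    have hgs : Function.Surjective g := by
      rintro ⟨q, hq⟩
      obtain ⟨i, j, k, rfl⟩ := hrep q hq
      exact ⟨(i, j, k), rfl⟩
    rw [← Nat.card_congr (Equiv.ofBijective g ⟨hgi, hgs⟩), Nat.card_eq_fintype_card]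
    rfl
  have hidx : S.index = 21 := by
    have h1 := Subgroup.card_mul_index S
    have h2 := Subgroup.card_mul_index π'.ker
    have hsurj' : Function.Surjective π' := fun l => by
      obtain ⟨x, rfl⟩ := h.surj l
      exact ⟨mk x, rfl⟩
    rw [hk2, Subgroup.index_ker, MonoidHom.range_eq_top.mpr hsurj', Subgroup.card_top, h.card] at h2
    rw [hS, ← h2] at h1
    omega
  -- a commutative quotient of the unitriangular group in which the central element survives
  set c := d' * a' * d'⁻¹ * a'⁻¹ with hc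
  have hcS : c ∈ S := mul_mem (mul_mem (mul_mem hdS haS) (inv_mem hdS)) (inv_mem haS)
  have hMc : MQ c = T1 := by
    have e1 : MQ d'⁻¹ = D := by
      calc MQ d'⁻¹ = MQ d'⁻¹ * (MQ d' * D) := by rw [hMd, D_inv, mul_one]
        _ = D := by rw [← mul_assoc, ← map_mul, inv_mul_cancel, map_one, one_mul]
    have e2 : MQ a'⁻¹ = J * J * J := by
      calc MQ a'⁻¹ = MQ a'⁻¹ * (MQ a' * (J * J * J)) := by
            rw [hMa, show J * (J * J * J) = 1 by rw [← J_pow_four]; simp only [mul_assoc], mul_one]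
        _ = _ := by rw [← mul_assoc, ← map_mul, inv_mul_cancel, map_one, one_mul]
    rw [hc, map_mul, map_mul, map_mul, e1, e2, hMd, hMa, u5, u4]
  obtain ⟨k, hkk, hck⟩ : ∃ k ∈ π'.ker, c = a' ^ 2 * k := ⟨(a' ^ 2)⁻¹ * c, by
    rw [← hMQ, map_mul, hMc, ← u4, ← hMa, ← map_mul MQ, ← map_mul MQ, ← sq, inv_mul_cancel, map_one], by group⟩
  have hkc : ∀ q, q * k = k * q := by
    rcases hker2 k hkk with rfl | rfl
    · intro q; simp
    · exact hzc
  have hk2' : k * k = 1 := by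
    rcases hker2 k hkk with rfl | rfl
    · simp
    · exact hz2
  have hca : a' * c = c * a' := by
    rw [hck, mul_assoc (a' ^ 2) k, ← hkc a', ← mul_assoc (a' ^ 2), ← mul_assoc a', ← pow_succ, ← pow_succ']
  have hcc : c * c = 1 := by
    rw [hck, show a' ^ 2 * k * (a' ^ 2 * k) = a' ^ 2 * (k * a' ^ 2) * k by group, ← hkc,
      show a' ^ 2 * (a' ^ 2 * k) * k = a' ^ 4 * (k * k) by group, ha4', hk2', one_mul]
  have hdad : d' * a' * d'⁻¹ = a' ^ 3 * k := by
    rw [show d' * a' * d'⁻¹ = c * a' by rw [hc]; group, hck, mul_assoc, ← hkc a', ← mul_assoc, ← pow_succ]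
  have hcd : d' * c = c * d' := by
    refine mul_inv_eq_iff_eq_mul.mp ?_
    calc d' * c * d'⁻¹ = (d' * a' * d'⁻¹) * (d' * a' * d'⁻¹) * (d' * k * d'⁻¹) := by rw [hck, sq]; group
      _ = a' ^ 3 * (k * a' ^ 3) * k * k := by rw [hdad, hkc d']; group
      _ = c := by
        rw [← hkc (a' ^ 3), mul_assoc _ k k, hk2', mul_one, ← mul_assoc, ← pow_add,
          show 3 + 3 = 4 + 2 from rfl, pow_add, ha4', one_mul, ← hck]
  let N : Subgroup S := (Subgroup.zpowers c).subgroupOf S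
  have hcen : ∀ q ∈ S, q * c = c * q := by
    intro q hq
    obtain ⟨i, j, l, rfl⟩ := hrep q hq
    exact (((Commute.pow_left hca _).mul_left (Commute.pow_left hcd _)).mul_left
      (Commute.pow_left (show Commute z c from (hzc c).symm) _)).eq
  haveI hNn : N.Normal := ⟨fun n hn g => by
    rw [Subgroup.mem_subgroupOf] at hn ⊢
    obtain ⟨m, hm⟩ := Subgroup.mem_zpowers_iff.mp hn
    have : (g : X ⧸ B) * (n : X ⧸ B) * (g : X ⧸ B)⁻¹ = n := by
      rw [← hm, ((show Commute (g : X ⧸ B) c from hcen g g.2).zpow_right m).eq, mul_inv_cancel_right]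
    show ((g * n * g⁻¹ : S) : X ⧸ B) ∈ _
    rw [Subgroup.coe_mul, Subgroup.coe_mul, Subgroup.coe_inv, this]
    exact hn⟩
  let φ : S →* S ⧸ N := QuotientGroup.mk' N
  have hrepφ : ∀ x : S ⧸ N, ∃ i j l : ℕ, x = φ ⟨a', haS⟩ ^ i * φ ⟨d', hdS⟩ ^ j * φ ⟨z, hzS⟩ ^ l := by
    intro x
    obtain ⟨⟨q, hq⟩, rfl⟩ := QuotientGroup.mk'_surjective N x
    obtain ⟨i, j, l, rfl⟩ := hrep q hq
    refine ⟨i, j, l, ?_⟩
    show φ _ = _
    simp only [← map_pow, ← map_mul]
    rfl
  have had : Commute (φ ⟨a', haS⟩) (φ ⟨d', hdS⟩) := by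
    show φ _ * φ _ = φ _ * φ _
    rw [← map_mul, ← map_mul]
    refine (QuotientGroup.eq.mpr ?_).symm
    rw [Subgroup.mem_subgroupOf]
    show ((d' * a')⁻¹ * (a' * d') : X ⧸ B) ∈ _
    have e : (d' * a')⁻¹ * (a' * d') = (d' * a')⁻¹ * c⁻¹ * (d' * a') := by rw [hc]; group
    rw [e, ((show Commute (d' * a') c from hcen _ (mul_mem hdS haS)).inv_left.inv_right).eq, inv_mul_cancel_right]
    exact inv_mem (Subgroup.mem_zpowers c)
  have hzl : ∀ x : S ⧸ N, Commute (φ ⟨z, hzS⟩) x := fun x => by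
    obtain ⟨q, rfl⟩ := QuotientGroup.mk'_surjective N x
    show φ _ * φ _ = φ _ * φ _
    rw [← map_mul, ← map_mul]
    exact congrArg φ (Subtype.ext (hzc (q : X ⧸ B)).symm)
  have hcomm : ∀ x y : S ⧸ N, x * y = y * x := by
    have hA : ∀ y : S ⧸ N, Commute (φ ⟨a', haS⟩) y ∧ Commute (φ ⟨d', hdS⟩) y := by
      intro y
      obtain ⟨i, j, l, rfl⟩ := hrepφ y
      exact ⟨((Commute.refl _).pow_right i |>.mul_right (had.pow_right j)).mul_right ((hzl _).symm.pow_right l),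
        ((had.symm.pow_right i).mul_right ((Commute.refl _).pow_right j)).mul_right ((hzl _).symm.pow_right l)⟩
    intro x y
    obtain ⟨i, j, l, rfl⟩ := hrepφ x
    exact ((((hA y).1.pow_left i).mul_left ((hA y).2.pow_left j)).mul_left ((hzl y).pow_left l)).eq
  letI : CommGroup (S ⧸ N) := { (inferInstance : Group (S ⧸ N)) with mul_comm := hcomm }
  let T : X ⧸ B →* S ⧸ N := MonoidHom.transfer φ
  have key : ∀ (m : ℕ) (g₀ : X ⧸ B), g₀⁻¹ * z ^ m * g₀ ∈ S → g₀⁻¹ * z ^ m * g₀ = z ^ m := fun m g₀ _ => by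
    rw [mul_assoc, ← ((show Commute g₀ z from hzc g₀).pow_right m).eq, inv_mul_cancel_left]
  have hTz : T z ≠ 1 := by
    intro e
    have hpow : z ^ S.index = z := by
      rw [hidx, show (21 : ℕ) = 2 * 10 + 1 from rfl, pow_succ, pow_mul, sq, hz2, one_pow, one_mul]
    have e' : z ∈ Subgroup.zpowers c := by
      have := (MonoidHom.transfer_eq_pow φ z key).symm.trans e
      rw [show φ _ = 1 ↔ _ from QuotientGroup.eq_one_iff _, Subgroup.mem_subgroupOf] at this
      simpa [hpow] using this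
    obtain ⟨m, hm⟩ := Subgroup.mem_zpowers_iff.mp e'
    obtain ⟨r, hr⟩ | ⟨r, hr⟩ := Int.even_or_odd m
    · apply hz1'
      rw [← hm, hr, _root_.zpow_add, ← (Commute.refl c).mul_zpow, hcc, _root_.one_zpow]
    · refine T1_ne ?_
      rw [← hMc, ← hzM, ← hm, hr, _root_.zpow_add, _root_.zpow_mul, zpow_two, hcc, _root_.one_zpow, one_mul, zpow_one]
  have hTz2 : T z * T z = 1 := by rw [← map_mul, hz2, map_one]
  let U : Subgroup (S ⧸ N) := Subgroup.zpowers (T z)
  have hU : ∀ x : X, T (mk x) ∈ U := by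
    intro x
    have hle : π.ker ≤ ((QuotientGroup.mk' U).comp (T.comp mk)).ker := fun p hp => by
      rw [MonoidHom.mem_ker]
      show QuotientGroup.mk' U (T (mk p)) = 1
      refine (QuotientGroup.eq_one_iff _).mpr ?_
      rcases hker2 _ (hk ▸ Subgroup.mem_map_of_mem mk hp : mk p ∈ π'.ker) with e | e
      · rw [e, map_one]; exact one_mem _
      · rw [e]; exact Subgroup.mem_zpowers _
    exact (QuotientGroup.eq_one_iff _).mp (h.hom_trivial _ hle x)
  have hU2 : ∀ w ∈ U, w = 1 ∨ w = T z := by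
    intro w hw
    obtain ⟨m, rfl⟩ := Subgroup.mem_zpowers_iff.mp hw
    obtain ⟨r, rfl⟩ | ⟨r, rfl⟩ := Int.even_or_odd m
    · left; rw [_root_.zpow_add, ← (Commute.refl (T z)).mul_zpow, hTz2, _root_.one_zpow]
    · right; rw [_root_.zpow_add, _root_.zpow_mul, zpow_two, hTz2, _root_.one_zpow, one_mul, zpow_one]
  obtain ⟨p0, hp0, hp0z⟩ := (hk ▸ hz : z ∈ π.ker.map mk)
  refine ⟨(T.comp mk).ker, fun l => ?_, le_antisymm ?_ ?_, ?_⟩
  · obtain ⟨x, rfl⟩ := h.surj l
    rcases hU2 _ (hU x) with e | e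
    · exact ⟨x, e, rfl⟩
    · refine ⟨x * p0, ?_, by rw [map_mul, MonoidHom.mem_ker.mp hp0, mul_one]⟩
      show T (mk (x * p0)) = 1
      rw [map_mul, map_mul, e, hp0z, hTz2]
  · rintro p ⟨hp1, hp2⟩
    rcases hker2 _ (hk ▸ Subgroup.mem_map_of_mem mk hp2 : mk p ∈ π'.ker) with e | e
    · exact (hone p).mp e
    · exfalso
      have : T (mk p) = 1 := hp1
      exact hTz (e ▸ this)
  · intro b hb
    refine ⟨?_, hB hb⟩
    show T (mk b) = 1
    rw [(hone b).mpr hb, map_one]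
  · rw [Subgroup.index_ker]
    have hr : (T.comp mk).range = U := le_antisymm (by rintro _ ⟨x, rfl⟩; exact hU x)
      (Subgroup.zpowers_le.mpr ⟨p0, by show T (mk p0) = _; rw [hp0z]⟩)
    rw [hr, Nat.card_zpowers]
    exact orderOf_eq_prime (by rw [sq, hTz2]) hTz

/-- In that situation the kernel of index two is small. -/
theorem Base.card_le_of_two (h : Base π) (hF : Faith π) (IH : Smaller X L) {A B0 : Subgroup X}
    (C0 : Coord π A B0) (B : Subgroup X) [B.Normal] (hB : B ≤ π.ker) (hB2 : B.relIndex π.ker = 2) {a : X}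
    (haJ : C0.M a = J) (ha4 : a ^ 4 ∈ B) : Nat.card B ≤ 32 := by
  obtain ⟨X1, hcov, hX1, hidx⟩ := h.exists_two C0 B hB hB2 haJ ha4
  have hmemB : ∀ x : X1, π x = 1 → (x : X) ∈ B := fun x hx => hX1 ▸ ⟨x.2, hx⟩
  have hBX : ∀ b ∈ B, b ∈ X1 := fun b hb => (hX1 ▸ hb : b ∈ X1 ⊓ π.ker).1
  let π1 : X1 →* L := π.comp X1.subtype
  have hk : π1.ker = B.subgroupOf X1 := by
    ext x
    exact ⟨fun hx => hmemB x hx, fun hx => hB hx⟩
  have hcard : Nat.card π1.ker = Nat.card B := by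
    rw [hk]
    exact Nat.card_congr (Subgroup.subgroupOfEquivOfLe (fun b hb => hBX b hb)).toEquiv
  have hb : Base π1 := by
    refine ⟨fun l => ?_, ?_, CfsgLib.AltEight.Sixteen.sectional_of_section h.rank X1.subtype
      X1.subtype_injective (MonoidHom.id _) Function.surjective_id, h.simple, h.card⟩
    · obtain ⟨x, hx, hxl⟩ := hcov l
      exact ⟨⟨x, hx⟩, hxl⟩
    · rw [hk]
      exact (h.two.to_le hB).of_equiv (Subgroup.subgroupOfEquivOfLe (fun b hb => hBX b hb)).symm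
  have hlt : Nat.card X1 < Nat.card X := by
    rw [← Subgroup.card_mul_index X1, hidx]
    exact lt_mul_of_one_lt_right Nat.card_pos (by norm_num)
  have hfaith : Faith π1 := by
    intro x hx
    by_contra hx1
    let Cc : Subgroup X1 := Subgroup.centralizer (π1.ker : Set X1)
    obtain ⟨s, hsC, hs7, hs1⟩ := hb.seven_in Cc (a := x) (Subgroup.mem_centralizer_iff.mpr fun p hp => (hx p hp).symm) hx1
    have hs7' : (s : X) ^ 7 = 1 := by rw [← SubmonoidClass.coe_pow, hs7]; rfl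
    have hcB : ∀ b ∈ B, (s : X) * b = b * s := fun b hb =>
      (congrArg Subtype.val (Subgroup.mem_centralizer_iff.mp hsC ⟨b, hBX b hb⟩ (hB hb))).symm
    obtain ⟨p, hp, hne⟩ := hF.moves_mod h hs7' hs1 hB hcB
    -- the quotient of order two has no automorphism of order seven
    have hind := hB2
    haveI : (B.subgroupOf π.ker).Normal := inferInstance
    have h2 : ∀ u ∈ π.ker, u ∉ B → p ∉ B → u⁻¹ * p ∈ B := fun u hu huB hpB => by
      have := (Subgroup.mul_mem_iff_of_index_two (H := B.subgroupOf π.ker) hind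
        (a := ⟨u⁻¹, inv_mem hu⟩) (b := ⟨p, hp⟩))
      simp only [Subgroup.mem_subgroupOf] at this
      exact this.mpr ⟨fun hh => absurd (inv_mem_iff.mp hh) huB, fun hh => absurd hh hpB⟩
    by_cases hpB : p ∈ B
    · exact hne (mul_mem ((inferInstance : B.Normal).conj_mem p hpB s) (inv_mem hpB))
    · have hcB' : (s : X) * p * (s : X)⁻¹ ∉ B := fun hh => hpB (by
        have := (inferInstance : B.Normal).conj_mem _ hh (s : X)⁻¹
        simpa [mul_assoc] using this)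
      have := h2 _ ((MonoidHom.normal_ker π).conj_mem p hp s) hcB' hpB
      have := (inferInstance : B.Normal).conj_mem _ (inv_mem this) p
      exact hne (by simpa [mul_assoc] using this)
  rcases IH X1 π1 hlt hb hfaith with ⟨hc, -⟩ | ⟨hc, -⟩ <;> omega

theorem mem_normalizer_of_conj_mem {K : Subgroup X} {g : X} (hg : ∀ k ∈ K, g * k * g⁻¹ ∈ K) :
    g ∈ Subgroup.normalizer (K : Set X) := by
  have hle : K.map (MulAut.conj g).toMonoidHom ≤ K := by
    rintro _ ⟨k, hk, rfl⟩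
    exact hg k hk
  have he : K.map (MulAut.conj g).toMonoidHom = K :=
    Subgroup.eq_of_le_of_card_ge hle (Subgroup.card_map_of_injective (MulAut.conj g).injective).ge
  rw [Subgroup.mem_normalizer_iff]
  intro n
  refine ⟨hg n, fun hn => ?_⟩
  obtain ⟨k, hk, hke⟩ : g * n * g⁻¹ ∈ K.map (MulAut.conj g).toMonoidHom := by rwa [he]
  exact (MulAut.conj g).injective (a₁ := k) (a₂ := n) hke ▸ hk

/-- Five independent involutions in a section are too many. -/
theorem Base.five (h : Base π) {A B0 : Subgroup X} (C0 : Coord π A B0) (H K : Subgroup X) (hKH : K ≤ H)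
    (hH : H ≤ π.ker) (hHc : ∀ a ∈ H, ∀ b ∈ H, a * b = b * a) (hsq : ∀ a ∈ H, a * a ∈ K)
    (hcard : 8 * Nat.card K ≤ Nat.card H) {t1 t2 : X} (h1 : C0.M t1 = T1) (h2 : C0.M t2 = T2)
    (hc1 : ∀ a ∈ H, t1 * a * t1⁻¹ * a⁻¹ ∈ K) (hc2 : ∀ a ∈ H, t2 * a * t2⁻¹ * a⁻¹ ∈ K) (hs1 : t1 * t1 ∈ K)
    (hs2 : t2 * t2 ∈ K) (hq : t1 * t2 * t1⁻¹ * t2⁻¹ ∈ K) : False := by
  let gens : Set X := (H : Set X) ∪ {t1, t2}
  let G' := Subgroup.closure gens
  have hconj : ∀ t : X, (∀ a ∈ H, t * a * t⁻¹ * a⁻¹ ∈ K) → ∀ k ∈ K, t * k * t⁻¹ ∈ K := fun t ht k hk => by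
    simpa using mul_mem (ht k (hKH hk)) hk
  have hgn : ∀ g ∈ gens, g ∈ Subgroup.normalizer (K : Set X) := by
    rintro g (hg | rfl | rfl)
    · refine mem_normalizer_of_conj_mem fun k hk => ?_
      rwa [hHc g hg k (hKH hk), mul_inv_cancel_right]
    · exact mem_normalizer_of_conj_mem (hconj _ hc1)
    · exact mem_normalizer_of_conj_mem (hconj _ hc2)
  -- commutators of generators
  have hinv : ∀ g w : X, g ∈ gens → w ∈ gens → g * w * g⁻¹ * w⁻¹ ∈ K → w * g * w⁻¹ * g⁻¹ ∈ K := fun g w _ _ hk => by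
    simpa [mul_assoc] using inv_mem hk
  have hgc : ∀ g ∈ gens, ∀ w ∈ gens, g * w * g⁻¹ * w⁻¹ ∈ K := by
    have hHH : ∀ a ∈ H, ∀ b ∈ H, a * b * a⁻¹ * b⁻¹ ∈ K := fun a ha b hb => by
      rw [hHc a ha b hb, mul_inv_cancel_right, mul_inv_cancel]; exact one_mem _
    have hone : ∀ t : X, t * t * t⁻¹ * t⁻¹ ∈ K := fun t => by simp
    rintro g hg w hw
    rcases id hg with hgH | rfl | rfl <;> rcases id hw with hwH | rfl | rfl
    · exact hHH g hgH w hwH
    · exact hinv _ _ hw hg (hc1 g hgH)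
    · exact hinv _ _ hw hg (hc2 g hgH)
    · exact hc1 w hwH
    · exact hone _
    · exact hq
    · exact hc2 w hwH
    · exact hinv _ _ hw hg hq
    · exact hone _
  have hgs : ∀ g ∈ gens, g * g ∈ K := by
    rintro g (hg | rfl | rfl)
    exacts [hsq g hg, hs1, hs2]
  have hGN : G' ≤ Subgroup.normalizer (K : Set X) := (Subgroup.closure_le _).mpr hgn
  let N' : Subgroup X := Subgroup.normalizer (K : Set X)
  haveI : (K.subgroupOf N').Normal := Subgroup.normal_in_normalizer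
  let mk := QuotientGroup.mk' (K.subgroupOf N')
  have hmk : ∀ x : N', mk x = 1 ↔ (x : X) ∈ K := fun x =>
    (QuotientGroup.eq_one_iff x).trans Subgroup.mem_subgroupOf
  let gN : Set N' := {x | (x : X) ∈ gens}
  have hcomm : ∀ g ∈ gN, ∀ w ∈ gN, mk g * mk w = mk w * mk g := fun g hg w hw => by
    refine mul_inv_eq_iff_eq_mul.mp (mul_inv_eq_one.mp ?_)
    rw [← map_inv, ← map_inv, ← map_mul, ← map_mul, ← map_mul, hmk]
    exact hgc _ hg _ hw
  have hsqG : ∀ x ∈ Subgroup.closure gN, (∀ g ∈ gN, mk x * mk g = mk g * mk x) ∧ mk x * mk x = 1 := by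
    intro x hx
    induction hx using Subgroup.closure_induction with
    | mem x hx => exact ⟨hcomm x hx, by rw [← map_mul, hmk]; exact hgs _ hx⟩
    | one => exact ⟨fun g _ => by rw [map_one, one_mul, mul_one], by rw [map_one, one_mul]⟩
    | mul x y hx hy ihx ihy =>
      have hxy : Commute (mk x) (mk y) := by
        clear ihy
        induction hy using Subgroup.closure_induction with
        | mem g hg => exact ihx.1 g hg
        | one => rw [map_one]; exact Commute.one_right _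
        | mul p q _ _ ihp ihq => rw [map_mul]; exact ihp.mul_right ihq
        | inv p _ ihp => rw [map_inv]; exact ihp.inv_right
      refine ⟨fun g hg => ?_, ?_⟩
      · rw [map_mul]
        exact ((show Commute (mk x) (mk g) from ihx.1 g hg).mul_left (ihy.1 g hg)).eq
      · rw [map_mul, hxy.symm.mul_mul_mul_comm, ihx.2, ihy.2, one_mul]
    | inv x _ ih =>
      rw [map_inv]
      exact ⟨fun g hg => (show Commute (mk x) (mk g) from ih.1 g hg).inv_left.eq, by rw [← _root_.mul_inv_rev, ih.2, inv_one]⟩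
  have hG : ∀ x ∈ G', ∃ hx : x ∈ N', (⟨x, hx⟩ : N') ∈ Subgroup.closure gN := by
    intro x hx
    induction hx using Subgroup.closure_induction with
    | mem g hg => exact ⟨hgn g hg, Subgroup.subset_closure hg⟩
    | one => exact ⟨one_mem _, one_mem _⟩
    | mul p q _ _ ihp ihq => exact ⟨mul_mem ihp.1 ihq.1, mul_mem ihp.2 ihq.2⟩
    | inv p _ ihp => exact ⟨inv_mem ihp.1, inv_mem ihp.2⟩
  have hle := CfsgLib.RankFour.relIndex_le_of_sq_mem h.rank (X := G') (N := K)
    (fun x hx k hk => ((Subgroup.mem_normalizer_iff.mp (hGN hx)) k).mp hk)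
    (fun x hx => by
      obtain ⟨hx', hxc⟩ := hG x hx
      have := (hsqG _ hxc).2
      rwa [← map_mul, hmk] at this)
  have hHG : H ≤ G' := fun a ha => Subgroup.subset_closure (Or.inl ha)
  have hm := Subgroup.relIndex_mul_relIndex K H G' hKH hHG
  have hK8 : 8 ≤ K.relIndex H := by
    have h3 := Subgroup.relIndex_mul_relIndex ⊥ K H bot_le hKH
    rw [Subgroup.relIndex_bot_left, Subgroup.relIndex_bot_left] at h3
    have h4 : 0 < Nat.card K := Nat.card_pos
    nlinarith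
  have h4 : 4 ≤ H.relIndex G' := by
    have hd : π.ker.relIndex G' ∣ H.relIndex G' := Subgroup.relIndex_dvd_of_le_left G' hH
    refine le_trans ?_ (Nat.le_of_dvd (Nat.pos_of_ne_zero Subgroup.index_ne_zero_of_finite) hd)
    rw [Subgroup.relIndex_ker]
    haveI := h.finite
    let e : Fin 4 → G'.map π := fun i => ⟨π (![1, t1, t2, t1 * t2] i), Subgroup.mem_map_of_mem π (by
      fin_cases i
      · exact one_mem _
      · exact Subgroup.subset_closure (Or.inr (Or.inl rfl))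
      · exact Subgroup.subset_closure (Or.inr (Or.inr rfl))
      · exact mul_mem (Subgroup.subset_closure (Or.inr (Or.inl rfl))) (Subgroup.subset_closure (Or.inr (Or.inr rfl))))⟩
    have he : Function.Injective e := by
      intro i j hij
      have e' : C0.M ((![1, t1, t2, t1 * t2] i)⁻¹ * ![1, t1, t2, t1 * t2] j) = 1 := by
        have hp : π (![1, t1, t2, t1 * t2] i) = π (![1, t1, t2, t1 * t2] j) := congrArg Subtype.val hij
        rw [C0.ker, map_mul, map_inv, hp, inv_mul_cancel]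
      have e'' : C0.M (![1, t1, t2, t1 * t2] i) = C0.M (![1, t1, t2, t1 * t2] j) := by
        rw [← mul_one (C0.M (![1, t1, t2, t1 * t2] i)), ← e', ← map_mul, mul_inv_cancel_left]
      fin_cases i <;> fin_cases j <;> first
        | rfl
        | (exfalso
           simp [h1, h2] at e''
           revert e''
           decide +kernel)
    simpa using Nat.card_le_card_of_injective e he
  nlinarith

end CfsgLib.RankFour.LThree
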